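import Cfsg.Agent.S1853

/-! Transfer into a cyclic quotient of a subgroup of odd index, with an extremal conjugate. -/

set_option autoImplicit false

namespace Cfsg.Agent.DIH.BM

open Cfsg.Agent.S1853 (out_mem transfer_eq_prod_out eq_of_sq)

theorem transfer_cyc {G : Type*} [Group G] [Finite G] (S T : Subgroup G) (hS : ¬ 2 ∣ S.index) (hTS : T ≤ S)
    [hTn : (T.subgroupOf S).Normal] (hcyc : IsCyclic (S ⧸ T.subgroupOf S))
    (y : G) (hG : y ∈ commutator G) (hy2 : y * y = 1) (hyS : y ∈ S) (hyT : y ∉ T) (R : Subgroup G) (hR : IsPGroup 2 R)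
    (hRy : R ≤ Subgroup.centralizer {y}) :
    ∃ g : G, g * y * g⁻¹ ∈ T ∧ ∀ r ∈ R, g * r * g⁻¹ ∈ S := by
  classical
  have : Fintype (G ⧸ S) := Fintype.ofFinite _
  letI : CommGroup (S ⧸ T.subgroupOf S) := IsCyclic.commGroup
  let ϕ : S →* (S ⧸ T.subgroupOf S) :=
    QuotientGroup.mk' (T.subgroupOf S)
  have hϕ : ∀ s : S, ϕ s = 1 ↔ (s : G) ∈ T := fun s =>
    QuotientGroup.eq_one_iff s
  have hyi : y⁻¹ = y := inv_eq_of_mul_eq_one_right hy2
  have hTconj : ∀ s ∈ S, ∀ t ∈ T, s * t * s⁻¹ ∈ T := fun s hs t ht =>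
    hTn.conj_mem ⟨t, hTS ht⟩ ht ⟨s, hs⟩
  let X : SubMulAction R (G ⧸ S) :=
    { carrier := {q | q.out⁻¹ * y * q.out ∈ T}
      smul_mem' := by
        intro r q hq
        obtain ⟨s, hs⟩ := QuotientGroup.mk_out_eq_mul S ((r : G) * q.out)
        have h1 : r • q = (((r : G) * q.out : G) : G ⧸ S) := by
          rw [← smul_eq_mul, MulAction.Quotient.coe_smul_out]; rfl
        show (r • q).out⁻¹ * y * (r • q).out ∈ T
        rw [h1, hs]
        have h2 := Subgroup.mem_centralizer_singleton_iff.mp (hRy r.2)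
        have h3 : ((r : G) * q.out * s)⁻¹ * y * (r * q.out * s) =
            (s : G)⁻¹ * (q.out⁻¹ * y * q.out) * (s : G)⁻¹⁻¹ := by
          calc ((r : G) * q.out * s)⁻¹ * y * (r * q.out * s)
              = (s : G)⁻¹ * q.out⁻¹ * (r : G)⁻¹ * (y * r) * q.out * s := by group
            _ = (s : G)⁻¹ * q.out⁻¹ * (r : G)⁻¹ * (r * y) * q.out * s := by rw [h2]
            _ = _ := by group
        rw [h3]
        exact hTconj _ (S.inv_mem s.2) _ hq }
  have hX : ∀ q, q ∈ X ↔ q.out⁻¹ * y * q.out ∈ T := fun q => Iff.rfl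
  have hfix : ∀ q : G ⧸ S, q.out⁻¹ * y * q.out ∈ S ↔ y⁻¹ • q = q := by
    intro q
    rw [hyi, mul_assoc, ← QuotientGroup.eq, QuotientGroup.out_eq', ← smul_eq_mul,
      MulAction.Quotient.coe_smul_out, eq_comm]
  let f : G ⧸ S → _ := fun q => ϕ ⟨q.out⁻¹ * (y * (y⁻¹ • q).out), out_mem _ y q⟩
  have hV : ∏ q, f q = 1 := by
    rw [← transfer_eq_prod_out ϕ y]
    have : commutator G ≤ (MonoidHom.transfer ϕ).ker := Abelianization.commutator_subset_ker _
    exact this hG
  set z := ϕ ⟨y, hyS⟩ with hz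
  have hz1 : z ≠ 1 := fun h => hyT ((hϕ _).mp h)
  have hz2 : z ^ 2 = 1 := by
    rw [hz, ← map_pow, hϕ]
    simp only [sq, Subgroup.coe_mul, hy2, T.one_mem]
  have hyy : ∀ q : G ⧸ S, y⁻¹ • y⁻¹ • q = q := by
    intro q; rw [hyi, smul_smul, hy2, one_smul]
  have hpair : ∀ q, f q * f (y⁻¹ • q) = 1 := by
    intro q
    simp only [f]
    rw [← map_mul, hϕ]
    simp only [Subgroup.coe_mul, hyy]
    have : q.out⁻¹ * (y * (y⁻¹ • q).out) * ((y⁻¹ • q).out⁻¹ * (y * q.out)) =
        q.out⁻¹ * (y * y) * q.out := by group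
    rw [this, hy2]; simp [T.one_mem]
  have h1 : ∏ q ∈ Finset.univ.filter (fun q => q ∈ X), f q = 1 := by
    refine Finset.prod_eq_one fun q hq => ?_
    have hq' := (hX q).mp (Finset.mem_filter.mp hq).2
    simp only [f]
    rw [hϕ]
    simp only [(hfix q).mp (hTS hq'), ← mul_assoc]
    exact hq'
  have h2 : ∏ q ∈ Finset.univ.filter (fun q => q ∉ X), (f q * z) = 1 := by
    refine Finset.prod_involution (fun q _ => y⁻¹ • q) ?_ ?_ ?_ ?_
    · intro q _
      rw [mul_mul_mul_comm, hpair, ← sq, hz2, one_mul]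
    · intro q hq hne hfx
      apply hne
      have hq' := (Finset.mem_filter.mp hq).2
      have hfq : f q = z := by
        refine eq_of_sq ?_ hz2 ?_ hz1
        · have := hpair q
          rw [hfx] at this
          rw [sq, this]
        · simp only [f]
          rw [Ne, hϕ]
          simp only [hfx, ← mul_assoc]
          exact hq'
      rw [hfq, ← sq, hz2]
    · intro q hq
      simp only [Finset.mem_filter, Finset.mem_univ, true_and] at hq ⊢
      intro h
      have h' := (hfix _).mp (hTS ((hX _).mp h))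
      rw [hyy] at h'
      exact hq (h' ▸ h)
    · intro q _
      exact hyy q
  rw [← Finset.prod_filter_mul_prod_filter_not Finset.univ (fun q => q ∈ X), h1, one_mul] at hV
  rw [Finset.prod_mul_distrib, hV, one_mul, Finset.prod_const] at h2
  have hoz : orderOf z = 2 := orderOf_eq_prime hz2 hz1
  have heven : 2 ∣ (Finset.univ.filter (fun q => q ∉ X)).card := by
    have h5 := orderOf_dvd_of_pow_eq_one h2
    rwa [hoz] at h5
  have hodd : ¬ 2 ∣ Nat.card X := by
    intro h
    apply hS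
    have h3 := Finset.card_filter_add_card_filter_not (s := Finset.univ) (fun q => q ∈ X)
    rw [Subgroup.index, Nat.card_eq_fintype_card, ← Finset.card_univ, ← h3]
    refine dvd_add ?_ heven
    rwa [Nat.card_eq_fintype_card, Fintype.card_subtype] at h
  obtain ⟨⟨q, hq⟩, hqf⟩ := hR.nonempty_fixed_point_of_prime_not_dvd_card X hodd
  refine ⟨q.out⁻¹, by simpa using (hX q).mp hq, fun r hr => ?_⟩
  have h4 : r • q = q := congrArg Subtype.val (hqf ⟨r, hr⟩)
  rw [inv_inv, mul_assoc, ← QuotientGroup.eq, QuotientGroup.out_eq', ← smul_eq_mul,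
      MulAction.Quotient.coe_smul_out, h4]

end Cfsg.Agent.DIH.BM
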