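import Cfsg.Agent.H14.Loop

/-! Project DIH: the twelve subgroups of the group of invertible four by four matrices over the
field with two elements. -/

set_option autoImplicit false

namespace Cfsg.Agent.DIH.Ty1

open H14

/-- the images of the basis -/
abbrev M := ℕ × ℕ × ℕ × ℕ

/-- a matrix applied to a vector -/
def app (m : M) (v : ℕ) : ℕ :=
  Nat.xor (Nat.xor (Nat.xor (Nat.mul (Nat.mod v 2) m.1) (Nat.mul (Nat.mod (Nat.div v 2) 2) m.2.1))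
    (Nat.mul (Nat.mod (Nat.div v 4) 2) m.2.2.1)) (Nat.mul (Nat.mod (Nat.div v 8) 2) m.2.2.2)

/-- the product -/
def cmp (m n : M) : M := (app m n.1, app m n.2.1, app m n.2.2.1, app m n.2.2.2)

/-- the product, evaluated -/
noncomputable def cmpK (m n : M) (k : M → Bool) : Bool :=
  force (app m n.1) fun a => force (app m n.2.1) fun b => force (app m n.2.2.1) fun c =>
    force (app m n.2.2.2) fun d => k (a, b, c, d)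

/-- equality -/
def eqM (x y : M) : Bool :=
  Nat.beq x.1 y.1 && (Nat.beq x.2.1 y.2.1 && (Nat.beq x.2.2.1 y.2.2.1 && Nat.beq x.2.2.2 y.2.2.2))

/-- a violation of the rules -/
def bad (m : M) : Bool := Nat.ble m.2.2.1 3 ||
  (Nat.beq m.2.2.1 4 && !(Nat.beq m.2.2.2 8 && Nat.ble m.1 3 && Nat.ble m.2.1 3))

/-- the stabiliser -/
def s3 : List M := [(1, 2, 4, 8), (1, 3, 4, 8), (2, 1, 4, 8), (2, 3, 4, 8), (3, 1, 4, 8), (3, 2, 4, 8)]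

/-- the groups with a generator -/
def gs : List (M × List M) := [((1, 2, 4, 8), [(2, 1, 4, 8), (3, 2, 4, 8), (3, 1, 4, 8), (1, 2, 4, 8), (1, 3, 4, 8),
  (2, 3, 4, 8)]), ((1, 2, 8, 4), [(2, 1, 8, 4), (3, 2, 8, 4), (3, 1, 8, 4), (1, 3, 8, 4), (1, 2, 4, 8), (2, 1, 4, 8),
  (2, 3, 8, 4), (3, 2, 4, 8), (3, 1, 4, 8), (1, 2, 8, 4), (1, 3, 4, 8), (2, 3, 4, 8)]), ((1, 2, 12, 8), [(2, 1, 12, 8),
  (3, 2, 12, 8), (3, 1, 12, 8), (1, 3, 12, 8), (1, 2, 4, 8), (2, 1, 4, 8), (2, 3, 12, 8), (3, 2, 4, 8), (3, 1, 4, 8),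
  (1, 2, 12, 8), (1, 3, 4, 8), (2, 3, 4, 8)]), ((1, 2, 8, 12), [(2, 1, 12, 4), (3, 2, 12, 4), (3, 1, 12, 4), (1, 3, 12, 4),
  (2, 1, 8, 12), (2, 3, 12, 4), (3, 2, 8, 12), (3, 1, 8, 12), (1, 2, 12, 4), (1, 3, 8, 12), (1, 2, 4, 8), (2, 1, 4, 8),
  (2, 3, 8, 12), (3, 2, 4, 8), (3, 1, 4, 8), (1, 2, 8, 12), (1, 3, 4, 8), (2, 3, 4, 8)]), ((1, 2, 12, 4), [(2, 1, 8, 12),
  (3, 2, 8, 12), (3, 1, 8, 12), (1, 3, 8, 12), (2, 1, 12, 4), (2, 3, 8, 12), (3, 2, 12, 4), (3, 1, 12, 4), (1, 2, 8, 12),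
  (1, 3, 12, 4), (1, 2, 4, 8), (2, 1, 4, 8), (2, 3, 12, 4), (3, 2, 4, 8), (3, 1, 4, 8), (1, 2, 12, 4), (1, 3, 4, 8),
  (2, 3, 4, 8)]), ((1, 2, 5, 9), [(1, 3, 7, 11), (3, 2, 6, 10), (2, 1, 7, 11), (1, 2, 7, 11), (1, 3, 6, 10), (1, 2, 6, 10),
  (2, 3, 7, 11), (3, 2, 7, 11), (3, 1, 7, 11), (2, 1, 6, 10), (2, 1, 5, 9), (3, 1, 6, 10), (3, 2, 5, 9), (3, 1, 5, 9),
  (2, 3, 6, 10), (1, 3, 5, 9), (1, 2, 4, 8), (2, 1, 4, 8), (2, 3, 5, 9), (3, 2, 4, 8), (3, 1, 4, 8), (1, 2, 5, 9),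
  (1, 3, 4, 8), (2, 3, 4, 8)]), ((1, 10, 13, 8), [(9, 3, 15, 8), (11, 2, 14, 8), (10, 9, 15, 8), (9, 10, 15, 8),
  (9, 11, 14, 8), (9, 2, 14, 8), (10, 3, 15, 8), (3, 10, 15, 8), (3, 9, 15, 8), (2, 9, 14, 8), (10, 1, 13, 8),
  (11, 9, 14, 8), (11, 10, 13, 8), (11, 1, 13, 8), (2, 11, 14, 8), (1, 11, 13, 8), (1, 2, 4, 8), (2, 1, 4, 8),
  (10, 11, 13, 8), (3, 2, 4, 8), (3, 1, 4, 8), (1, 10, 13, 8), (1, 3, 4, 8), (2, 3, 4, 8)]), ((1, 2, 5, 8), [(1, 3, 7, 8),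
  (3, 2, 6, 8), (2, 1, 7, 8), (1, 2, 7, 8), (1, 3, 6, 8), (1, 2, 6, 8), (2, 3, 7, 8), (3, 2, 7, 8), (3, 1, 7, 8), (2, 1, 6, 8),
  (2, 1, 5, 8), (3, 1, 6, 8), (3, 2, 5, 8), (3, 1, 5, 8), (2, 3, 6, 8), (1, 3, 5, 8), (1, 2, 4, 8), (2, 1, 4, 8), (2, 3, 5, 8),
  (3, 2, 4, 8), (3, 1, 4, 8), (1, 2, 5, 8), (1, 3, 4, 8), (2, 3, 4, 8)]), ((1, 14, 9, 5), [(13, 3, 11, 7), (15, 2, 10, 6),
  (14, 13, 11, 7), (13, 14, 11, 7), (13, 15, 10, 6), (13, 2, 10, 6), (14, 3, 11, 7), (3, 14, 11, 7), (3, 13, 11, 7),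
  (2, 13, 10, 6), (14, 1, 9, 5), (15, 13, 10, 6), (15, 14, 9, 5), (15, 1, 9, 5), (2, 15, 10, 6), (1, 15, 9, 5),
  (1, 2, 4, 8), (2, 1, 4, 8), (14, 15, 9, 5), (3, 2, 4, 8), (3, 1, 4, 8), (1, 14, 9, 5), (1, 3, 4, 8), (2, 3, 4, 8)]),
  ((1, 2, 9, 5), [(1, 3, 8, 4), (2, 3, 8, 4), (2, 1, 8, 4), (3, 2, 8, 4), (1, 2, 8, 4), (1, 3, 5, 9), (2, 3, 5, 9),
  (1, 3, 6, 10), (2, 3, 6, 10), (3, 1, 8, 4), (2, 1, 5, 9), (3, 2, 5, 9), (3, 2, 7, 11), (1, 2, 5, 9), (2, 1, 6, 10),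
  (1, 2, 6, 10), (1, 3, 7, 11), (1, 2, 7, 11), (1, 3, 11, 7), (2, 3, 11, 7), (3, 1, 5, 9), (3, 2, 6, 10), (3, 1, 6, 10),
  (2, 1, 7, 11), (3, 2, 10, 6), (3, 1, 7, 11), (2, 1, 11, 7), (1, 2, 11, 7), (1, 3, 10, 6), (1, 2, 10, 6), (2, 3, 7, 11),
  (3, 2, 11, 7), (3, 1, 11, 7), (2, 1, 10, 6), (2, 1, 9, 5), (3, 1, 10, 6), (3, 2, 9, 5), (3, 1, 9, 5), (2, 3, 10, 6),
  (1, 3, 9, 5), (1, 2, 4, 8), (2, 1, 4, 8), (2, 3, 9, 5), (3, 2, 4, 8), (3, 1, 4, 8), (1, 2, 9, 5), (1, 3, 4, 8),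
  (2, 3, 4, 8)]), ((1, 2, 13, 8), [(1, 3, 12, 8), (2, 3, 12, 8), (2, 1, 12, 8), (3, 2, 12, 8), (1, 2, 12, 8), (1, 3, 5, 8),
  (2, 3, 5, 8), (1, 3, 6, 8), (2, 3, 6, 8), (3, 1, 12, 8), (2, 1, 5, 8), (3, 2, 5, 8), (3, 2, 7, 8), (1, 2, 5, 8),
  (2, 1, 6, 8), (1, 2, 6, 8), (1, 3, 7, 8), (1, 2, 7, 8), (1, 3, 15, 8), (2, 3, 15, 8), (3, 1, 5, 8), (3, 2, 6, 8),
  (3, 1, 6, 8), (2, 1, 7, 8), (3, 2, 14, 8), (3, 1, 7, 8), (2, 1, 15, 8), (1, 2, 15, 8), (1, 3, 14, 8), (1, 2, 14, 8),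
  (2, 3, 7, 8), (3, 2, 15, 8), (3, 1, 15, 8), (2, 1, 14, 8), (2, 1, 13, 8), (3, 1, 14, 8), (3, 2, 13, 8), (3, 1, 13, 8),
  (2, 3, 14, 8), (1, 3, 13, 8), (1, 2, 4, 8), (2, 1, 4, 8), (2, 3, 13, 8), (3, 2, 4, 8), (3, 1, 4, 8), (1, 2, 13, 8),
  (1, 3, 4, 8), (2, 3, 4, 8)]), ((1, 10, 5, 8), [(1, 3, 12, 8), (2, 3, 12, 8), (2, 1, 12, 8), (3, 2, 12, 8), (1, 2, 12, 8),
  (1, 11, 13, 8), (10, 11, 13, 8), (9, 11, 14, 8), (2, 11, 14, 8), (3, 1, 12, 8), (10, 1, 13, 8), (11, 10, 13, 8),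
  (3, 10, 15, 8), (1, 10, 13, 8), (2, 9, 14, 8), (9, 2, 14, 8), (9, 3, 15, 8), (9, 10, 15, 8), (9, 3, 7, 8), (10, 3, 7, 8),
  (11, 1, 13, 8), (11, 2, 14, 8), (11, 9, 14, 8), (10, 9, 15, 8), (11, 2, 6, 8), (3, 9, 15, 8), (10, 9, 7, 8),
  (9, 10, 7, 8), (9, 11, 6, 8), (9, 2, 6, 8), (10, 3, 15, 8), (3, 10, 7, 8), (3, 9, 7, 8), (2, 9, 6, 8), (10, 1, 5, 8),
  (11, 9, 6, 8), (11, 10, 5, 8), (11, 1, 5, 8), (2, 11, 6, 8), (1, 11, 5, 8), (1, 2, 4, 8), (2, 1, 4, 8), (10, 11, 5, 8),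
  (3, 2, 4, 8), (3, 1, 4, 8), (1, 10, 5, 8), (1, 3, 4, 8), (2, 3, 4, 8)]), ((1, 14, 5, 9), [(1, 3, 8, 4), (2, 3, 8, 4),
  (2, 1, 8, 4), (3, 2, 8, 4), (1, 2, 8, 4), (1, 15, 9, 5), (14, 15, 9, 5), (13, 15, 10, 6), (2, 15, 10, 6), (3, 1, 8, 4),
  (14, 1, 9, 5), (15, 14, 9, 5), (3, 14, 11, 7), (1, 14, 9, 5), (2, 13, 10, 6), (13, 2, 10, 6), (13, 3, 11, 7),
  (13, 14, 11, 7), (13, 3, 7, 11), (14, 3, 7, 11), (15, 1, 9, 5), (15, 2, 10, 6), (15, 13, 10, 6), (14, 13, 11, 7),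
  (15, 2, 6, 10), (3, 13, 11, 7), (14, 13, 7, 11), (13, 14, 7, 11), (13, 15, 6, 10), (13, 2, 6, 10), (14, 3, 11, 7),
  (3, 14, 7, 11), (3, 13, 7, 11), (2, 13, 6, 10), (14, 1, 5, 9), (15, 13, 6, 10), (15, 14, 5, 9), (15, 1, 5, 9),
  (2, 15, 6, 10), (1, 15, 5, 9), (1, 2, 4, 8), (2, 1, 4, 8), (14, 15, 5, 9), (3, 2, 4, 8), (3, 1, 4, 8), (1, 14, 5, 9),
  (1, 3, 4, 8), (2, 3, 4, 8)])]

/-- all good matrices -/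
def U : List M := [(1, 2, 4, 8), (1, 2, 5, 8), (1, 2, 5, 9), (1, 2, 6, 8), (1, 2, 6, 10), (1, 2, 7, 8), (1, 2, 7, 11),
  (1, 2, 8, 4), (1, 2, 8, 12), (1, 2, 9, 5), (1, 2, 10, 6), (1, 2, 11, 7), (1, 2, 12, 4), (1, 2, 12, 8), (1, 2, 13, 8),
  (1, 2, 14, 8), (1, 2, 15, 8), (1, 3, 4, 8), (1, 3, 5, 8), (1, 3, 5, 9), (1, 3, 6, 8), (1, 3, 6, 10), (1, 3, 7, 8),
  (1, 3, 7, 11), (1, 3, 8, 4), (1, 3, 8, 12), (1, 3, 9, 5), (1, 3, 10, 6), (1, 3, 11, 7), (1, 3, 12, 4), (1, 3, 12, 8),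
  (1, 3, 13, 8), (1, 3, 14, 8), (1, 3, 15, 8), (1, 10, 5, 8), (1, 10, 13, 8), (1, 11, 5, 8), (1, 11, 13, 8), (1, 14, 5, 9),
  (1, 14, 9, 5), (1, 15, 5, 9), (1, 15, 9, 5), (2, 1, 4, 8), (2, 1, 5, 8), (2, 1, 5, 9), (2, 1, 6, 8), (2, 1, 6, 10),
  (2, 1, 7, 8), (2, 1, 7, 11), (2, 1, 8, 4), (2, 1, 8, 12), (2, 1, 9, 5), (2, 1, 10, 6), (2, 1, 11, 7), (2, 1, 12, 4),
  (2, 1, 12, 8), (2, 1, 13, 8), (2, 1, 14, 8), (2, 1, 15, 8), (2, 3, 4, 8), (2, 3, 5, 8), (2, 3, 5, 9), (2, 3, 6, 8),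
  (2, 3, 6, 10), (2, 3, 7, 8), (2, 3, 7, 11), (2, 3, 8, 4), (2, 3, 8, 12), (2, 3, 9, 5), (2, 3, 10, 6), (2, 3, 11, 7),
  (2, 3, 12, 4), (2, 3, 12, 8), (2, 3, 13, 8), (2, 3, 14, 8), (2, 3, 15, 8), (2, 9, 6, 8), (2, 9, 14, 8), (2, 11, 6, 8),
  (2, 11, 14, 8), (2, 13, 6, 10), (2, 13, 10, 6), (2, 15, 6, 10), (2, 15, 10, 6), (3, 1, 4, 8), (3, 1, 5, 8), (3, 1, 5, 9),
  (3, 1, 6, 8), (3, 1, 6, 10), (3, 1, 7, 8), (3, 1, 7, 11), (3, 1, 8, 4), (3, 1, 8, 12), (3, 1, 9, 5), (3, 1, 10, 6),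
  (3, 1, 11, 7), (3, 1, 12, 4), (3, 1, 12, 8), (3, 1, 13, 8), (3, 1, 14, 8), (3, 1, 15, 8), (3, 2, 4, 8), (3, 2, 5, 8),
  (3, 2, 5, 9), (3, 2, 6, 8), (3, 2, 6, 10), (3, 2, 7, 8), (3, 2, 7, 11), (3, 2, 8, 4), (3, 2, 8, 12), (3, 2, 9, 5),
  (3, 2, 10, 6), (3, 2, 11, 7), (3, 2, 12, 4), (3, 2, 12, 8), (3, 2, 13, 8), (3, 2, 14, 8), (3, 2, 15, 8), (3, 9, 7, 8),
  (3, 9, 15, 8), (3, 10, 7, 8), (3, 10, 15, 8), (3, 13, 7, 11), (3, 13, 11, 7), (3, 14, 7, 11), (3, 14, 11, 7),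
  (9, 2, 6, 8), (9, 2, 14, 8), (9, 3, 7, 8), (9, 3, 15, 8), (9, 10, 7, 8), (9, 10, 15, 8), (9, 11, 6, 8), (9, 11, 14, 8),
  (10, 1, 5, 8), (10, 1, 13, 8), (10, 3, 7, 8), (10, 3, 15, 8), (10, 9, 7, 8), (10, 9, 15, 8), (10, 11, 5, 8),
  (10, 11, 13, 8), (11, 1, 5, 8), (11, 1, 13, 8), (11, 2, 6, 8), (11, 2, 14, 8), (11, 9, 6, 8), (11, 9, 14, 8),
  (11, 10, 5, 8), (11, 10, 13, 8), (13, 2, 6, 10), (13, 2, 10, 6), (13, 3, 7, 11), (13, 3, 11, 7), (13, 14, 7, 11),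
  (13, 14, 11, 7), (13, 15, 6, 10), (13, 15, 10, 6), (14, 1, 5, 9), (14, 1, 9, 5), (14, 3, 7, 11), (14, 3, 11, 7),
  (14, 13, 7, 11), (14, 13, 11, 7), (14, 15, 5, 9), (14, 15, 9, 5), (15, 1, 5, 9), (15, 1, 9, 5), (15, 2, 6, 10),
  (15, 2, 10, 6), (15, 13, 6, 10), (15, 13, 10, 6), (15, 14, 5, 9), (15, 14, 9, 5)]

/-- words of a given length -/
noncomputable def wd (m : M) (d : ℕ) : M → Bool :=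
  Nat.rec bad (fun _ ih x => anyL s3 fun s => cmpK s x fun y => cmpK m y ih) d

/-- the numbers below sixteen -/
def r16 : List ℕ := [0, 1, 2, 3, 4, 5, 6, 7, 8, 9, 10, 11, 12, 13, 14, 15]

/-- the first pass -/
noncomputable def p1 (a : ℕ) : Bool := allL r16 fun b => Nat.ble b a || Nat.ble (Nat.xor a b) b ||
  allL r16 fun c => Nat.ble c 3 || allL r16 fun d =>
    anyL r16.tail (fun v => Nat.beq (app (a, b, c, d) v) 0) ||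
      (anyL [0, 1, 2] fun k => wd (a, b, c, d) k (a, b, c, d)) || anyL U (eqM (a, b, c, d)) ||
        wd (a, b, c, d) 3 (a, b, c, d)

/-- every entry is a generator or a generator times a later entry -/
noncomputable def ch (S L : List M) : Bool :=
  List.rec true (fun x L ih => (anyL S (eqM x) ||
    anyL S fun s => anyL L fun y => cmpK s y (eqM x)) && ih) L

theorem pass1 : allL r16 p1 = true := by decide +kernel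

theorem pass1' : ∀ m ∈ U, (m.2.1, m.1, m.2.2) ∈ U ∧ (m.1, m.1 ^^^ m.2.1, m.2.2) ∈ U := by
  decide +kernel

theorem pass0 : allL gs (fun g => ch [(2, 3, 4, 8), (1, 3, 4, 8), g.1] g.2) = true := by
  decide +kernel

theorem pass2 : allL gs (fun g => allL U fun m => anyL g.2 (eqM m) || anyL g.2 fun x =>
    cmpK m x fun y => !anyL U (eqM y) || anyL s3 fun s => cmpK s y fun w =>
      anyL gs fun h => eqM w h.1 && Nat.blt g.2.length h.2.length) = true := by decide +kernel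

/-- the orbit -/
def orb (g : List M) (l : List ℕ) : Prop :=
  (∀ m ∈ g, 4 ^^^ m.2.2.1 ∈ l) ∧ ∀ v ∈ l, ∃ m ∈ g, m.2.2.1 = 4 ^^^ v

/-- an element with given images -/
def act (g : List M) (c x y w : ℕ) : Prop :=
  ∃ m ∈ g, m.2.2.1 = x ∧ m.1 = y ∧ m.2.1 = w ∧ app m c = c

/-- the hyperplane -/
def hp (c : ℕ) : List ℕ := [0, 1, 2, 3, c, c ^^^ 1, c ^^^ 2, c ^^^ 3]

instance (g : List M) (l : List ℕ) : Decidable (orb g l) := by unfold orb; infer_instance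

instance (g : List M) (c x y w : ℕ) : Decidable (act g c x y w) := by unfold act; infer_instance

theorem pass3 : ∀ g ∈ gs, (orb g.2 [0] ∧ ∀ m ∈ g.2, app m 8 = 8) ∨ orb g.2 [0, 8, 4 ^^^ 8] ∨
    ∃ c ∈ [8, 4 ^^^ 8], (∀ m ∈ g.2, app m c = c ∧ m.1 ∈ hp c ∧ m.2.1 ∈ hp c) ∧
      ((orb g.2 [0, c] ∧ act g.2 c (4 ^^^ c) 1 2) ∨
      (orb g.2 [0, 1, 2, 2 ^^^ 1] ∧ act g.2 c (4 ^^^ 2) 1 2) ∨
      (orb g.2 [0, 1 ^^^ c, 2 ^^^ c, 2 ^^^ 1 ^^^ c] ∧ act g.2 c (4 ^^^ (2 ^^^ c)) (1 ^^^ c) 2) ∨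
      (orb g.2 (hp c) ∧ act g.2 c (4 ^^^ c) 1 2 ∧
        (act g.2 c (4 ^^^ 2) 1 2 ∨ act g.2 c (4 ^^^ (2 ^^^ c)) (1 ^^^ c) 2))) := by decide +kernel

end Cfsg.Agent.DIH.Ty1
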