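import Cfsg.Agent.DIH.BaseA

/-! The `Z*` step. -/

set_option autoImplicit false

namespace Cfsg.Agent.DIH

open Subgroup H49 DihedralGroup
open H42 (SylIn)
open COMP (Two)
open scoped commutatorElement

variable {G : Type*} [Group G] [Finite G] {F O K T C0 P P1 P2 S : Subgroup G}
  {t z a a' a1 a2 f : G}

theorem HL.qs (h : HL O K t z a1 a2) {Q : Type*} [Group Q] (π : 𝒞[t] →* Q) (hπ : π.ker = O.subgroupOf 𝒞[t]) :
    H44.QS ((K.subgroupOf 𝒞[t]).map π) := by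
  have k : ∀ N ≤ (K.subgroupOf 𝒞[t]).map π, (K.subgroupOf 𝒞[t]).map π ≤ 𝒩(N) →
      N = ⊥ ∨ N = (K.subgroupOf 𝒞[t]).map π := fun N h1 h2 => by
    have m : ∀ x : 𝒞[t], (x : G) ∈ (N.comap π).map (𝒞[t]).subtype ↔ π x ∈ N := fun x =>
      mem_map_iff_mem (subtype_injective _)
    refine (h.simpK ((N.comap π).map (𝒞[t]).subtype) (fun o ho => (m ⟨o, h.KC (h.OK ho)⟩).2 ?_) ?_
      (fun k hk => H42.mem_normalizer_of_conj_mem ?_)).imp (fun e => ?_) fun e => ?_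
    · rw [MonoidHom.mem_ker.1 (hπ.ge ho)]; exact one_mem _
    · rintro _ ⟨x, hx, rfl⟩
      obtain ⟨y, hy, e⟩ := h1 hx
      have : y⁻¹ * x ∈ π.ker := by rw [MonoidHom.mem_ker, map_mul, map_inv, e, inv_mul_cancel]
      exact (mul_mem_cancel_left (inv_mem hy)).1 (h.OK (hπ.le this))
    · rintro _ ⟨x, hx, rfl⟩
      refine (m (⟨k, h.KC hk⟩ * x * ⟨k, h.KC hk⟩⁻¹)).2 ?_
      rw [map_mul, map_mul, map_inv]
      exact conj_mem_of_norm h2 ⟨_, hk, rfl⟩ hx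
    · refine eq_bot_iff.2 fun y hy => ?_
      obtain ⟨x, -, rfl⟩ := h1 hy
      exact hπ.ge (e.le ((m x).2 hy))
    · refine le_antisymm h1 ?_
      rintro _ ⟨x, hx, rfl⟩
      exact (m x).1 (e.ge hx)
  have z1 : ⁅(K.subgroupOf 𝒞[t]).map π, (K.subgroupOf 𝒞[t]).map π⁆ ≠ ⊥ := fun e => h.zO (by
    have := e.le (commutator_mem_commutator (mem_map_of_mem π (x := ⟨a1, h.KC h.a1K⟩) h.a1K)
      (mem_map_of_mem π (x := ⟨a2, h.KC h.symm.a1K⟩) h.symm.a1K))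
    rw [← map_commutatorElement] at this
    have : a1 * a2 * a1⁻¹ * a2⁻¹ ∈ O := hπ.le this
    rwa [inv_eq_of_mul_eq_one_right h.s1, inv_eq_of_mul_eq_one_right h.s2, mul_assoc (a1 * a2), h.toD8.sq] at this)
  exact ⟨(k _ der_le norm_der).resolve_left z1, fun e => z1 (by rw [e]; simp),
    fun N h1 h2 => (k N h1 h2).symm.imp id fun e => e.le.trans bot_le⟩

/-- `W₁ ∩ W₂ = ⟨t⟩` -/
theorem HL.zstar (h : HL O K t z a1 a2) (t2 : t * t = 1) (hT : SylIn 2 T 𝒞[t]) {ρ1 ρ2 w : G}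
    (k1 : ρ1 ∈ K) (k2 : ρ2 ∈ K) (r1 : Rho t z a1 1 ρ1) (r2 : Rho t z a2 1 ρ2) (hw : w ∈ T)
    (c1 : w * a1 = a1 * w) (c2 : w * a2 = a2 * w) (c3 : w * ρ1 = ρ1 * w) (c4 : w * ρ2 = ρ2 * w) :
    w = 1 ∨ w = t := by
  obtain ⟨φ, p⟩ := h.toD8.phi
  have hD : SylIn 2 φ.range K := p.rg ▸ h.sylD
  haveI := normal_subgroupOf h.nO
  let π := QuotientGroup.mk' (O.subgroupOf 𝒞[t])
  have hπ : π.ker = O.subgroupOf 𝒞[t] := QuotientGroup.ker_mk' _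
  let φN : DHR.D8 →* 𝒞[t] := φ.codRestrict _ fun x => h.KC (hD.le ⟨x, rfl⟩)
  have hr : (π.comp φN).range = (φ.range.subgroupOf 𝒞[t]).map π := by
    rw [MonoidHom.range_comp]; congr 1
    ext x
    exact ⟨fun ⟨y, e⟩ => ⟨y, congrArg Subtype.val e⟩, fun ⟨y, e⟩ => ⟨y, Subtype.ext e⟩⟩
  have z1 : (π.comp φN) (r 2) ≠ 1 := fun e => h.zO (p.ez ▸ hπ.le e)
  have c : ∀ {a b c : 𝒞[t]}, (a : G) * b * (a : G)⁻¹ = c → π a * π b * (π a)⁻¹ = π c := fun e => by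
    rw [← map_inv, ← map_mul, ← map_mul]; exact congrArg π (Subtype.ext e)
  have d : ∀ {a b : 𝒞[t]}, (a : G) * b = b * a → π a * π b = π b * π a := fun e => by
    rw [← map_mul, ← map_mul]; exact congrArg π (Subtype.ext e)
  have s1 : DHR.Rho (π.comp φN) (π ⟨ρ1, h.KC k1⟩) :=
    ⟨c (p.rho.2 ⟨r1.ρz, r1.ρa⟩).1, c (p.rho.2 ⟨r1.ρz, r1.ρa⟩).2⟩
  have s2 : DHR.Rho ((π.comp φN).comp DHR.omH) (π ⟨ρ2, h.KC k2⟩) :=
    ⟨c (a := ⟨ρ2, h.KC k2⟩) (b := φN (r 2)) (c := φN (sr 1)) (by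
      change ρ2 * φ (r 2) * ρ2⁻¹ = φ (sr 1); rw [p.ez, p.e2, r2.ρz]),
     c (a := ⟨ρ2, h.KC k2⟩) (b := φN (sr 1)) (c := φN (sr 3)) (by
      change ρ2 * φ (sr 1) * ρ2⁻¹ = φ (sr 3); rw [p.e4, p.e2, r2.ρa])⟩
  have key : ∀ (n : ℕ) (w : 𝒞[t]), w ^ 2 ^ n = 1 → (w : G) ∈ 𝒞(φ.range) ⊓ 𝒞[ρ1] ⊓ 𝒞[ρ2] →
      π w ∈ 𝒞((K.subgroupOf 𝒞[t]).map π) := fun n => by
    induction n with
    | zero => intro w e _; rw [pow_zero, pow_one] at e; rw [e, map_one]; exact one_mem _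
    | succ n ih =>
      intro w e hw
      refine DHR.w_cent (h.qs π hπ) (hr ▸ DHR.syl_map (DHR.syl_sub hD h.KC) π) (fun e => ?_)
        (map_mul π w w ▸ ih _ (by rw [← pow_two, ← pow_mul, ← pow_succ', e]) (mul_mem hw hw))
        (H42.mem_normalizer_of_conj_mem ?_) (DHR.mem_cent_range.2 fun x => d (hw.1.1 _ ⟨x, rfl⟩))
        ⟨_, k1, rfl⟩ ⟨_, k2, rfl⟩ s1 s2 (d (mem_cent1.1 hw.1.2).symm) (d (mem_cent1.1 hw.2).symm)
      · have := s1.1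
        rw [e _ ⟨_, k1, rfl⟩, mul_inv_cancel_right] at this
        exact absurd (DHR.inj_of_z z1 this) (by decide)
      · rintro _ ⟨k, hk, rfl⟩
        exact ⟨w * k * w⁻¹, conj_mem_of_norm h.nK w.2 hk, by simp⟩
  obtain ⟨n, hn⟩ := hT.isP ⟨w, hw⟩
  have wn : w ^ 2 ^ n = 1 := congrArg Subtype.val hn
  have := key n ⟨w, hT.le hw⟩ (Subtype.ext wn) ⟨⟨p.cD.2 ⟨c1, c2⟩, mem_cent1.2 c3⟩, mem_cent1.2 c4⟩
  rcases h.cenK w (hT.le hw) (fun k hk => by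
    have e := this _ ⟨⟨k, h.KC hk⟩, hk, rfl⟩
    have : ⁅(⟨w, hT.le hw⟩ : 𝒞[t]), (⟨k, h.KC hk⟩ : 𝒞[t])⁆ ∈ π.ker := by
      rw [MonoidHom.mem_ker, map_commutatorElement, commutatorElement_eq_one_iff_mul_comm, e]
    exact hπ.le this) with e | e
  · exact Or.inl (TE.two_odd_eq_one h.odd e (Two.of_mem hT.isP hw))
  · have tT := COMP.SylIn.mem_of_norm hT (self_mem_cent1 t) (Two.of_sq t2)
      (cent_le_norm _ (le_cent1_iff.1 hT.le))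
    have := TE.two_odd_eq_one h.odd e (Two.of_mem hT.isP (mul_mem hw tT))
    exact Or.inr (mul_right_cancel (this.trans t2.symm))

end Cfsg.Agent.DIH
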