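import Cfsg.Agent.DIH.Defs
import Cfsg.Agent.H49.Prod
import Cfsg.Agent.S0501

set_option autoImplicit false
set_option linter.unusedSectionVars false
set_option linter.unusedVariables false

namespace Cfsg.Agent.DIH

open Subgroup H49
open H42 (SylIn)

variable {G : Type*} [Group G] [Finite G] {F O K T C0 P P1 P2 S : Subgroup G}
  {t z a a' a1 a2 f : G}

namespace Sr

theorem sec_pg {K N : Subgroup G} (h : H85.ElemSec 2 K N) [(N.subgroupOf K).Normal] :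
    IsPGroup 2 (K ⧸ N.subgroupOf K) := fun q => by
  obtain ⟨q, rfl⟩ := QuotientGroup.mk_surjective q
  exact ⟨1, (QuotientGroup.eq_one_iff (q ^ 2 ^ 1)).2 (h.pow _ q.2)⟩

theorem sec_pow {K N : Subgroup G} (h : H85.ElemSec 2 K N) : ∃ n, N.relIndex K = 2 ^ n := by
  have := h.normal
  have := Fact.mk Nat.prime_two
  exact IsPGroup.iff_card.1 (sec_pg h)

theorem sec_inf {K N L : Subgroup G} (h : H85.ElemSec 2 K N) (hL : L ≤ K) : H85.ElemSec 2 L (N ⊓ L) :=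
  ⟨inf_le_right, fun x hx y hy => mem_inf.2 ⟨h.comm x (hL hx) y (hL hy),
    mul_mem (mul_mem (mul_mem hx hy) (inv_mem hx)) (inv_mem hy)⟩,
    fun x hx => mem_inf.2 ⟨h.pow x (hL hx), pow_mem hx 2⟩⟩

theorem sec_sup {K N M : Subgroup G} (h : H85.ElemSec 2 K N) (h1 : N ≤ M) (h2 : M ≤ K) :
    H85.ElemSec 2 K M := ⟨h2, fun x hx y hy => h1 (h.comm x hx y hy), fun x hx => h1 (h.pow x hx)⟩

theorem sec_split {K N L : Subgroup G} (h : H85.ElemSec 2 K N) (hL : L ≤ K) :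
    N.relIndex K = N.relIndex L * (L ⊔ N).relIndex K := by
  rw [← relIndex_sup_of_norm (Or.inl (hL.trans h.le_normalizer)),
    relIndex_mul_relIndex _ _ _ le_sup_right (sup_le hL h.le)]

theorem idx_cent {K W : Subgroup G} {u : G} (h : ∀ k ∈ K, k * u * k⁻¹ * u⁻¹ ∈ W) :
    (𝒞[u] : Subgroup G).relIndex K ≤ Nat.card W := by
  refine Nat.card_le_card_of_injective
    (fun q : K ⧸ (𝒞[u] : Subgroup G).subgroupOf K => (⟨_, h _ q.out.2⟩ : W)) fun x y e => ?_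
  have e := mul_right_cancel (congrArg Subtype.val e)
  rw [← x.out_eq, ← y.out_eq]
  refine QuotientGroup.eq.2 (mem_subgroupOf.2 (mem_cent1.2 ?_))
  simp only [coe_mul, coe_inv]
  calc _ = (x.out : G)⁻¹ * (y.out * u * (y.out : G)⁻¹) * y.out := by group
    _ = _ := by rw [← e]; group

theorem idx_two {K M : Subgroup G} (h : ∀ x ∈ K, ∀ y ∈ K, x ∉ M → y ∉ M → x * y ∈ M) :
    M.relIndex K ≤ 2 := by
  have : Nat.card (K ⧸ M.subgroupOf K) ≤ Nat.card Prop :=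
    Nat.card_le_card_of_injective (fun q => (q.out : G) ∈ M) fun x y e => by
      rw [← x.out_eq, ← y.out_eq]
      refine QuotientGroup.eq.2 (mem_subgroupOf.2 ?_)
      by_cases hx : (x.out : G) ∈ M
      · exact mul_mem (inv_mem hx) (e.to_iff.1 hx)
      · exact h _ (inv_mem x.out.2) _ y.out.2 (by rwa [inv_mem_iff]) fun hy => hx (e.to_iff.2 hy)
  exact this.trans (by simp)

theorem two_mul {W U : Subgroup G} (h : W ≤ U) (c : Nat.card U = 2 * Nat.card W) {x y : G} (hx : x ∈ U)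
    (hy : y ∈ U) (x1 : x ∉ W) (y1 : y ∉ W) : x * y ∈ W := by
  have e : (W.subgroupOf U).index = 2 := by
    have := card_mul_relIndex h
    rw [c, mul_comm 2] at this
    exact Nat.eq_of_mul_eq_mul_left Nat.card_pos this
  exact (mul_mem_iff_of_index_two e (a := ⟨x, hx⟩) (b := ⟨y, hy⟩)).2 (iff_of_false x1 y1)

theorem comm_two {W U : Subgroup G} (h : W ≤ U) (c : Nat.card U = 2 * Nat.card W) (h1 : K ≤ 𝒩(W))
    (h2 : K ≤ 𝒩(U)) {k u : G} (hk : k ∈ K) (hu : u ∈ U) : k * u * k⁻¹ * u⁻¹ ∈ W := by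
  by_cases e : u ∈ W
  · exact mul_mem (conj_mem_of_norm h1 hk e) (inv_mem e)
  · refine two_mul h c (conj_mem_of_norm h2 hk hu) (inv_mem hu) (fun e' => e ?_) (by rwa [inv_mem_iff])
    simpa [mul_assoc] using conj_mem_of_norm' h1 hk e'

theorem exists_not_mem {W U : Subgroup G} (c : Nat.card W < Nat.card U) : ∃ u ∈ U, u ∉ W := by
  by_contra e
  push Not at e
  exact absurd (card_le_of_le e) (not_le.2 c)

theorem idx_step {K W U V : Subgroup G} (h : W ≤ U) (c : Nat.card U = 2 * Nat.card W)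
    (hc : ∀ k ∈ K, ∀ u ∈ U, k * u * k⁻¹ * u⁻¹ ∈ V) :
    𝒞(U).relIndex K ≤ 𝒞(W).relIndex K * Nat.card V := by
  obtain ⟨u, hu, u1⟩ := exists_not_mem (W := W) (U := U) (by have := card_pos' W; omega)
  have le : 𝒞(W) ⊓ 𝒞[u] ≤ 𝒞(U) := fun x hx => mem_centralizer_iff.2 fun y hy => by
    by_cases e : y ∈ W
    · exact mem_centralizer_iff.1 hx.1 y e
    · have e1 := mem_centralizer_iff.1 hx.1 _ (two_mul h c hy (inv_mem hu) e (by rwa [inv_mem_iff]))
      have e2 := mem_cent1.1 hx.2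
      calc y * x = y * u⁻¹ * (u * x) := by group
        _ = y * u⁻¹ * x * u := by rw [← e2]; group
        _ = x * y := by rw [e1]; group
  exact (relIndex_le_of_le_left le (relIndex_pos _ _).ne').trans (relIndex_inf_le.trans
    (Nat.mul_le_mul_left _ (idx_cent fun k hk => hc k hk u hu)))

theorem exists_sub {U : Subgroup G} (hS : IsPGroup 2 S) (hU : IsPGroup 2 U) (hn : S ≤ 𝒩(U)) (k : ℕ)
    (hk : 2 ^ k ≤ Nat.card U) : ∃ W ≤ U, S ≤ 𝒩(W) ∧ Nat.card W = 2 ^ k := by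
  have := Fact.mk Nat.prime_two
  have := normal_subgroupOf (sup_le hn (norm_of_le le_rfl) : S ⊔ U ≤ 𝒩(U))
  obtain ⟨W, h1, h2, h3⟩ := H3.exists_normal_le_card_eq (hS.to_sup_of_normal_right' hU hn)
    (U.subgroupOf (S ⊔ U)) k (by rwa [card_subgroupOf_of_le le_sup_right])
  refine ⟨W.map (S ⊔ U).subtype, ?_, le_sup_left.trans (norm_map_subtype W), ?_⟩
  · rintro _ ⟨x, hx, rfl⟩
    exact h2 hx
  · rw [card_map_of_injective (S ⊔ U).subtype_injective, h3]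

theorem pg_of_sq {U : Subgroup G} (hU : ∀ u ∈ U, u * u = 1) : IsPGroup 2 U := fun u =>
  ⟨1, Subtype.ext (by simpa [sq] using hU u u.2)⟩

theorem ab_of_sq {U : Subgroup G} (hU : ∀ u ∈ U, u * u = 1) : U ≤ 𝒞(U) := fun x hx =>
  mem_centralizer_iff.2 fun y hy => by
    have e := hU _ (mul_mem hx hy)
    calc y * x = (x * x) * y * x * (y * y) := by rw [hU x hx, hU y hy]; group
      _ = x * (x * y * (x * y)) * y := by group
      _ = x * y := by rw [e]; group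

end Sr

open Sr

theorem SR.mono {Q : Subgroup G} (h : SR P) (hQ : Q ≤ P) : SR Q := fun K N hK => h K N (hK.trans hQ)

theorem GH.not_sr (h : GH F t) (hS : SylIn 2 S ⊤) : ¬ SR (S ⊓ F) := fun e => h.rk fun K N hK hN => by
  have := Fact.mk Nat.prime_two
  obtain ⟨P, hP, -⟩ := H42.exists_sylIn (p := 2) IsPGroup.of_bot (bot_le : ⊥ ≤ K)
  obtain ⟨n, hn⟩ := sec_pow hN
  have e1 : P ⊔ N = K := le_antisymm (sup_le hP.le hN.le) fun g hg => by
    obtain ⟨s, hs, m, hm, rfl⟩ := hP.exists_mul_of_relIndex_pow hN.le hN.le_normalizer hn hg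
    exact mul_mem (mem_sup_left hs) (mem_sup_right hm)
  obtain ⟨g, -, hg⟩ := (hS.inf_normal le_top (normal_iff_top_le_norm.1 h.nF)).exists_conj hP.2
    (hP.le.trans hK)
  have := e _ _ (H42.cj_le_iff.2 hg) ((sec_inf hN hP.le).map (MulAut.conj g).toMonoidHom)
  rw [H42.relIndex_cj, inf_relIndex_right, ← relIndex_sup_of_norm (Or.inl (hP.le.trans hN.le_normalizer)),
    e1] at this
  exact this

theorem GH.not_sr' (h : GH F t) (hS : SylIn 2 S ⊤) : ¬ SR S := fun e => h.not_sr hS (e.mono inf_le_left)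

/-- MacWilliams (S0501) -/
theorem exists_E8 (hS : IsPGroup 2 S) (h : ¬ SR S) :
    ∃ U ≤ S, S ≤ 𝒩(U) ∧ U ≤ 𝒞(U) ∧ (∀ u ∈ U, u * u = 1) ∧ Nat.card U = 8 := by
  have := Fact.mk Nat.prime_two
  by_contra e
  refine h fun K N hK hN => ?_
  have r := S0501.result hS fun A h1 h2 h3 => by
    by_contra c
    obtain ⟨n, hn⟩ := IsPGroup.iff_card.1 (hS.to_subgroup A)
    have n3 : 3 ≤ n := by
      by_contra n3
      have : n ≤ 2 := by omega
      exact c (hn ▸ Nat.pow_le_pow_right two_pos this)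
    obtain ⟨W, w1, w2, w3⟩ := H3.exists_normal_le_card_eq hS A 3 (hn ▸ Nat.pow_le_pow_right two_pos n3)
    have sq : ∀ u ∈ W.map S.subtype, u * u = 1 := by
      rintro _ ⟨x, hx, rfl⟩
      rw [← map_mul, ← sq, h3 x (w2 hx), map_one]
    exact e ⟨W.map S.subtype, map_subtype_le _, norm_map_subtype W, ab_of_sq sq, sq, by
      rw [card_map_of_injective S.subtype_injective, w3]; rfl⟩
  have := H85.ElemSec.relIndex_le r (K := K.subgroupOf S) (N := N.subgroupOf S)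
    ⟨comap_mono hN.le, fun x hx y hy => hN.comm _ hx _ hy, fun x hx => hN.pow _ hx⟩
  rwa [relIndex_subgroupOf hK] at this

theorem sr_card (h : ∀ K N : Subgroup G, K ≤ S → H85.ElemSec 2 K N → N.relIndex K ≠ 32) : SR S := by
  intro K N hK hN
  have := Fact.mk Nat.prime_two
  have := hN.normal
  by_contra c
  obtain ⟨n, hn⟩ := sec_pow hN
  have n5 : 5 ≤ n := by
    by_contra n5
    have : n ≤ 4 := by omega
    exact c (hn ▸ Nat.pow_le_pow_right two_pos this)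
  obtain ⟨B, hB⟩ := Sylow.exists_subgroup_card_pow_prime (G := K ⧸ N.subgroupOf K) 2 (n := 5)
    ((pow_dvd_pow 2 n5).trans hn.symm.dvd)
  have le := map_subtype_le (B.comap (QuotientGroup.mk' (N.subgroupOf K)))
  refine h _ _ (le.trans hK) (sec_inf hN le) ?_
  rw [inf_relIndex_right]
  conv_lhs => enter [1]; rw [← map_subgroupOf_eq_of_le hN.le, ← QuotientGroup.ker_mk' (N.subgroupOf K)]
  rw [relIndex_map_subtype, relIndex_ker, map_comap_eq_self_of_surjective (QuotientGroup.mk'_surjective _), hB]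
  rfl

/-- subadditivity: `Y` normal, sections of `Y` of order `≤ m`, sections of `S/Y` of order `≤ n` -/
theorem sr_add {Y : Subgroup G} {m n : ℕ} (hn : S ≤ 𝒩(Y)) (hmn : m * n ≤ 16)
    (h1 : ∀ K N : Subgroup G, K ≤ Y → H85.ElemSec 2 K N → N.relIndex K ≤ m)
    (h2 : ∀ K N : Subgroup G, K ≤ S → Y ⊓ K ≤ N → H85.ElemSec 2 K N → N.relIndex K ≤ n) : SR S := by
  intro K N hK hN
  rw [sec_split hN (inf_le_right : Y ⊓ K ≤ K), ← inf_relIndex_right]
  exact (Nat.mul_le_mul (h1 _ _ inf_le_left (sec_inf hN inf_le_right))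
    (h2 _ _ hK le_sup_left (sec_sup hN le_sup_right (sup_le inf_le_right hN.le)))).trans hmn

/-- sections of an abelian group are bounded by the number of solutions of `y² = 1` -/
theorem sec_ab {Y U : Subgroup G} (hY : Y ≤ 𝒞(Y)) (hU : ∀ y ∈ Y, y * y = 1 → y ∈ U) {K N : Subgroup G}
    (hK : K ≤ Y) (h : H85.ElemSec 2 K N) : N.relIndex K ≤ Nat.card U := by
  let φ : K →* G :=
    { toFun := fun k => k * k
      map_one' := by simp
      map_mul' := fun x y => by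
        have := mem_centralizer_iff.1 (hY (hK x.2)) _ (hK y.2)
        simp only [coe_mul]
        calc (x : G) * y * (x * y) = x * (y * x) * y := by group
          _ = _ := by rw [this]; group }
  have h1 : φ.range ≤ N := by
    rintro _ ⟨x, rfl⟩
    exact (sq (x : G) ▸ h.pow _ x.2 : (x : G) * x ∈ N)
  have h2 := card_mul_relIndex (h1.trans h.le)
  have h3 := φ.ker.card_mul_index
  rw [index_ker, ← h2, mul_comm] at h3
  refine (relIndex_le_of_le_left h1 (relIndex_pos _ _).ne').trans ?_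
  rw [← Nat.eq_of_mul_eq_mul_left Nat.card_pos h3, ← card_map_of_injective K.subtype_injective]
  refine card_le_of_le ?_
  rintro _ ⟨x, hx, rfl⟩
  exact hU _ (hK x.2) hx

/-- a self-centralizing normal `E₈` -/
theorem sr8 {U : Subgroup G} (hS : IsPGroup 2 S) (hn : S ≤ 𝒩(U)) (hU : ∀ u ∈ U, u * u = 1)
    (hc : Nat.card U = 8) (hs : S ⊓ 𝒞(U) ≤ U) : SR S := by
  intro K N hK hN
  obtain ⟨U2, l2, n2, c2⟩ := exists_sub hS (pg_of_sq hU) hn 2 (by omega)
  obtain ⟨U1, l1, n1, c1⟩ := exists_sub hS (pg_of_sq fun u hu => hU u (l2 hu)) n2 1 (by omega)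
  have s1 := idx_step (K := K) (V := ⊥) (bot_le : ⊥ ≤ U1) (by simp [c1]) fun k hk u hu =>
    comm_two bot_le (by simp [c1]) (le_norm_bot K) (hK.trans n1) hk hu
  rw [cent_bot, relIndex_top_left, card_bot] at s1
  have s : ∀ V2 V3 : Subgroup G, (∀ k ∈ K, ∀ u ∈ U2, k * u * k⁻¹ * u⁻¹ ∈ V2) →
      (∀ k ∈ K, ∀ u ∈ U, k * u * k⁻¹ * u⁻¹ ∈ V3) → 𝒞(U).relIndex K ≤ Nat.card V2 * Nat.card V3 :=
    fun V2 V3 a b => (idx_step l2 (by omega) b).trans (Nat.mul_le_mul_right _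
      ((idx_step l1 (by omega) a).trans (by nlinarith)))
  have le : (U ⊓ K ⊔ N).relIndex K ≤ 𝒞(U).relIndex K := by
    rw [← inf_relIndex_right 𝒞(U)]
    exact relIndex_le_of_le_left (fun x hx => mem_sup_left ⟨hs ⟨hK hx.2, hx.1⟩, hx.2⟩) (relIndex_pos _ _).ne'
  have s8 := s U1 U2 (fun k hk u hu => comm_two l1 (by omega) (hK.trans n1) (hK.trans n2) hk hu)
    fun k hk u hu => comm_two l2 (by omega) (hK.trans n2) (hK.trans hn) hk hu
  have nK : K ≤ 𝒩(U ⊓ K) := norm_inf (hK.trans hn) (norm_of_le le_rfl)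
  have cm : ∀ k ∈ K, ∀ u ∈ U ⊓ K, k * u * k⁻¹ * u⁻¹ ∈ N ⊓ (U ⊓ K) := fun k hk u hu =>
    mem_inf.2 ⟨hN.comm k hk u hu.2, mul_mem (conj_mem_of_norm nK hk hu) (inv_mem hu)⟩
  have e := card_inf_mul_relIndex N (U ⊓ K)
  have d := card_dvd_of_le (inf_le_left : U ⊓ K ≤ U)
  rw [sec_split hN (inf_le_right : U ⊓ K ≤ K)]
  refine (Nat.mul_le_mul_left _ le).trans ?_
  rw [c1, c2] at s8
  by_cases m2 : N.relIndex (U ⊓ K) ≤ 2
  · exact (Nat.mul_le_mul m2 s8).trans (by norm_num)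
  have p := card_pos' (N ⊓ (U ⊓ K))
  rw [hc] at d
  have d8 := Nat.le_of_dvd (by norm_num) d
  by_cases k8 : Nat.card (U ⊓ K : Subgroup G) = 8
  · have e1 : U ⊓ K = U := eq_of_le_of_card_eq inf_le_left (by rw [k8, hc])
    have := s _ _ (fun k hk u hu => cm k hk u (e1.symm ▸ l2 hu)) fun k hk u hu => cm k hk u (e1.symm ▸ hu)
    rw [k8] at e
    have : Nat.card (N ⊓ (U ⊓ K) : Subgroup G) ≤ 2 := by nlinarith
    nlinarith
  · have k4 : Nat.card (U ⊓ K : Subgroup G) = 4 ∧ Nat.card (N ⊓ (U ⊓ K) : Subgroup G) = 1 ∧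
        N.relIndex (U ⊓ K) = 4 := by
      have : 3 ≤ Nat.card (U ⊓ K : Subgroup G) := by nlinarith
      have k4 : Nat.card (U ⊓ K : Subgroup G) = 4 := by
        generalize Nat.card (U ⊓ K : Subgroup G) = n at *
        interval_cases n <;> simp_all
      have : Nat.card (N ⊓ (U ⊓ K) : Subgroup G) = 1 := by nlinarith
      rw [this, k4, one_mul] at e
      exact ⟨k4, this, e⟩
    have s4 := idx_step (K := K) (inf_le_left : U ⊓ K ≤ U) (by omega) fun k hk u hu =>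
      comm_two inf_le_left (by omega) nK (hK.trans hn) hk hu
    have : 𝒞(U ⊓ K).relIndex K = 1 := relIndex_eq_one.2 fun k hk => mem_centralizer_iff.2 fun u hu => by
      have := cm k hk u hu
      rw [card_eq_one.1 k4.2.1, mem_bot, mul_inv_eq_one, mul_inv_eq_iff_eq_mul] at this
      exact this.symm
    rw [this, k4.1] at s4
    rw [k4.2.2]
    omega

/-- a self-centralizing normal `E₁₆` with `Y⟨r⟩` of index at most two acting freely -/
theorem sr16 {Y : Subgroup G} {r : G} (hS : IsPGroup 2 S) (hn : S ≤ 𝒩(Y)) (hY : ∀ y ∈ Y, y * y = 1)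
    (hc : Nat.card Y = 16) (hs : S ⊓ 𝒞(Y) ≤ Y) (hr : r ∈ S)
    (hi : ∀ x ∈ S, ∀ y ∈ S, x ∉ Y ⊔ zpowers r → y ∉ Y ⊔ zpowers r → x * y ∈ Y ⊔ zpowers r)
    (hf : ∀ s ∈ zpowers r, s ∉ Y → Nat.card (Y ⊓ 𝒞[s] : Subgroup G) ≤ 4) : SR S := by
  intro K N hK hN
  have nK : K ≤ 𝒩(Y ⊓ K) := norm_inf (hK.trans hn) (norm_of_le le_rfl)
  have cm : ∀ k ∈ K, ∀ u ∈ Y ⊓ K, k * u * k⁻¹ * u⁻¹ ∈ N ⊓ (Y ⊓ K) := fun k hk u hu =>
    mem_inf.2 ⟨hN.comm k hk u hu.2, mul_mem (conj_mem_of_norm nK hk hu) (inv_mem hu)⟩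
  have e := card_inf_mul_relIndex N (Y ⊓ K)
  have d := card_dvd_of_le (inf_le_left : Y ⊓ K ≤ Y)
  have p := card_pos' (N ⊓ (Y ⊓ K))
  have i2 : (Y ⊔ zpowers r).relIndex K ≤ 2 := idx_two fun x hx y hy => hi x (hK hx) y (hK hy)
  have nr : zpowers r ≤ 𝒩(Y) := (zpowers_le.2 hr).trans hn
  have dec : ∀ {L : Subgroup G}, L ≤ 𝒩(Y) → ∀ {x}, x ∈ Y ⊔ L → ∃ s ∈ L, ∃ y ∈ Y, x = s * y :=
    fun hL x hx => H42.exists_mul_of_mem_sup hL (sup_comm Y _ ▸ hx)
  have hM := sec_sup hN le_sup_right (sup_le inf_le_right hN.le : Y ⊓ K ⊔ N ≤ K)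
  have sp : (Y ⊓ K ⊔ N).relIndex K ≤ (Y ⊓ K ⊔ N).relIndex ((Y ⊔ zpowers r) ⊓ K) * 2 :=
    ((relIndex_le_of_le_left inf_le_left (relIndex_pos _ _).ne').trans
      (relIndex_inf_mul_relIndex _ _ _).symm.le).trans (Nat.mul_le_mul_left _ i2)
  rw [sec_split hN (inf_le_right : Y ⊓ K ≤ K)]
  rw [hc] at d
  by_cases k1 : (Y ⊔ zpowers r) ⊓ K ≤ Y
  · rw [relIndex_eq_one.2 ((le_inf k1 inf_le_right).trans le_sup_left), one_mul] at sp
    by_cases m8 : N.relIndex (Y ⊓ K) ≤ 8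
    · exact (Nat.mul_le_mul m8 sp).trans (by norm_num)
    have d8 := Nat.le_of_dvd (by norm_num) d
    have k16 : Nat.card (Y ⊓ K : Subgroup G) = 16 := by
      have : 9 ≤ Nat.card (Y ⊓ K : Subgroup G) := by nlinarith
      generalize Nat.card (Y ⊓ K : Subgroup G) = n at *
      interval_cases n <;> simp_all
    have c1 : Nat.card (N ⊓ (Y ⊓ K) : Subgroup G) = 1 := by nlinarith
    have e1 : Y ⊓ K = Y := eq_of_le_of_card_eq inf_le_left (by rw [k16, hc])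
    rw [c1, k16, one_mul] at e
    rw [e, relIndex_eq_one.2 ((le_inf (fun k hk => hs ⟨hK hk, mem_centralizer_iff.2 fun u hu => ?_⟩)
      le_rfl).trans (le_sup_left : Y ⊓ K ≤ Y ⊓ K ⊔ N))]
    have := cm k hk u (e1.symm ▸ hu)
    rw [card_eq_one.1 c1, mem_bot, mul_inv_eq_one, mul_inv_eq_iff_eq_mul] at this
    exact this.symm
  obtain ⟨k, hk, kY⟩ := SetLike.not_le_iff_exists.1 k1
  obtain ⟨s, hs', y, hy, rfl⟩ := dec nr hk.1
  have m4 : N.relIndex (Y ⊓ K) ≤ 4 := by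
    have a1 := idx_cent (K := Y ⊓ K) (W := N ⊓ (Y ⊓ K)) (u := s * y) fun u hu => by
      have := inv_mem (cm _ hk.2 u hu)
      simpa only [mul_inv_rev, inv_inv, mul_assoc] using this
    have a2 := card_inf_mul_relIndex 𝒞[s * y] (Y ⊓ K)
    have a3 : Nat.card (𝒞[s * y] ⊓ (Y ⊓ K) : Subgroup G) ≤ 4 := by
      refine le_trans (card_le_of_le fun u hu => mem_inf.2 ⟨hu.2.1, mem_cent1.2 ?_⟩)
        (hf s hs' fun e => kY (mul_mem e hy))
      have b1 := mem_cent1.1 hu.1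
      have b2 := mem_centralizer_iff.1 (ab_of_sq hY hu.2.1) y hy
      rw [mul_assoc, b2, ← mul_assoc, ← mul_assoc] at b1
      exact mul_right_cancel b1
    have := Nat.mul_le_mul a3 a1
    rw [a2, ← e, mul_comm 4] at this
    exact Nat.le_of_mul_le_mul_left this p
  have cyc : IsCyclic (zpowers r ⊓ (Y ⊔ K) : Subgroup G) := isCyclic_of_le inf_le_left
  obtain ⟨g, hg⟩ := (Subgroup.isCyclic_iff_exists_zpowers_eq_top _).1 cyc
  obtain ⟨k0, hk0, y0, hy0, e0⟩ := dec (hK.trans hn) (hg ▸ mem_zpowers g : g ∈ zpowers r ⊓ (Y ⊔ K)).2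
  have sq : k0 * k0 ∈ Y ⊓ K ⊔ N := sq k0 ▸ hM.pow k0 hk0
  have key : ∀ x ∈ (Y ⊔ zpowers r) ⊓ K, x ∉ Y ⊓ K ⊔ N → x * k0⁻¹ ∈ Y ⊓ K ⊔ N := fun x hx x1 => by
    obtain ⟨s, hs, y, hy, rfl⟩ := dec nr hx.1
    have a1 : s ∈ zpowers g := hg ▸ ⟨hs, by
      simpa using mul_mem (mem_sup_right hx.2 : _ ∈ Y ⊔ K) (mem_sup_left (inv_mem hy))⟩
    have a2 : s * y ∈ Y ⊔ zpowers k0 := mul_mem ((zpowers_le.2 (e0 ▸ mul_mem (mem_sup_right (mem_zpowers k0))
      (mem_sup_left hy0)) : zpowers g ≤ Y ⊔ zpowers k0) a1) (mem_sup_left hy)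
    obtain ⟨_, ⟨i, rfl⟩, y', hy', e'⟩ := dec ((zpowers_le.2 hk0).trans (hK.trans hn)) a2
    beta_reduce at e'
    have a3 : y' ∈ Y ⊓ K ⊔ N := mem_sup_left ⟨hy', by
      simpa using mul_mem (inv_mem (zpow_mem hk0 i)) (e' ▸ hx.2 : k0 ^ i * y' ∈ K)⟩
    rw [e'] at x1 ⊢
    obtain ⟨j, rfl | rfl⟩ := Int.even_or_odd' i
    · exact (x1 (mul_mem (by simpa only [zpow_mul, zpow_two] using zpow_mem sq j) a3)).elim
    · have := mul_mem (zpow_mem sq j) (conj_mem_of_norm hM.le_normalizer hk0 a3)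
      simpa only [zpow_add, zpow_mul, zpow_two, zpow_one, mul_assoc] using this
  have i3 : (Y ⊓ K ⊔ N).relIndex ((Y ⊔ zpowers r) ⊓ K) ≤ 2 := idx_two fun x hx y hy x1 y1 => by
    have := mul_mem (mul_mem (key x hx x1) (conj_mem_of_norm hM.le_normalizer hk0 (key y hy y1))) sq
    simpa only [mul_assoc, inv_mul_cancel_left, inv_mul_cancel, mul_one] using this
  exact (Nat.mul_le_mul m4 (sp.trans (Nat.mul_le_mul_right _ i3))).trans (by norm_num)

end Cfsg.Agent.DIH
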