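import Cfsg.Agent.DIH.Defs
import Cfsg.Agent.DIH.Cmp
import Cfsg.Agent.DIH.SRk
import Cfsg.Agent.DIH.B25m

set_option autoImplicit false

namespace Cfsg.Agent.DIH

open Subgroup H49
open H42 (SylIn)

namespace B25

open PM

variable {G : Type*} [Group G] {D : PD} [D.OK] {φ : PM D →* G}

theorem le_sub {p : PM D → Prop} (h1 : p 1) (h2 : ∀ a, p a → ∀ b, p b → p (a * b)) {s : Set G}
    (hs : ∀ x ∈ s, ∃ a, p a ∧ φ a = x) {x : G} (hx : x ∈ closure s) : ∃ a, p a ∧ φ a = x :=
  (closure_le ((subQ p h1 h2).map φ)).2 hs hx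

theorem card_le (hf : Function.Injective φ) {p : PM D → Prop} [DecidablePred p] {K : Subgroup G}
    (h : ∀ x ∈ K, ∃ a, p a ∧ φ a = x) : Nat.card K ≤ cnt p := by
  rw [← cnt_eq]
  choose! ψ h1 h2 using h
  exact Nat.card_le_card_of_injective (fun x : K => (⟨ψ x, h1 x x.2⟩ : {a // p a})) fun x y e =>
    Subtype.ext ((h2 x x.2).symm.trans ((congrArg φ (congrArg Subtype.val e)).trans (h2 y y.2)))

theorem card_map (hf : Function.Injective φ) {p : PM D → Prop} [DecidablePred p] (h1 : p 1)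
    (h2 : ∀ a, p a → ∀ b, p b → p (a * b)) : Nat.card ((subQ p h1 h2).map φ) = cnt p := by
  rw [← cnt_eq, card_map_of_injective hf]; rfl

theorem conj_map {x y p : PM D} (e : p * x * p⁻¹ = y) : IsConj (φ x) (φ y) :=
  isConj_iff.2 ⟨φ p, by rw [← e, map_mul, map_mul, map_inv]⟩

end B25

variable {G : Type*} [Group G] [Finite G] {F O K T C0 P P1 P2 S : Subgroup G}
  {t z a a' a1 a2 f : G}

open PM B25 in
theorem b25 {ρ1 ρ2 u b d : G} {κ δ : Bool} (h : CB F O K T C0 t z a1 a2 f)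
    (s1 : L2 P1 t z a1 a2 f ρ1 u κ) (s2 : L5 P2 t z a2 a1 (f * z) ρ2 b d δ)
    (sh : Share P1 P2 t z a1 a2 f) : False := by
  obtain ⟨-, rfl, -⟩ := cmp25 h s1 s2 sh
  have R := CmpX.rl h
  have R' := R.symm
  obtain ⟨φ, eg, ez, ea, et, eb, ed, eA⟩ := B25.exists_hom (g := f * z) (z := z) (a := a2) (t := t) (b := b)
    (d := d) (A := a1) R'.f2 R.z2 R.s2 R.t2 s2.bb s2.dd R.s1 R'.fz.eq R'.fa1.eq R.c2 R'.tf.symm.eq R.tz.symm.eq
    R.ta2.symm.eq s2.bf.symm s2.bz.symm s2.ba s2.bt s2.df.symm s2.dz s2.da.symm s2.dt s2.bd R'.fa2.eq R.c1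
    (by rw [mul_assoc, R.r, ← mul_assoc, ← mul_assoc, R.s1, one_mul]) R.ta1.eq
    (by simpa [pw] using s2.sb) (by simpa [pw] using s2.sd)
  have ef : φ (el D25 3) = f := by
    rw [show el D25 3 = el D25 1 * el D25 2 by decide +kernel, map_mul, eg, ez, mul_assoc, R.z2, mul_one]
  have hr : φ.range = P2 := by
    rw [s2.gen]
    refine le_antisymm (range_le fun i hi => subset_closure ?_) ((closure_le _).2 ?_)
    · change i < 7 at hi
      interval_cases i <;> simp [eg, ez, ea, et, eb, ed, eA]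
    · rintro x (rfl | rfl | rfl | rfl | rfl | rfl | rfl)
      exacts [⟨_, ez⟩, ⟨_, ea⟩, ⟨_, eA⟩, ⟨_, et⟩, ⟨_, eg⟩, ⟨_, eb⟩, ⟨_, ed⟩]
  have inj : Function.Injective φ := inj_of_card φ (by rw [hr, s2.cardP]; rfl)
  have sq : ∀ y, IsConj t (φ y) → y * y = 1 := fun y c => inj (by
    obtain ⟨k, e⟩ := isConj_iff.1 c
    rw [map_mul, ← e, conj_mul, R.t2, map_one, mul_one, mul_inv_cancel])
  have nH : ∀ y ∈ HH z a2 (f * z), ¬ IsConj t y := fun y hy c => by
    obtain ⟨k, rfl⟩ := isConj_iff.1 c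
    exact s2.noHH k hy
  have nA : ∀ y, φ y ∈ AA t z a1 f → IsConj t (φ y) → y = el D25 8 ∨ y = el D25 8 * el D25 3 := fun y hy c => by
    obtain ⟨k, e⟩ := isConj_iff.1 c
    exact (s1.cl k (e ▸ hy)).imp (fun q => inj (by rw [← e, q, et])) fun q => inj (by rw [← e, q, map_mul, et, ef])
  have nR : ∀ y, Rp y → ¬ IsConj t (φ y) := by
    have m1 : z ∈ AA t z a1 f := subset_closure (by simp)
    have m2 : a1 ∈ AA t z a1 f := subset_closure (by simp)
    have m3 : t ∈ AA t z a1 f := subset_closure (by simp)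
    have m4 : f ∈ AA t z a1 f := subset_closure (by simp)
    rintro y (rfl | rfl | rfl | rfl | rfl | rfl | rfl | rfl)
    · rw [map_one]; exact nH _ (one_mem _)
    · rw [eg]; exact nH _ (subset_closure (by simp))
    · rw [ez]; exact nH _ (subset_closure (by simp))
    · rw [ea]; exact nH _ (subset_closure (by simp))
    · refine fun c => absurd (nA _ ?_ c) (by decide +kernel)
      rw [show el D25 10 = el D25 8 * el D25 2 by decide +kernel, map_mul, et, ez]
      exact mul_mem m3 m1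
    · exact fun c => absurd (nA _ (eA ▸ m2) c) (by decide +kernel)
    · refine fun c => absurd (nA _ ?_ c) (by decide +kernel)
      rw [show el D25 65 = el D25 64 * el D25 1 by decide +kernel, map_mul, eA, eg]
      exact mul_mem m2 (mul_mem m4 m1)
    · refine fun c => absurd (nA _ ?_ c) (by decide +kernel)
      rw [show el D25 72 = el D25 64 * el D25 8 by decide +kernel, map_mul, eA, et]
      exact mul_mem m2 m3
  have k0 : ∀ y, y.v % 64 < 16 → IsConj t (φ y) → St y := fun y hy c => by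
    rcases cls y (sq y c) with q | ⟨p, q | ⟨q, -⟩⟩
    · exact q
    · exact absurd (c.trans (conj_map rfl)) (nR _ q)
    · omega
  have A2 : ∀ x ∈ AA t z a2 (f * z), ∃ y : PM D25, y.v < 16 ∧ φ y = x := fun x =>
    le_sub (by decide +kernel) low_mul (by
      rintro x (rfl | rfl | rfl | rfl)
      exacts [⟨_, by decide +kernel, ez⟩, ⟨_, by decide +kernel, ea⟩, ⟨_, by decide +kernel, et⟩,
        ⟨_, by decide +kernel, eg⟩])
  have A2' : ∀ y : PM D25, y.v < 16 → φ y ∈ AA t z a2 (f * z) := fun y hy => by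
    obtain ⟨i, j, k, l, rfl⟩ := low_nf y hy
    have q : ∀ (c : Bool) (v : PM D25), φ v ∈ AA t z a2 (f * z) → φ (cond c v 1) ∈ AA t z a2 (f * z) :=
      fun c v hv => by
        cases c
        · exact (map_one φ).symm ▸ one_mem _
        · exact hv
    rw [map_mul, map_mul, map_mul]
    exact mul_mem (mul_mem (mul_mem (q _ _ (ez ▸ subset_closure (by simp))) (q _ _ (ea ▸ subset_closure (by simp))))
      (q _ _ (et ▸ subset_closure (by simp)))) (q _ _ (eg ▸ subset_closure (by simp)))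
  have A1 : ∀ x ∈ AA t z a1 f, ∃ y : PM D25, y.v % 64 < 16 ∧ φ y = x := fun x =>
    le_sub (by decide +kernel) low4_mul (by
      rintro x (rfl | rfl | rfl | rfl)
      exacts [⟨_, by decide +kernel, ez⟩, ⟨_, by decide +kernel, eA⟩, ⟨_, by decide +kernel, et⟩,
        ⟨_, by decide +kernel, ef⟩])
  have hP : IsPGroup 2 P2 := s2.sylP.isP
  have nb : ¬ IsConj t b := fun c => by
    have b1 : Bx 1 := by decide +kernel
    obtain ⟨k, e, hk⟩ := h.toB0.emb (R := (subQ Bx b1 bx_mul).map φ) c (hP.to_le (hr ▸ map_le_range _ _)) (by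
      rintro _ ⟨y, hy, rfl⟩
      exact mem_cent1.2 (by rw [← eb, ← map_mul, (bx_sq y hy).2, map_mul]))
    have q := h.ea16 hk (fun x hx => by
      obtain ⟨_, ⟨y, hy, rfl⟩, rfl⟩ := mem_cj'.1 hx
      rw [conj_mul, ← map_mul, (bx_sq y hy).1, map_one, mul_one, mul_inv_cancel])
      (by rw [card_cj, card_map inj, bx_card])
    have q1 : ∀ v, Bx v → ∃ y : PM D25, y.v % 64 < 16 ∧ φ y = k * φ v * k⁻¹ := fun v hv => by
      have m : k * φ v * k⁻¹ ∈ cj k ((subQ Bx b1 bx_mul).map φ) := mem_cj'.2 ⟨_, ⟨v, hv, rfl⟩, rfl⟩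
      rcases q with q | q
      · exact A1 _ (q ▸ m)
      · obtain ⟨y, hy, e⟩ := A2 _ (q ▸ m)
        exact ⟨y, by omega, e⟩
    have q2 : ∀ v y : PM D25, v.v / 4 = 4 → y.v % 64 < 16 → φ y = k * φ v * k⁻¹ → St y := fun v y hv hy e => by
      obtain ⟨p, hp⟩ := b_conj v hv
      exact k0 y hy ((c.trans (eb ▸ conj_map hp)).trans (isConj_iff.2 ⟨k, e.symm⟩))
    obtain ⟨y1, l1, e1⟩ := q1 (el D25 17) (by decide +kernel)
    obtain ⟨y2, l2, e2⟩ := q1 (el D25 18) (by decide +kernel)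
    have e0 : φ (el D25 8) = k * φ (el D25 16) * k⁻¹ := by rw [et, eb, e]
    have cn : ∀ {v w y y' : PM D25}, φ y = k * φ v * k⁻¹ → φ y' = k * φ w * k⁻¹ → y = y' → v = w :=
      fun a b c => inj (mul_left_cancel (mul_right_cancel (a.symm.trans (c ▸ b))))
    rcases st3 y1 (q2 _ _ (by decide +kernel) l1 e1) y2 (q2 _ _ (by decide +kernel) l2 e2)
      (q2 (el D25 16 * el D25 17 * el D25 18) _ (by decide +kernel)
        (low4_mul _ (low4_mul _ (by decide +kernel) _ l1) _ l2)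
        (by rw [map_mul, map_mul, e0, e1, e2, conj_mul, conj_mul, map_mul, map_mul])) with q | q | q
    · exact absurd (cn e1 e0 q) (by decide +kernel)
    · exact absurd (cn e2 e0 q) (by decide +kernel)
    · exact absurd (cn e1 e2 q) (by decide +kernel)
  have k1 : ∀ y, IsConj t (φ y) → St y := fun y c => by
    rcases cls y (sq y c) with q | ⟨p, q | ⟨-, q | q⟩⟩
    · exact q
    · exact absurd (c.trans (conj_map rfl)) (nR _ q)
    · exact absurd (c.trans (eb ▸ conj_map q)) nb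
    · exact absurd ((c.trans (ed ▸ conj_map q)).trans (isConj_iff.2 ⟨_, s2.ρb⟩).symm) nb
  have hT : T ≤ P2 := by
    rcases h.toCW.cardT with e | ⟨-, k, hk, -, w1, w2, w3⟩
    · rw [e, ← hr]
      refine (closure_le _).2 ?_
      rintro x (rfl | rfl | rfl | rfl)
      exacts [⟨_, eA⟩, ⟨_, ea⟩, ⟨_, et⟩, ⟨_, ef⟩]
    exfalso
    obtain ⟨ψ, E⟩ := BM.em h
    have kz : k * z * k⁻¹ = z := by rw [BM.z_comm h.toCW E hk, mul_inv_cancel_right]
    have kt : k * t * k⁻¹ = t := by rw [mem_cent1.1 (h.sylT.le hk), mul_inv_cancel_right]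
    obtain ⟨p, hp⟩ := st_conj (el D25 8 * el D25 4 * el D25 3 * el D25 2) (by decide +kernel)
    have c : IsConj t (k * t * k⁻¹ * (k * a2 * k⁻¹) * (k * f * k⁻¹) * (k * z * k⁻¹)) := by
      have := conj_map (φ := φ) hp
      rw [map_mul, map_mul, map_mul, et, ea, ef, ez] at this
      rw [conj_mul, conj_mul, conj_mul]
      exact this.trans (isConj_iff.2 ⟨k, rfl⟩)
    rw [kt, kz] at c
    rcases w2 with w2 | w2 <;> rcases w3 with w3 | w3 <;> rw [w2, w3] at c
    · exact absurd (k1 (el D25 8 * el D25 64 * el D25 1 * el D25 2) (by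
        simpa only [map_mul, et, eA, eg, ez] using c)) (by decide +kernel)
    · exact absurd (k1 (el D25 8 * el D25 64 * (el D25 1 * el D25 8) * el D25 2) (by
        simpa only [map_mul, et, eA, eg, ez] using c)) (by decide +kernel)
    · exact absurd (k1 (el D25 8 * (el D25 64 * el D25 2) * el D25 1 * el D25 2) (by
        simpa only [map_mul, et, eA, eg, ez] using c)) (by decide +kernel)
    · exact absurd (k1 (el D25 8 * (el D25 64 * el D25 2) * (el D25 1 * el D25 8) * el D25 2) (by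
        simpa only [map_mul, et, eA, eg, ez] using c)) (by decide +kernel)
  have syl : SylIn 2 P2 ⊤ := h.toB0.syl_of hP hT fun x hx _ => by
    obtain ⟨y, hy⟩ : x * t * x⁻¹ ∈ φ.range := hr ▸ conj_mem_of_norm le_rfl hx (hT h.toB0.tT)
    obtain ⟨p, hp⟩ := st_conj y (k1 y (isConj_iff.2 ⟨x, hy.symm⟩))
    exact ⟨φ p, hr ▸ ⟨p, rfl⟩, by rw [← hy, ← hp, map_mul, map_mul, map_inv, et]⟩
  have YP : AA t z a2 (f * z) ≤ P2 := fun x hx => by
    obtain ⟨y, -, rfl⟩ := A2 x hx
    exact hr ▸ ⟨y, rfl⟩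
  have M : ∀ y, Mx y → φ y ∈ AA t z a2 (f * z) ⊔ zpowers (φ (el D25 96)) := fun y hy => by
    have r : φ (el D25 96) ∈ AA t z a2 (f * z) ⊔ zpowers (φ (el D25 96)) := mem_sup_right (mem_zpowers _)
    rcases mx_nf y hy with q | q | q | q <;> have := mem_sup_left (T := zpowers (φ (el D25 96))) (A2' _ q) <;>
      simpa only [map_mul, mul_mem_cancel_right r] using this
  refine h.toGH.not_sr' syl (sr16 (Y := AA t z a2 (f * z)) (r := φ (el D25 96)) hP s2.sylP.le (fun x hx => ?_)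
    s2.card (s2.syl.eq_of_le hP.to_inf_left inf_le_right (le_inf YP s2.syl.le)).le (hr ▸ ⟨_, rfl⟩)
    (fun x hx y hy x0 y0 => ?_) fun s hs s0 => ?_)
  · obtain ⟨y, hy, rfl⟩ := A2 x hx
    rw [← map_mul, low_sq y hy, map_one]
  · obtain ⟨x, rfl⟩ : x ∈ φ.range := hr ▸ hx
    obtain ⟨y, rfl⟩ : y ∈ φ.range := hr ▸ hy
    rw [← map_mul]
    exact M _ (mx_out x (fun q => x0 (M x q)) y fun q => y0 (M y q))
  · rw [zpowers_eq_closure] at hs
    obtain ⟨v, hv, rfl⟩ := le_sub (φ := φ) (p := Rr) (by decide +kernel) rr_mul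
      (by rintro x rfl; exact ⟨_, by decide +kernel, rfl⟩) hs
    rcases cr v hv with rfl | q
    · exact absurd (by rw [map_one]; exact one_mem _) s0
    · refine (B25.card_le inj (p := fun y : PM D25 => y.v < 4) fun x hx => ?_).trans c4.le
      obtain ⟨y, hy, rfl⟩ := A2 x hx.1
      exact ⟨y, q y hy (inj (by rw [map_mul, map_mul]; exact mem_cent1.1 hx.2)), rfl⟩

end Cfsg.Agent.DIH
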