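import Cfsg.Agent.DIH.Defs
import Cfsg.Agent.DIH.CaseA0

set_option autoImplicit false

namespace Cfsg.Agent.DIH

open Subgroup H49
open H42 (SylIn)

variable {G : Type*} [Group G] [Finite G] {F O K T C0 P P1 P2 S : Subgroup G}
  {t z a a' a1 a2 f : G}

theorem CA1.symm (h : CA1 F O K T C0 t z a1 a2) : CA1 F O K T C0 t z a2 a1 := by
  have e : TT t a2 a1 1 = TT t a1 a2 1 := by rw [TT, Set.insert_comm]; rfl
  exact { h with
    s1 := h.s2, s2 := h.s1, c1 := h.c2, c2 := h.c1, r := by rw [h.r, mul_assoc, h.z2, mul_one]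
    sylD := Set.pair_comm a1 a2 ▸ h.sylD, a1T := h.a2T, a2T := h.a1T, cardT0 := e ▸ h.cardT0
    Tel := fun y hy => (h.Tel y hy).imp (e ▸ id) And.symm, TC0 := e ▸ h.TC0, nE1 := h.nE2, nE2 := h.nE1
    r1 := h.r2, r2 := h.r1 }

theorem c1_norm {s : Set G} {g : G} (h : ∀ y ∈ s, g * y * g⁻¹ ∈ closure s) : g ∈ 𝒩(closure s) :=
  mem_norm_of_cj_le (cj_le_iff.2 ((closure_le _).2 fun y hy => mem_cj.2 (by simpa using h y hy)))

omit [Finite G] in
theorem c1_cj {s q e : G} (hs : s * t * s⁻¹ = t) (hq : q * t * q⁻¹ = t * e) :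
    s * q * s⁻¹ * t * (s * q * s⁻¹)⁻¹ = t * (s * e * s⁻¹) := by
  conv_lhs => rw [← hs, conj_inv, conj_mul, conj_mul, hq, ← conj_mul, hs]

omit [Finite G] in
theorem c1_mul {s r x y w : G} (h1 : s * x * s⁻¹ = y) (h2 : r * y * r⁻¹ = w) : r * s * x * (r * s)⁻¹ = w := by
  rw [← h2, ← h1]; group

omit [Finite G] in
theorem c1_inv {s x y : G} (h : s * x * s⁻¹ = y) : s⁻¹ * y * s⁻¹⁻¹ = x := by rw [← h]; group

theorem c1_rho {ρ : G} (r : Rho t z a1 1 ρ) : ρ ∈ 𝒩(closure {z, a1, t}) := c1_norm fun y hy => by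
  rcases hy with e | e | e <;> rw [e]
  · rw [r.ρz]; exact subset_closure (by simp)
  · rw [r.ρa]; exact mul_mem (subset_closure (by simp)) (subset_closure (by simp))
  · rw [r.ρt]; exact subset_closure (by simp)

section
variable (h : CA1 F O K T C0 t z a1 a2)
include h

section
omit [Finite G]

theorem CA1.c1_E {e : G} : e ∈ closure {z, a1} ↔ e = 1 ∨ e = z ∨ e = a1 ∨ e = a1 * z := c0_mem4 h.z2 h.s1 h.c1.symm

theorem CA1.c1_A {y : G} : y ∈ closure {z, a1, t} ↔ ∃ e ∈ closure {z, a1}, y = e ∨ y = t * e := by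
  have st : ∀ y ∈ ({z, a1, t} : Set G), ∀ x, (∃ e ∈ closure {z, a1}, x = e ∨ x = t * e) →
      ∃ e ∈ closure {z, a1}, y * x = e ∨ y * x = t * e := by
    rintro y hy x ⟨e, he, c⟩
    rcases hy with c' | c' | c' <;> rw [c']
    · exact ⟨_, mul_mem (h.c1_E.2 (by simp)) he, c.imp (congrArg (z * ·)) fun c => by rw [c, (h.toB0.c0_rw.2 e).2.2.2.2.2.2.2.2.2]⟩
    · exact ⟨_, mul_mem (h.c1_E.2 (by simp)) he, c.imp (congrArg (a1 * ·)) fun c => by rw [c, (h.toB0.c0_rw.2 e).2.2.2.2.2.2.2.1]⟩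
    · exact ⟨e, he, c.symm.imp (fun c => by rw [c, ← mul_assoc, h.t2, one_mul]) (congrArg (t * ·))⟩
  refine ⟨fun hy => ?_, ?_⟩
  · induction hy using closure_induction_left with
    | one => exact ⟨1, one_mem _, Or.inl rfl⟩
    | mul_left y hy x _ e => exact st y hy x e
    | inv_mul_cancel y hy x _ e =>
      rw [show y⁻¹ = y by rcases hy with e | e | e <;> rw [e] <;> simp [h.toB0.c0_rw]]
      exact st y hy x e
  · have le : closure {z, a1} ≤ closure {z, a1, t} := closure_mono (by simp [Set.insert_subset_iff])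
    rintro ⟨e, he, c | c⟩ <;> rw [c]
    exacts [le he, mul_mem (subset_closure (by simp)) (le he)]

theorem CA1.c1_ne : z ≠ 1 ∧ a1 ≠ 1 ∧ a1 ≠ z ∧ a1 * z ≠ 1 := by
  have a : a1 ≠ z := fun e => h.z1 (by have := h.r; rwa [e, ← h.c2, left_eq_mul] at this)
  exact ⟨h.z1, fun e => h.z1 (by have := h.r; rwa [e, mul_one, one_mul, left_eq_mul] at this), a,
    fun e => a (mul_right_cancel (e.trans h.z2.symm))⟩

end

theorem CA1.c1_a2 : a2 ∈ 𝒩(closure {z, a1, t}) := c1_norm fun y hy => by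
  rcases hy with e | e | e <;> rw [e] <;> simp only [mul_assoc, h.toB0.c0_rw]
  exacts [subset_closure (by simp), mul_mem (subset_closure (by simp)) (subset_closure (by simp)), subset_closure (by simp)]

theorem CA1.c1_tr {e : G} (he : e ∈ closure {z, a1}) (e1 : e ≠ 1) :
    ∃ s ∈ 𝒩(closure {z, a1, t}), s * t * s⁻¹ = t ∧ s * e * s⁻¹ = z := by
  obtain ⟨ρ, -, r⟩ := h.r1
  have r3 : ρ * (a1 * z) * ρ⁻¹ = z := by rw [← conj_mul, r.ρz, r.ρa]; simp [mul_assoc, h.toB0.c0_rw]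
  rcases h.c1_E.1 he with c | c | c | c
  · exact absurd c e1
  · exact ⟨1, one_mem _, by simp, by simp [c]⟩
  · exact ⟨ρ * ρ, mul_mem (c1_rho r) (c1_rho r), c1_mul r.ρt r.ρt, c ▸ c1_mul r.ρa r3⟩
  · exact ⟨ρ, c1_rho r, r.ρt, c ▸ r3⟩

theorem CA1.c1_nt {e : G} (he : e ∈ closure {z, a1}) : ¬ IsConj t e := fun c => by
  by_cases e1 : e = 1
  · exact h.t1 (isConj_one_left.1 (e1 ▸ c))
  · obtain ⟨s, -, -, e⟩ := h.c1_tr he e1
    exact h.tz.2 (c.trans (isConj_iff.2 ⟨s, e⟩))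

theorem CA1.c1_tE {n : G} (hn : n ∈ 𝒩(closure {z, a1, t})) : ∃ e ∈ closure {z, a1}, n * t * n⁻¹ = t * e := by
  obtain ⟨e, he, c | c⟩ := h.c1_A.1 ((mem_normalizer_iff.1 hn t).1 (subset_closure (by simp)))
  exacts [absurd (isConj_iff.2 ⟨n, c⟩) (h.c1_nt he), ⟨e, he, c⟩]

theorem CA1.c1_n0 : ∃ n ∈ 𝒩(closure {z, a1, t}), n * t * n⁻¹ ≠ t := by
  obtain ⟨-, R, hR, lt, le⟩ := h.c0_lt
  obtain ⟨x, hx, xT⟩ := SetLike.exists_of_lt lt
  have b := h.toB0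
  have xt : x * t * x⁻¹ ≠ t := fun e => xT (b.CS hR lt.le ▸ mem_inf.2 ⟨hx, mem_cent1.2 (mul_inv_eq_iff_eq_mul.1 e)⟩)
  have xz := h.c0_nz (le hx)
  have cm : ∀ {y}, y ∈ T → x * y * x⁻¹ ∈ T := fun hy => (mem_normalizer_iff.1 (le hx) _).1 hy
  have ct : ∀ y ∈ T, y * t = t * y := fun y hy => mem_cent1.1 (h.sylT.le hy)
  have cz : ∀ y ∈ T, y * z = z * y := fun y hy => mul_inv_eq_iff_eq_mul.1 (h.c0_nz (le_normalizer hy))
  have z1 := h.z1
  have xt' : x * t * x⁻¹ = z * t := by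
    have c : ∀ y ∈ T, y * (x * t * x⁻¹) = x * t * x⁻¹ * y := fun y hy => by
      simpa [mul_assoc] using congrArg (fun w => x * w * x⁻¹) (ct _ ((mem_normalizer_iff''.1 (le hx) y).1 hy))
    have c1 := c a1 h.a1T
    have c2 := c a2 h.a2T
    have c3 : x * t * x⁻¹ ≠ 1 := fun e => h.t1 (conj_eq_one_iff.1 e)
    have c4 : x * t * x⁻¹ ≠ z := fun e => h.tz.2 (isConj_iff.2 ⟨x, e⟩)
    obtain ⟨i, j, k, l, e⟩ := b.c0_nf (h.eq ▸ cm b.tT)
    rw [e] at c1 c2 c3 c4 xt ⊢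
    revert c1 c2 c3 c4 xt
    cases i <;> cases j <;> cases k <;> cases l <;> simp [pw, mul_assoc, b.c0_rw, z1]
  have c1 : x * a1 * x⁻¹ * (x * a1 * x⁻¹) = 1 := by rw [conj_mul, h.s1, mul_one, mul_inv_cancel]
  have c2 : x * a2 * x⁻¹ * (x * a1 * x⁻¹) ≠ x * a1 * x⁻¹ * (x * a2 * x⁻¹) := fun e => by
    rw [conj_mul, conj_mul, mul_left_inj, mul_right_inj, h.r, mul_eq_left] at e
    exact z1 e
  have mz : ∀ {a}, z ∈ closure {z, a, t} := subset_closure (by simp)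
  have mt : ∀ {a}, t ∈ closure {z, a, t} := subset_closure (by simp)
  have ma : ∀ {a}, a ∈ closure {z, a, t} := subset_closure (by simp)
  have mp : ∀ {A : Subgroup G} {y} b, y ∈ A → pw b y ∈ A := fun b hy => by cases b; exacts [one_mem _, hy]
  obtain ⟨i, j, k, l, e⟩ := b.c0_nf (h.eq ▸ cm h.a1T)
  cases i <;> cases j <;> simp only [pw, cond_true, cond_false, one_mul, mul_one] at e
  · refine absurd ?_ c2
    rw [e]
    cases k <;> cases l <;> simp only [cond_true, cond_false, one_mul, mul_one]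
    exacts [ct _ (cm h.a2T), cz _ (cm h.a2T), (show Commute _ z from cz _ (cm h.a2T)).mul_right (ct _ (cm h.a2T))]
  · obtain ⟨ρ, -, r⟩ := h.r2
    have hA : cj x (closure {z, a1, t}) = closure {z, a2, t} := by
      have nz : z ∈ cj x (closure {z, a1, t}) := by simpa only [xz] using (conj_mem_cj (g := x)).2 (@mz a1)
      have nt : t ∈ cj x (closure {z, a1, t}) := (mul_mem_cancel_left nz).1 (by rw [← xt']; exact conj_mem_cj.2 mt)
      refine le_antisymm (cj_le_iff.2 ((closure_le _).2 fun y hy => mem_cj.2 ?_)) ((closure_le _).2 fun y hy => ?_)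
      · rw [inv_inv]
        rcases hy with c | c | c <;> rw [c]
        exacts [by rw [xz]; exact mz, by rw [e]; exact mul_mem (mul_mem ma (mp k mz)) (mp l mt),
          by rw [xt']; exact mul_mem mz mt]
      · rcases hy with c | c | c <;> rw [c]
        exacts [nz, (mul_mem_cancel_right (mp k nz)).1 ((mul_mem_cancel_right (mp l nt)).1 (by
          simp only [pw]; rw [← e]; exact conj_mem_cj.2 ma)), nt]
    refine ⟨x⁻¹ * ρ * x, mem_norm_iff_cj.2 (by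
      rw [cj_mul, cj_mul, hA, cj_eq_of_mem_norm (c1_rho r), ← hA, cj_inv_cj]), fun c => h.symm.c1_ne.2.2.1 ?_⟩
    have : ρ * (x * t * x⁻¹) * ρ⁻¹ = x * t * x⁻¹ := Eq.trans (by group) (congrArg (fun w => x * w * x⁻¹) c)
    rwa [xt', ← conj_mul, r.ρz, r.ρt, mul_left_inj] at this
  · refine ⟨x, c1_norm fun y hy => ?_, xt⟩
    rcases hy with c | c | c <;> rw [c]
    exacts [by rw [xz]; exact mz, by rw [e]; exact mul_mem (mul_mem ma (mp k mz)) (mp l mt),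
      by rw [xt']; exact mul_mem mz mt]
  · rw [e] at c1
    revert c1
    cases k <;> cases l <;> simp [mul_assoc, b.c0_rw, z1]

theorem CA1.c1_all {n : G} (hn : n ∈ 𝒩(closure {z, a1, t})) (n1 : n * t * n⁻¹ ≠ t) {e : G} (he : e ∈ closure {z, a1})
    (e1 : e ≠ 1) : ∃ s ∈ 𝒩(closure {z, a1, t}), s * t * s⁻¹ = t ∧ ∃ d, n * t * n⁻¹ = t * d ∧ s * d * s⁻¹ = e := by
  obtain ⟨d, hd, c⟩ := h.c1_tE hn
  obtain ⟨s, hs, s1, s2⟩ := h.c1_tr hd fun c' => n1 (by rw [c, c', mul_one])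
  obtain ⟨r, hr, r1, r2⟩ := h.c1_tr he e1
  exact ⟨r⁻¹ * s, mul_mem (inv_mem hr) hs, c1_mul s1 (c1_inv r1), d, c, c1_mul s2 (c1_inv r2)⟩

theorem CA1.c1_nE : 𝒩(closure {z, a1, t}) ≤ 𝒩(closure {z, a1}) := fun n hn => mem_normalizer_fintype fun e he => by
  obtain ⟨d, hd, c | c⟩ := h.c1_A.1 ((mem_normalizer_iff.1 hn e).1 (h.c1_A.2 ⟨e, he, Or.inl rfl⟩))
  · rw [c]; exact hd
  refine absurd (IsConj.trans ?_ (isConj_iff.2 ⟨n, c⟩).symm) (h.c1_nt he)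
  by_cases d1 : d = 1
  · rw [d1, mul_one]
  obtain ⟨m, hm, m1⟩ := h.c1_n0
  obtain ⟨s, -, s1, d', c1, c2⟩ := h.c1_all hm m1 hd d1
  exact isConj_iff.2 ⟨s * m, c1_mul c1 (by rw [← conj_mul, s1, c2])⟩

theorem CA1.c1_m {e : G} (he : e ∈ closure {z, a1}) :
    ∃ m ∈ 𝒩(closure {z, a1, t}) ⊓ 𝒞(closure {z, a1}), m * t * m⁻¹ = t * e := by
  by_cases e1 : e = 1
  · exact ⟨1, one_mem _, by simp [e1]⟩
  obtain ⟨n, hn, n1⟩ := h.c1_n0
  have mv : ∀ {n s : G}, n * t * n⁻¹ ≠ t → s * t * s⁻¹ = t → s * n * t * (s * n)⁻¹ ≠ t := fun {n s} n1 s1 c =>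
    n1 (by simpa using c1_mul c (c1_inv s1))
  obtain ⟨s, hs, s1, s2⟩ := h.c1_tr ((mem_normalizer_iff.1 (h.c1_nE hn) z).1 (h.c1_E.2 (by simp)))
    fun c => h.z1 (conj_eq_one_iff.1 c)
  replace s2 := c1_mul rfl s2
  replace hn := mul_mem hs hn
  replace n1 := mv n1 s1
  generalize s * n = n at hn n1 s2
  obtain ⟨m, hm, m1, m2, m3⟩ : ∃ m ∈ 𝒩(closure {z, a1, t}), m * t * m⁻¹ ≠ t ∧ m * z * m⁻¹ = z ∧ m * a1 * m⁻¹ = a1 := by
    rcases h.c1_E.1 ((mem_normalizer_iff.1 (h.c1_nE hn) a1).1 (h.c1_E.2 (by simp))) with c | c | c | c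
    · exact absurd (conj_eq_one_iff.1 c) h.c1_ne.2.1
    · exact absurd (by simpa using c.trans s2.symm) h.c1_ne.2.2.1
    · exact ⟨n, hn, n1, s2, c⟩
    · exact ⟨a2 * n, mul_mem h.c1_a2 hn, mv n1 (by simp [mul_assoc, h.toB0.c0_rw]),
        c1_mul s2 (by simp [mul_assoc, h.toB0.c0_rw]), c1_mul c (by simp [mul_assoc, h.toB0.c0_rw])⟩
  have mC : m ∈ 𝒞(closure {z, a1}) := mem_centralizer_iff.2 fun y hy => (mul_inv_eq_iff_eq_mul.1 (by
    rcases h.c1_E.1 hy with c | c | c | c <;> rw [c]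
    exacts [by simp, m2, m3, by rw [← conj_mul, m2, m3]])).symm
  obtain ⟨r, hr, r1, d, c1, c2⟩ := h.c1_all hm m1 he e1
  exact ⟨_, mem_inf.2 ⟨mul_mem (mul_mem hr hm) (inv_mem hr), conj_mem_of_norm (norm_cent h.c1_nE) hr mC⟩,
    c2 ▸ c1_cj r1 c1⟩

theorem CA1.c1_q {Q : Subgroup G} (hQ : SylIn 2 Q (𝒩(closure {z, a1, t}) ⊓ 𝒞(closure {z, a1}))) {e : G}
    (he : e ∈ closure {z, a1}) : ∃ q ∈ Q, q * t * q⁻¹ = t * e := by
  obtain ⟨m, hm, c⟩ := h.c1_m he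
  have ce : ∀ {m e}, m ∈ 𝒩(closure {z, a1, t}) ⊓ 𝒞(closure {z, a1}) → e ∈ closure {z, a1} → m * e * m⁻¹ = e :=
    fun hm he => mul_inv_eq_iff_eq_mul.2 (mem_centralizer_iff.1 hm.2 _ he).symm
  obtain ⟨j, k, ⟨i, rfl⟩, o⟩ := Nat.exists_eq_two_pow_mul_odd (orderOf_pos m).ne'
  have ee : e * e = 1 := by rcases h.c1_E.1 he with c | c | c | c <;> simp [c, mul_assoc, h.toB0.c0_rw]
  have c2 : m ^ 2 * t * (m ^ 2)⁻¹ = t := by
    rw [sq]; exact c1_mul c (by rw [← conj_mul, c, ce hm he, mul_assoc, ee, mul_one])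
  have c3 : m ^ (2 * i + 1) * t * (m ^ (2 * i + 1))⁻¹ = t * e := by
    rw [pow_succ', pow_mul]
    exact c1_mul (mul_inv_eq_iff_eq_mul.2 ((show Commute (m ^ 2) t from mul_inv_eq_iff_eq_mul.1 c2).pow_left i)) c
  obtain ⟨g, hg, m'⟩ := hQ.exists_conj (R := zpowers (m ^ (2 * i + 1))) (IsPGroup.of_card (n := j) (by
    rw [Nat.card_zpowers, orderOf_pow_of_dvd (by omega) (by rw [o]; exact dvd_mul_left _ _), o,
      Nat.mul_div_cancel _ (by omega)])) (zpowers_le.2 (pow_mem hm _))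
  obtain ⟨d, hd, c4⟩ := h.c1_tE (inv_mem hg.1)
  refine ⟨_, m' _ (mem_zpowers _), c1_mul c4 (c1_mul (y := t * d * e) ?_ ?_)⟩
  · rw [← conj_mul, c3, ce (pow_mem hm _) hd, mul_assoc, mul_assoc, mem_centralizer_iff.1 (show e ∈ 𝒞(closure {z, a1}) from
      mem_centralizer_iff.2 fun y hy => by
        rcases h.c1_E.1 he with c | c | c | c <;> rcases h.c1_E.1 hy with c' | c' | c' | c' <;>
          simp [c, c', mul_assoc, h.toB0.c0_rw]) d hd]
  · rw [← conj_mul, ce hg he, ← c4]; group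

end

theorem c1_alg (h : CA1 F O K T C0 t z a1 a2) {Q : Subgroup G} {σ b : G} (hE : Q ≤ 𝒞(closure {z, a1})) (tQ : t ∈ Q)
    (hA : ∀ q ∈ Q, q * t = t * q → q ∈ closure {z, a1, t}) (hN : Q ≤ 𝒩(closure {z, a1, t})) (hb : b ∈ Q)
    (bt : b * t * b⁻¹ = t * z) (hσ : σ ∈ 𝒩(Q)) (σt : σ * t * σ⁻¹ = t) (σz : σ * z * σ⁻¹ = a1)
    (σa : σ * a1 * σ⁻¹ = a1 * z) (ha : a2 ∈ 𝒩(Q)) : ∃ x ∈ Q, ∃ l : Bool, x * t * x⁻¹ = t * a1 ∧ x * x = pw l a1 ∧
      x * (a2 * x * a2) = a2 * x * a2 * x := by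
  have R := h.toB0.c0_rw
  obtain ⟨n1, n2, n3, n4⟩ := h.c1_ne
  have σ3 : σ * (a1 * z) * σ⁻¹ = z := by rw [← conj_mul, σz, σa]; simp [mul_assoc, R]
  have ce : ∀ q ∈ Q, ∀ e ∈ closure {z, a1}, e * q = q * e := fun q hq => mem_centralizer_iff.1 (hE hq)
  have tr : ∀ {q e}, q ∈ Q → e ∈ closure {z, a1} → q * t * q⁻¹ = t * e → (z * q = q * z ∧ a1 * q = q * a1 ∧
      t * q = q * (t * e)) ∧ ∀ w, z * (q * w) = q * (z * w) ∧ a1 * (q * w) = q * (a1 * w) ∧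
        t * (q * w) = q * (t * (e * w)) := fun {q e} hq he c => by
    have c1 := ce q hq z (h.c1_E.2 (by simp))
    have c2 := ce q hq a1 (h.c1_E.2 (by simp))
    have c3 : t * q = q * (t * e) := by
      rw [← mul_assoc, mul_inv_eq_iff_eq_mul.1 c, mul_assoc, ← ce q hq e he, mul_assoc, ← mul_assoc e]
      rcases h.c1_E.1 he with c | c | c | c <;> simp [c, mul_assoc, R]
    exact ⟨⟨c1, c2, c3⟩, fun w => by simp only [← mul_assoc, c1, c2, c3, and_self]⟩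
  have sq : ∀ q ∈ Q, q * q ∈ closure {z, a1} := fun q hq => by
    obtain ⟨e, he, c⟩ := h.c1_tE (hN hq)
    have r := tr hq he c
    obtain ⟨d, hd, c' | c'⟩ := h.c1_A.1 (hA _ (mul_mem hq hq) (by
      rcases h.c1_E.1 he with rfl | rfl | rfl | rfl <;> simp [mul_assoc, r, R]))
    · rw [c']; exact hd
    have c1 : t * d * q = q * (t * d) := by rw [← c', mul_assoc]
    rw [mul_assoc, ce q hq d hd, (r.2 d).2.2, mul_right_inj, mul_right_inj, mul_eq_right] at c1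
    rw [c1, mul_one, mul_inv_eq_iff_eq_mul] at c
    obtain ⟨d', hd', c2 | c2⟩ := h.c1_A.1 (hA q hq c) <;> rw [c2] <;> rcases h.c1_E.1 hd' with c | c | c | c <;>
      simp [c, mul_assoc, R]
  have σQ : ∀ {q}, q ∈ Q → σ * q * σ⁻¹ ∈ Q := fun hq => (mem_normalizer_iff.1 hσ _).1 hq
  have mz : z ∈ closure {z, a1} := h.c1_E.2 (by simp)
  have ma : a1 ∈ closure {z, a1} := h.c1_E.2 (by simp)
  obtain ⟨b, hb, bt, hN⟩ : ∃ b ∈ Q, b * t * b⁻¹ = t * z ∧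
      b * (σ * b * σ⁻¹) * (σ * (σ * b * σ⁻¹) * σ⁻¹) ∈ closure {z, a1} := by
    have xt := σz ▸ c1_cj σt bt
    have r1 := tr hb mz bt
    have r2 := tr (σQ hb) ma xt
    have r3 := tr (σQ (σQ hb)) (mul_mem ma mz) (σa ▸ c1_cj σt xt)
    have hN := hA _ (mul_mem (mul_mem hb (σQ hb)) (σQ (σQ hb)))
    have e : b * t * (σ * (b * t) * σ⁻¹) * (σ * (σ * (b * t) * σ⁻¹) * σ⁻¹) =
        b * t * (σ * b * σ⁻¹ * t) * (σ * (σ * b * σ⁻¹) * σ⁻¹ * t) := by rw [← conj_mul, σt, ← conj_mul, σt]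
    obtain ⟨d, hd, c | c⟩ := h.c1_A.1 (hN (by
      generalize σ * (σ * b * σ⁻¹) * σ⁻¹ = y at r3
      generalize σ * b * σ⁻¹ = x at r2
      simp [mul_assoc, r1, r2, r3, R]))
    · exact ⟨b, hb, bt, c ▸ hd⟩
    refine ⟨b * t, mul_mem hb tQ, c1_mul (by simp) bt, ?_⟩
    rw [e]
    generalize σ * (σ * b * σ⁻¹) * σ⁻¹ = y at r3 c
    generalize σ * b * σ⁻¹ = x at r2 c
    have c' : ∀ w, b * (x * (y * w)) = t * (d * w) := fun w => by simp only [← mul_assoc, c]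
    rcases h.c1_E.1 hd with rfl | rfl | rfl | rfl <;> simp [mul_assoc, r2, r3, R, c', mz, ma, mul_mem]
  have xt := σz ▸ c1_cj σt bt
  have hx := σQ hb
  obtain ⟨x, ex⟩ : ∃ x, σ * b * σ⁻¹ = x := ⟨_, rfl⟩
  rw [ex] at hN xt hx
  obtain ⟨y, ey⟩ : ∃ y, σ * x * σ⁻¹ = y := ⟨_, rfl⟩
  rw [ey] at hN
  have bx : x * b = b * x := by
    have hc : b * x * b⁻¹ * x⁻¹ ∈ closure {z, a1} := by
      rw [show b * x * b⁻¹ * x⁻¹ = b * x * (b * x) * (x⁻¹ * ((b * b)⁻¹ * x) * (x * x)⁻¹) by group,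
        ce x hx _ (inv_mem (sq b hb)), inv_mul_cancel_left]
      exact mul_mem (sq _ (mul_mem hb hx)) (mul_mem (inv_mem (sq b hb)) (inv_mem (sq x hx)))
    have hf : σ * (b * x * b⁻¹ * x⁻¹) * σ⁻¹ = b * x * b⁻¹ * x⁻¹ := by
      rw [← conj_mul, ← conj_mul, ← conj_mul, ← conj_inv, ← conj_inv, ex, ey, show x * y * x⁻¹ * y⁻¹ =
        b⁻¹ * (b * x * y * x⁻¹) * (b * x * y)⁻¹ * (b * x) by group, ce _ (inv_mem hx) _ hN, show
        b⁻¹ * (x⁻¹ * (b * x * y)) * (b * x * y)⁻¹ * (b * x) = (x * b)⁻¹ * (b * x * b⁻¹ * x⁻¹ * (x * b)) by group,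
        ce _ (mul_mem hx hb) _ hc, inv_mul_cancel_left]
    rcases h.c1_E.1 hc with c | c | c | c
    · rw [← one_mul (x * b), ← c]; group
    all_goals rw [c] at hf
    · exact absurd (σz.symm.trans hf) n3
    · exact absurd (mul_eq_left.1 (σa.symm.trans hf)) n1
    · exact absurd (left_eq_mul.1 ((σ3.symm.trans hf).trans h.c1.symm)) n2
  have bx' : ∀ w, x * (b * w) = b * (x * w) := fun w => by simp only [← mul_assoc, bx]
  have r1 := tr hb mz bt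
  have r2 := tr hx ma xt
  have a2t : a2 * t * a2⁻¹ = t := by simp [mul_assoc, R]
  have hb' := (mem_normalizer_iff.1 ha b).1 hb
  have hx' := (mem_normalizer_iff.1 ha x).1 hx
  have bxt : b * x * t * (b * x)⁻¹ = t * (a1 * z) := c1_mul xt (mul_inv_eq_iff_eq_mul.2 (by simp [mul_assoc, r1, R]))
  have c1 : a2 * b * a2⁻¹ * (a2 * x * a2⁻¹) = a2 * x * a2⁻¹ * (a2 * b * a2⁻¹) := by rw [conj_mul, conj_mul, bx]
  have c2 : a2 * b * a2⁻¹ * (a2 * b * a2⁻¹) = a2 * (b * b) * a2⁻¹ := conj_mul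
  have c3 : x * x = σ * (b * b) * σ⁻¹ := by rw [← conj_mul, ex]
  obtain ⟨d, hd, eu⟩ := h.c1_A.1 (hA _ (mul_mem (inv_mem hb) hb') (mul_inv_eq_iff_eq_mul.1
    (c1_mul ((c1_cj a2t bt).trans (by simp [mul_assoc, R])) (c1_inv bt))))
  obtain ⟨d', hd', ev⟩ := h.c1_A.1 (hA _ (mul_mem (inv_mem (mul_mem hb hx)) hx') (mul_inv_eq_iff_eq_mul.1
    (c1_mul ((c1_cj a2t xt).trans (by simp [mul_assoc, R])) (c1_inv bxt))))
  simp only [inv_mul_eq_iff_eq_mul] at eu ev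
  have key : a2 * (b * b) * a2⁻¹ = b * b ∧ x * (a2 * x * a2⁻¹) = a2 * x * a2⁻¹ * x := by
    have n5 : a1 * (z * t) ≠ t := fun e => n4 (by rwa [← mul_assoc, mul_eq_right] at e)
    rw [← c2]
    generalize a2 * b * a2⁻¹ = b' at c1 eu
    generalize a2 * x * a2⁻¹ = x' at c1 ev
    revert c1
    rcases eu with eu | eu <;> rcases ev with ev | ev <;> rw [eu, ev] <;> rcases h.c1_E.1 hd with c | c | c | c <;>
      rcases h.c1_E.1 hd' with c' | c' | c' | c' <;> simp [c, c', mul_assoc, r1, r2, R, bx, bx', n1, n2, n3, n3.symm, n5, n5.symm]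
  rw [R.1.2.2.2.2.2.2.2.2.2.2.2.1] at key
  rcases h.c1_E.1 (sq b hb) with c | c | c | c <;> rw [c] at c3 key
  · exact ⟨x, hx, false, xt, by simpa [pw] using c3, key.2⟩
  · exact ⟨x, hx, true, xt, c3.trans σz, key.2⟩
  all_goals exact absurd key.1 (by simp [mul_assoc, R, n1])

/-- `Aut_G(A₁) = S₄`; every Sylow 2-subgroup `P ⊇ T` of `N(A₁)` is `Y⟨t, a₂⟩`, `Y = E₁₆` or `4²` -/
theorem CA1.loc (h : CA1 F O K T C0 t z a1 a2) (hP : SylIn 2 P 𝒩(closure {z, a1, t})) (hT : T ≤ P) :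
    Nat.card P = 64 ∧ ∃ (x : G) (l : Bool), P = closure {z, a1, a2, t, x} ∧
      x * t * x⁻¹ = t * a1 ∧ x * z = z * x ∧ x * a1 = a1 * x ∧ x * x = pw l a1 ∧
      x * (a2 * x * a2) = a2 * x * a2 * x := by
  have R := h.toB0.c0_rw
  obtain ⟨n1, n2, n3, n4⟩ := h.c1_ne
  have nM := norm_inf (le_normalizer (H := 𝒩(closure {z, a1, t}))) (norm_cent h.c1_nE)
  have hQ := hP.inf_normal inf_le_left nM
  have mz : z ∈ closure {z, a1} := h.c1_E.2 (by simp)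
  have ma : a1 ∈ closure {z, a1} := h.c1_E.2 (by simp)
  have ce : ∀ {m e}, m ∈ 𝒩(closure {z, a1, t}) ⊓ 𝒞(closure {z, a1}) → e ∈ closure {z, a1} → m * e * m⁻¹ = e :=
    fun hm he => mul_inv_eq_iff_eq_mul.2 (mem_centralizer_iff.1 hm.2 _ he).symm
  have CS := h.toB0.CS hP.isP hT
  obtain ⟨ρ, -, r⟩ := h.r1
  obtain ⟨c, hc, e⟩ := hQ.exists_conj (isPGroup_cj.2 hQ.isP) (cj_le_of_mem_norm hQ.le (nM (c1_rho r)))
  obtain ⟨d, hd, ed⟩ := h.c1_tE hc.1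
  obtain ⟨q, hq, eq⟩ := h.c1_q hQ hd
  obtain ⟨b, hb, eb⟩ := h.c1_q hQ mz
  have tP := hT h.toB0.tT
  have aP := hT h.a2T
  obtain ⟨x, hx, l, xt, xx, xc⟩ := c1_alg h (σ := q⁻¹ * (c * ρ)) (inf_le_right.trans inf_le_right)
    (mem_inf.2 ⟨tP, mem_inf.2 ⟨hP.le tP, mem_centralizer_iff.2 fun y hy => by
      rcases h.c1_E.1 hy with c | c | c | c <;> simp [c, mul_assoc, R]⟩⟩) (fun y hy c => by
      obtain ⟨i, j, k, l, e⟩ := h.toB0.c0_nf (h.eq ▸ CS ▸ mem_inf.2 ⟨hy.1, mem_cent1.2 c⟩)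
      have c' := mem_centralizer_iff.1 hy.2.2 a1 ma
      have m1 : z ∈ closure {z, a1, t} := subset_closure (by simp)
      have m2 : a1 ∈ closure {z, a1, t} := subset_closure (by simp)
      have m3 : t ∈ closure {z, a1, t} := subset_closure (by simp)
      rw [e] at c' ⊢
      revert c'
      cases i <;> cases j <;> cases k <;> cases l <;> simp [pw, mul_assoc, R, n1, mul_mem, m1, m2, m3])
    (inf_le_right.trans inf_le_left) hb eb (mul_mem (le_normalizer (inv_mem hq)) (mem_normalizer_fintype fun y hy => by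
      have := e _ (conj_mem_cj.2 hy)
      rwa [c1_mul rfl rfl])) (c1_mul (c1_mul r.ρt ed) (c1_inv eq))
    (c1_mul (c1_mul r.ρz (ce hc ma)) (ce (inv_mem hq.2) ma))
    (c1_mul (c1_mul r.ρa (ce hc (mul_mem ma mz))) (ce (inv_mem hq.2) (mul_mem ma mz)))
    (norm_inf le_normalizer (hP.le.trans nM) aP)
  have xz := mul_inv_eq_iff_eq_mul.1 (ce hx.2 mz)
  have xa := mul_inv_eq_iff_eq_mul.1 (ce hx.2 ma)
  have x't : a2 * x * a2⁻¹ * t * (a2 * x * a2⁻¹)⁻¹ = t * (a1 * z) :=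
    (c1_cj (by simp [mul_assoc, R]) xt).trans (by simp [mul_assoc, R])
  have mp : ∀ {A : Subgroup G} {y} b, y ∈ A → pw b y ∈ A := fun b hy => by cases b; exacts [one_mem _, hy]
  have qt : ∀ i j, pw i x * pw j (a2 * x * a2⁻¹) * t * (pw i x * pw j (a2 * x * a2⁻¹))⁻¹ =
      t * (pw i a1 * pw j (a1 * z)) := fun i j => by
    cases i <;> cases j
    exacts [by simp [pw], by simpa only [pw, cond_true, cond_false, one_mul] using x't, by simpa [pw] using xt,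
      c1_mul (r := x) x't (by rw [← conj_mul, xt, ce hx.2 (mul_mem ma mz), mul_assoc]; rfl)]
  have qP : ∀ i j, pw i x * pw j (a2 * x * a2⁻¹) ∈ P := fun i j =>
    mul_mem (mp i hx.1) (mp j (mul_mem (mul_mem aP hx.1) (inv_mem aP)))
  have sur : ∀ p ∈ P, ∃ i j, (pw i x * pw j (a2 * x * a2⁻¹))⁻¹ * p ∈ T := fun p hp => by
    obtain ⟨d, hd, e⟩ := h.c1_tE (hP.le hp)
    obtain ⟨i, j, rfl⟩ : ∃ i j, d = pw i a1 * pw j (a1 * z) := by
      rcases h.c1_E.1 hd with c | c | c | c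
      exacts [⟨false, false, by simp [c, pw]⟩, ⟨true, true, by simp [c, pw, R]⟩, ⟨true, false, by simp [c, pw]⟩,
        ⟨false, true, by simp [c, pw]⟩]
    exact ⟨i, j, CS ▸ mem_inf.2 ⟨mul_mem (inv_mem (qP i j)) hp,
      mem_cent1.2 (mul_inv_eq_iff_eq_mul.1 (c1_mul e (c1_inv (qt i j))))⟩⟩
  refine ⟨?_, x, l, le_antisymm (fun p hp => ?_) ((closure_le _).2 ?_), xt, xz, xa, xx, xc⟩
  · rw [← Nat.card_eq_of_bijective (fun y : Bool × Bool × T => (⟨_, mul_mem (qP y.1 y.2.1) (hT y.2.2.2)⟩ : P))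
      ⟨fun ⟨i, j, y⟩ ⟨i', j', y'⟩ e => ?_, fun ⟨p, hp⟩ => ?_⟩]
    · simp [h.c0_card]
    · have e := congrArg Subtype.val e
      have ct : ∀ y : T, y * t * (y : G)⁻¹ = t := fun y => mul_inv_eq_iff_eq_mul.2 (mem_cent1.1 (h.sylT.le y.2))
      have e1 := c1_mul (ct y) (qt i j)
      simp only at e
      rw [e, c1_mul (ct y') (qt i' j'), mul_right_inj] at e1
      obtain ⟨rfl, rfl⟩ : i = i' ∧ j = j' := by
        revert e1
        cases i <;> cases j <;> cases i' <;> cases j' <;> simp [pw, R, n1, n2, n3, n4, n1.symm, n2.symm, n3.symm, n4.symm]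
      rw [Subtype.ext (mul_left_cancel e)]
    · obtain ⟨i, j, e⟩ := sur p hp
      exact ⟨⟨i, j, _, e⟩, Subtype.ext (mul_inv_cancel_left ..)⟩
  · obtain ⟨i, j, e⟩ := sur p hp
    have m2 : a2 ∈ closure {z, a1, a2, t, x} := subset_closure (by simp)
    have mx : x ∈ closure {z, a1, a2, t, x} := subset_closure (by simp)
    refine (mul_mem_cancel_left (inv_mem (mul_mem (mp i mx) (mp j (mul_mem (mul_mem m2 mx) (inv_mem m2)))))).1 ?_
    rw [h.eq] at e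
    refine (closure_le _).2 (fun y hy => ?_) e
    rcases hy with c | c | c | c <;> rw [c]
    exacts [subset_closure (by simp), m2, subset_closure (by simp), one_mem _]
  · rintro y (c | c | c | c | c) <;> rw [c]
    exacts [hT h.toB0.c0_zT, hT h.a1T, aP, tP, hx.1]

end Cfsg.Agent.DIH
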