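/-
Project DIH: interfaces of the branch (7,7).
-/
import Cfsg.Agent.DIH.Defs
import Cfsg.Agent.DIH.M77

set_option autoImplicit false

namespace Cfsg.Agent.DIH

open Subgroup H49 PM

variable {G : Type*} [Group G]

/-- side one and the fusion facts -/
structure Q77 (F O K T C0 P : Subgroup G) (t z a1 a2 f ρ b d c : G) : Prop
    extends CB F O K T C0 t z a1 a2 f where
  loc : L7 P t z a1 a2 f ρ b d c false true true
  nb : ¬ IsConj t b
  nu : ¬ IsConj t (c * t)
  na : ¬ IsConj t a2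
  sc : IsConj t (a2 * c)
  st : IsConj t (a2 * t)
  A2 : ∀ y ∈ AA t z a2 (f * z), y = 1 ∨ IsConj t y ∨ IsConj z y ∨ y = f * z

/-- the model of `P` -/
structure Em77 (φ : PM D77 →* G) (P : Subgroup G) (t z a a' f b d c : G) : Prop where
  inj : Function.Injective φ
  range : φ.range = P
  ef : φ (el D77 1) = f
  ez : φ (el D77 2) = z
  ea : φ (el D77 4) = a
  ec : φ (el D77 8) = c
  eb : φ (el D77 16) = b
  ed : φ (el D77 32) = d
  et : φ (el D77 64) = t
  eA : φ (el D77 128) = a'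

/-- an element of `N(P)` outside `P`; `h` says that it does not normalize `X` -/
structure W77 (P : Subgroup G) (t z a1 a2 f b d c w : G) (h i j : Bool) : Prop where
  wf : w * f * w⁻¹ = f
  wz : w * z * w⁻¹ = z * f
  wt : w * t * w⁻¹ = a2 * c
  wb : w * b * w⁻¹ = a1
  wa : w * a1 * w⁻¹ = b * pw (!h) f
  wd : w * d * w⁻¹ = cond h (z * d * c) d
  wc : w * c * w⁻¹ = c * pw i f
  wA : w * a2 * w⁻¹ = pw (!h) z * c * t * pw j f
  ww : w * w ∈ P

/-- `Y = 4 ∘ 2^{1+4}` -/
def YY (z a f b d c : G) : Subgroup G := closure {z, a, f, b, d, c}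

end Cfsg.Agent.DIH
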