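import Cfsg.Agent.DIH.Defs
import Cfsg.Agent.DIH.BasB

set_option autoImplicit false
set_option linter.unusedSectionVars false

namespace Cfsg.Agent.DIH

open Subgroup H49
open H42 (SylIn)

variable {G : Type*} [Group G] [Finite G] {F O K T C0 P P1 P2 S : Subgroup G}
  {t z a a' a1 a2 f : G}

namespace B2

theorem step {N : Subgroup G} (hP : IsPGroup 2 P) (hN : P ≤ N) (hn : ¬ SylIn 2 P N) :
    ∃ x ∈ 𝒩(P) ⊓ N, x ∉ P ∧ x * x ∈ P ∧ IsPGroup 2 (P ⊔ zpowers x : Subgroup G) := by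
  obtain ⟨S, hS, hle⟩ := H42.exists_sylIn hP hN
  obtain ⟨y, hy, hy'⟩ := SetLike.exists_of_lt (H42.lt_inf_normalizer hS.isP (hle.lt_of_ne fun e => hn (e ▸ hS)))
  obtain ⟨n, hn⟩ := hS.isP ⟨y, hy.1⟩
  obtain ⟨k, k1, k2⟩ := BM.exists_sq_mem n (by rw [show y ^ 2 ^ n = 1 from congrArg Subtype.val hn]; exact one_mem P) hy'
  exact ⟨y ^ k, ⟨pow_mem hy.2 k, hS.le (pow_mem hy.1 k)⟩, k1, k2,
    hS.isP.to_le (sup_le hle (zpowers_le.2 (pow_mem hy.1 k)))⟩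

theorem cen4 : ∀ p q r, ((BM.all false).filter fun v =>
    decide (BM.al p q r v = v ∧ v * BM.A1 = BM.A1 * v ∧ v * BM.A2 = BM.A2 * v)).length ≤ 4 := by decide

end B2

/-- Sylow criterion with an extremal conjugate `s` of `t` -/
theorem B0.syl_of' (h : B0 F O K T t z a1 a2) (hP : IsPGroup 2 P) {s : G} (hs : IsConj t s) (sP : s ∈ P)
    (hc : Nat.card T ≤ Nat.card (P ⊓ 𝒞[s] : Subgroup G))
    (hx : ∀ x ∈ 𝒩(P), x * x ∈ P → ∃ p ∈ P, x * s * x⁻¹ = p * s * p⁻¹) : SylIn 2 P ⊤ := by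
  by_contra hn
  obtain ⟨x, h1, h2, h3, h4⟩ := B2.step hP le_top hn
  obtain ⟨p, hp, e⟩ := hx x h1.1 h3
  obtain ⟨k, -, hk⟩ := h.emb hs (R := (P ⊔ zpowers x) ⊓ 𝒞[s]) h4.to_inf_left inf_le_right
  have c1 := card_le_of_le hk
  rw [card_cj] at c1
  have e2 : P ⊓ 𝒞[s] = (P ⊔ zpowers x) ⊓ 𝒞[s] :=
    eq_of_le_of_card_ge (inf_le_inf_right _ le_sup_left) (c1.trans hc)
  have hm : p⁻¹ * x ∈ (P ⊔ zpowers x) ⊓ 𝒞[s] := by
    refine mem_inf.2 ⟨mul_mem (inv_mem (mem_sup_left hp)) (mem_sup_right (mem_zpowers x)), mem_cent1.2 ?_⟩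
    calc _ = p⁻¹ * (x * s * x⁻¹) * x := by group
      _ = _ := by rw [e]; group
  exact h2 ((mul_mem_cancel_left (inv_mem hp)).1 (e2.ge hm).1)

theorem exists_step (hP : IsPGroup 2 P) (hn : ¬ SylIn 2 P ⊤) :
    ∃ x ∈ 𝒩(P), x ∉ P ∧ x * x ∈ P ∧ IsPGroup 2 (P ⊔ zpowers x : Subgroup G) := by
  obtain ⟨x, h1, h2⟩ := B2.step hP le_top hn
  exact ⟨x, h1.1, h2⟩

theorem exists_step' {N : Subgroup G} (hP : IsPGroup 2 P) (hN : P ≤ N) (hn : ¬ SylIn 2 P N) :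
    ∃ x ∈ 𝒩(P) ⊓ N, x ∉ P ∧ x * x ∈ P ∧ IsPGroup 2 (P ⊔ zpowers x : Subgroup G) := by
  exact B2.step hP hN hn

/-- no normal `E₈`: every involution outside `U` fails to commute with one of its conjugates -/
theorem GH.noE8 (h : GH F t) (hS : SylIn 2 S ⊤) {M U : Subgroup G} (hM : S ⊓ F ≤ M) (hMS : M ≤ S ⊓ F)
    (hU : Nat.card U ≤ 4)
    (k : ∀ y ∈ M, y * y = 1 → y ∈ U ∨ ∃ g ∈ M, y * (g * y * g⁻¹) ≠ g * y * g⁻¹ * y) : False := by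
  obtain ⟨E, hE, hn, hc, h2, h8⟩ := exists_E8 hS.isP.to_inf_left (h.not_sr hS)
  obtain ⟨y, hy, hy'⟩ := Sr.exists_not_mem (W := U) (U := E) (by omega)
  rcases k y (hM (hE hy)) (h2 y hy) with a | ⟨g, hg, a⟩
  · exact hy' a
  · exact a (hc (conj_mem_of_norm hn (hMS hg) hy) y hy)

theorem GH.index (h : GH F t) {x y : G} (hx : x ∉ F) (hy : y ∉ F) : x * y ∈ F := by
  have a := (h.gen x).resolve_left hx
  have b := (h.gen y⁻¹).resolve_left (by rwa [inv_mem_iff])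
  simpa [mul_assoc] using mul_mem a (inv_mem b)

theorem GH.conj_iff (h : GH F t) {x y : G} (e : IsConj x y) : x ∈ F ↔ y ∈ F := by
  obtain ⟨g, rfl⟩ := isConj_iff.1 e
  exact ⟨fun a => h.nF.conj_mem x a g, fun a => by simpa [mul_assoc] using h.nF.conj_mem _ a g⁻¹⟩

theorem GH.comm_mem (h : GH F t) (x y : G) : x * y * x⁻¹ * y⁻¹ ∈ F := by
  by_cases a : x ∈ F
  · simpa only [mul_assoc] using mul_mem a (h.nF.conj_mem _ (inv_mem a) y)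
  by_cases b : y ∈ F
  · exact mul_mem (h.nF.conj_mem _ b x) (inv_mem b)
  simpa only [mul_assoc] using mul_mem (h.index a b)
    (h.index (x := x⁻¹) (y := y⁻¹) (by rwa [inv_mem_iff]) (by rwa [inv_mem_iff]))

/-- a group acting on `Y` as a 2-group can be moved into a 2-group by the centralizer of `Y` -/
theorem move_two {Y R Z : Subgroup G} (hR : IsPGroup 2 R) (hZ : IsPGroup 2 Z) (nR : R ≤ 𝒩(Y)) (nZ : Z ≤ 𝒩(Y))
    (h : ∀ g ∈ R ⊔ Z, ∃ n : ℕ, g ^ 2 ^ n ∈ 𝒞(Y)) :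
    ∃ k ∈ 𝒞(Y), IsPGroup 2 (R ⊔ cj k Z : Subgroup G) := by
  have n1 : R ⊔ Z ≤ 𝒩(𝒞(Y)) := norm_cent (sup_le nR nZ)
  have n2 : (R ⊔ Z) ⊔ 𝒞(Y) ≤ 𝒩(𝒞(Y)) := sup_le n1 le_normalizer
  have := normal_subgroupOf n2
  have hq : IsPGroup 2 (((R ⊔ Z) ⊔ 𝒞(Y) : Subgroup G) ⧸ (𝒞(Y)).subgroupOf ((R ⊔ Z) ⊔ 𝒞(Y))) := fun q => by
    obtain ⟨⟨x, hx⟩, rfl⟩ := QuotientGroup.mk_surjective q
    obtain ⟨g, hg, c, hc, rfl⟩ := H42.exists_mul_of_mem_sup n1 hx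
    obtain ⟨n, hn⟩ := h g hg
    refine ⟨n, ?_⟩
    have e : (QuotientGroup.mk ⟨g * c, hx⟩ : ((R ⊔ Z) ⊔ 𝒞(Y) : Subgroup G) ⧸ (𝒞(Y)).subgroupOf ((R ⊔ Z) ⊔ 𝒞(Y))) =
        QuotientGroup.mk ⟨g, mem_sup_left hg⟩ := by
      rw [eq_comm, QuotientGroup.eq]
      show g⁻¹ * (g * c) ∈ 𝒞(Y)
      rwa [inv_mul_cancel_left]
    rw [e, ← QuotientGroup.mk_pow, QuotientGroup.eq_one_iff]
    exact hn
  obtain ⟨n, hn⟩ := IsPGroup.iff_card.1 hq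
  obtain ⟨S, hS, hle⟩ := H42.exists_sylIn (H := (R ⊔ Z) ⊔ 𝒞(Y)) hR (le_sup_left.trans le_sup_left)
  obtain ⟨g, hg, e⟩ := hS.exists_conj hZ (le_sup_right.trans le_sup_left)
  obtain ⟨s, hs, m, hm, rfl⟩ := hS.exists_mul_of_relIndex_pow le_sup_right n2 (k := n) hn hg
  refine ⟨m, hm, hS.isP.to_le (sup_le hle fun x hx => ?_)⟩
  obtain ⟨y, hy, rfl⟩ := mem_cj'.1 hx
  have := mul_mem (mul_mem (inv_mem hs) (e y hy)) hs
  simpa [mul_assoc] using this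

/-- a centralizer of order 64 of a conjugate of `t` has centre of order four -/
theorem CB.z64 (h : CB F O K T C0 t z a1 a2 f) {R Z : Subgroup G} {s : G} (hR : IsPGroup 2 R)
    (hc : R ≤ 𝒞[s]) (hb : 64 ≤ Nat.card R) (hZ : Z ≤ R ⊓ 𝒞(R)) (h8 : 8 ≤ Nat.card Z) : ¬ IsConj t s := by
  intro c
  obtain ⟨φ, E⟩ := BM.em h
  obtain ⟨k, -, hk⟩ := h.toB0.emb c hR hc
  have h1 := card_le_of_le hk
  rw [card_cj] at h1
  rcases h.toCW.cardT with e | ⟨e, g, hg, g0, -⟩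
  · rw [e, h.cardT0] at h1
    omega
  have e2 := eq_of_le_of_card_ge hk (by rw [card_cj]; omega)
  have zT : cj k Z ≤ T := (cj_mono k (hZ.trans inf_le_left)).trans hk
  have zC : cj k Z ≤ 𝒞(T) := by
    rw [← e2, ← cj_centralizer]
    exact cj_mono k (hZ.trans inf_le_right)
  have z0 : cj k Z ≤ TT t a1 a2 f := fun u hu => by
    by_contra u0
    have := BM.cent8 h.toCW E (zT hu) u0 le_rfl fun x hx => (zC hu x (BM.T0_le h.toCW hx)).symm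
    rw [h.cardT0] at this
    omega
  obtain ⟨p, q, r, a⟩ := BM.act h.toCW E hg g0
  have := (E.card_le z0 (fun v => decide (BM.al p q r v = v ∧ v * BM.A1 = BM.A1 * v ∧ v * BM.A2 = BM.A2 * v))
    fun v hv => decide_eq_true ⟨E.inj (by rw [← a, zC hv g hg, mul_inv_cancel_right]),
      E.inj (by rw [map_mul, map_mul, E.A1, zC hv _ h.a1T]),
      E.inj (by rw [map_mul, map_mul, E.A2, zC hv _ h.a2T])⟩).trans (B2.cen4 p q r)
  rw [card_cj] at this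
  omega

/-- `T > T₀` gives `f ~ f z` when `t z f` is conjugate to `t` and `f` is not -/
theorem CB.ffz (h : CB F O K T C0 t z a1 a2 f) (hT : Nat.card T = 64) (h1 : ¬ IsConj t f)
    (h2 : IsConj t (f * z * t)) : IsConj f (f * z) := by
  rcases h.toCW.cardT with e | ⟨-, g, -, -, -, -, e | e⟩
  · rw [e, h.cardT0] at hT
    omega
  · exact isConj_iff.2 ⟨g, e⟩
  · exact absurd (h2.trans (isConj_iff.2 ⟨g, e⟩).symm) h1

end Cfsg.Agent.DIH
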