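import Cfsg.Agent.DIH.D44
import Cfsg.Agent.DIH.BasB

set_option autoImplicit false

namespace Cfsg.Agent.DIH

open Subgroup H49 PM
open H42 (SylIn)

variable {G : Type*} [Group G] [Finite G] {F O K T C0 P P1 P2 R S : Subgroup G}
  {t z a A a1 a2 f x w y ρ1 ρ2 : G} {m n i j γ : Bool}

namespace B44m

open H63 (nf map_nf nf_succ nf_zero)
open H80M (lhs)

/-- the table of the presentation of `R` -/
def tb (m n : Bool) (i j : ℕ) : ℕ :=
  (([[0], [1, 0], [1, 2, 0], [1, 2, 4, 0], [1, 2, 4, 8, 0], [1, 2, 4, 10, 20, 0],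
    [1, 2, 4, 12, cond m (cond n 23 22) (cond n 21 20), 32, 0], [1, 2, 6, 8, 24, 32, 96, 0]] :
      List (List ℕ)).getD i []).getD j 0

/-- the table of the presentation of `P` -/
def tc (i j : ℕ) : ℕ :=
  (([[0], [1, 0], [1, 2, 0], [1, 2, 4, 2], [1, 2, 4, 8, 4], [1, 2, 4, 10, 20, 0], [1, 2, 6, 8, 28, 32, 0]] :
    List (List ℕ)).getD i []).getD j 0

theorem tw_eq : ∀ m n, ∀ i < 8, ∀ j ≤ i, (DR m n).tw i j = tb m n i j := by decide +kernel
theorem N_eq : ∀ m n, (DR m n).N = 8 := by decide +kernel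
theorem tw_eq' : ∀ i < 7, ∀ j ≤ i, D44.tw i j = tc i j := by decide +kernel
theorem N_eq' : D44.N = 7 := by decide +kernel

omit [Finite G] in
theorem nf8 (s : ℕ → G) (E : ℕ) : nf 2 8 s E = s 7 ^ (E / 128 % 2) * s 6 ^ (E / 64 % 2) * s 5 ^ (E / 32 % 2) *
    s 4 ^ (E / 16 % 2) * s 3 ^ (E / 8 % 2) * s 2 ^ (E / 4 % 2) * s 1 ^ (E / 2 % 2) * s 0 ^ (E % 2) := by
  simp only [nf_succ, nf_zero, Nat.div_div_eq_div_mul, one_mul]

omit [Finite G] in
theorem nf7 (s : ℕ → G) (E : ℕ) : nf 2 7 s E = s 6 ^ (E / 64 % 2) * s 5 ^ (E / 32 % 2) *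
    s 4 ^ (E / 16 % 2) * s 3 ^ (E / 8 % 2) * s 2 ^ (E / 4 % 2) * s 1 ^ (E / 2 % 2) * s 0 ^ (E % 2) := by
  simp only [nf_succ, nf_zero, Nat.div_div_eq_div_mul, one_mul]

omit [Finite G] in
theorem cj {x y : G} (e : x * y = y * x) : y⁻¹ * x * y = x := by rw [mul_assoc, e, inv_mul_cancel_left]

omit [Finite G] in
theorem cj' {x y : G} (e : y * x = x * y) : y⁻¹ * x * y = x := cj e.symm

omit [Finite G] in
theorem iv {x : G} (e : x * x = 1) : x⁻¹ = x := inv_eq_of_mul_eq_one_right e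

/-- a list of generators -/
def gs (l : List G) (i : ℕ) : G := l.getD i 1

omit [Finite G] in
theorem sqb (s2 : A * A = 1) (xx' : Commute x (A * x * A)) :
    x * (A * x * A) * (x * (A * x * A)) = x * x * (A * (x * x) * A) := by
  calc _ = x * (A * x * A * x) * (A * x * A) := by group
    _ = x * x * (A * x * (A * A) * x * A) := by rw [← xx'.eq]; group
    _ = _ := by rw [s2]; group

omit [Finite G] in
/-- the relations of one linear side -/
theorem lin {ρ : G} {l : Bool} (r : D8 z a A) (fA : Commute f A) (tA : Commute t A)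
    (k : Lin t z a A f ρ x false l) (ab : Commute (x * (A * x * A)) a) :
    Commute (x * (A * x * A)) f ∧ Commute (x * (A * x * A)) z ∧ Commute (x * (A * x * A)) x ∧
      Commute (x * (A * x * A)) A ∧ A⁻¹ * a * A = a * z ∧ t⁻¹ * x * t = x * a ∧
      t⁻¹ * (x * (A * x * A)) * t = x * (A * x * A) * z := by
  have xf : Commute x f := k.xf
  have xz : Commute x z := k.xz
  have xa : Commute x a := k.xa
  have zA : Commute z A := r.c2
  have xx' : Commute x (A * x * A) := k.xx'.trans (mul_one _)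
  have e1 : A⁻¹ * a * A = a * z := by
    rw [iv r.s2, r.r, mul_assoc, r.c2, mul_assoc a, ← mul_assoc A, r.s2, one_mul]
  have e2 : t⁻¹ * x * t = x * a := by
    rw [mul_assoc, mul_inv_eq_iff_eq_mul.1 k.xt, xa.eq]; group
  have ax' : Commute (A * x * A) a := by
    have := (xa.inv_left).mul_left ab
    rwa [inv_mul_cancel_left] at this
  refine ⟨xf.mul_left ((fA.symm.mul_left xf).mul_left fA.symm), xz.mul_left ((zA.symm.mul_left xz).mul_left zA.symm),
    (Commute.refl x).mul_left xx'.symm, ?_, e1, e2, ?_⟩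
  · calc x * (A * x * A) * A = x * A * x * (A * A) := by group
      _ = (A * A) * x * A * x := by rw [r.s2]; group
      _ = A * (A * x * A * x) := by group
      _ = _ := by rw [← xx'.eq]
  · calc t⁻¹ * (x * (A * x * A)) * t = (t⁻¹ * x * t) * ((t⁻¹ * A * t) * (t⁻¹ * x * t) * (t⁻¹ * A * t)) := by group
      _ = x * (a * (A * x * A)) * (A⁻¹ * a * A) := by rw [e2, cj' tA.eq]; group
      _ = x * (A * x * A) * z := by
        rw [e1, ← ax'.eq, ← mul_assoc x, mul_assoc _ a, ← mul_assoc a, r.s1, one_mul]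

omit [Finite G] in
theorem rel0 (q : Q00 F O K T C0 R t z a A f x w ρ1 ρ2 m n) :
    H80M.Rel 8 (DR m n).tw (gs [f, z, x * (A * x * A), a, x, A, w, t]) 8 := by
  have r := BM.rel_of (e := false) q.toCW q.f2
  have fz : f * z = z * f := (BM.comm_z r.toD8 r.fa1 r.fa2).eq
  have tz : t * z = z * t := (BM.comm_z r.toD8 r.ta1 r.ta2).eq
  have xx : x * x = 1 := by simpa [pw] using q.l1.xx
  have ww : w * w = 1 := by simpa [pw] using q.l2.xx
  have xx' : Commute x (A * x * A) := q.l1.xx'.trans (mul_one _)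
  have ww' : Commute w (a * w * a) := q.l2.xx'.trans (mul_one _)
  have ab : Commute (x * (A * x * A)) a := by
    rw [← q.bb]
    calc w * (a * w * a) * a = w * a * w * (a * a) := by group
      _ = (a * a) * w * a * w := by rw [r.s1]; group
      _ = a * (a * w * a * w) := by group
      _ = _ := by rw [← ww'.eq]
  obtain ⟨bf, bz, bx, bA, e1, e2, e3⟩ := lin r.toD8 r.fa2 r.ta2 q.l1 ab
  have wz : Commute w z := q.l2.xz
  have wf : Commute w f := by
    have := (show Commute w (f * z) from q.l2.xf).mul_right wz.inv_right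
    rwa [mul_inv_cancel_right] at this
  have bw : Commute (x * (A * x * A)) w := q.bb ▸ (Commute.refl w).mul_left ww'.symm
  have bb : x * (A * x * A) * (x * (A * x * A)) = 1 := by
    rw [sqb r.s2 xx', xx, mul_one, one_mul, r.s2]
  have e4 : A⁻¹ * x * A = x * (x * (A * x * A)) := by rw [← mul_assoc x, xx, one_mul, iv r.s2]
  have e5 : w⁻¹ * a * w = a * (x * (A * x * A)) := by
    rw [← ab.eq, ← q.bb, iv ww, mul_assoc w (a * w * a), mul_assoc (a * w), r.s1, mul_one, mul_assoc]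
  have e6 : w⁻¹ * x * w = x * (x * (A * x * A) * pw m z * pw n f) := by
    rw [← q.xw, iv ww, ← mul_assoc, ← mul_assoc, ← mul_assoc, xx, one_mul]
  have e7 : t⁻¹ * w * t = w * A := by
    rw [mul_assoc, mul_inv_eq_iff_eq_mul.1 q.l2.xt, q.l2.xa]; group
  have wA := q.l2.xa
  have xf := q.l1.xf
  have xz := q.l1.xz
  have xa := q.l1.xa
  generalize x * (A * x * A) = b at *
  intro i hi j hj
  rw [tw_eq m n i hi j hj, nf8]
  cases m <;> cases n <;> simp only [pw, cond_true, cond_false, mul_one, ← mul_assoc] at e6 <;>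
  interval_cases i <;> interval_cases j <;>
    simp only [lhs, gs, tb, List.getD_cons_zero, List.getD_cons_succ, Nat.reduceDiv, Nat.reduceMod, pow_zero,
      pow_one, one_mul, mul_one, if_true, Nat.reduceEqDiff, if_false, cond_true, cond_false]
  all_goals first
    | assumption
    | exact q.f2
    | exact r.z2
    | exact r.s1
    | exact r.s2
    | exact r.t2
    | exact cj fz
    | exact cj' bf.eq
    | exact cj' bz.eq
    | exact cj r.fa1.eq
    | exact cj r.c1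
    | exact cj ab.eq
    | exact cj' xf
    | exact cj' xz
    | exact cj bx.eq
    | exact cj' xa
    | exact cj r.fa2.eq
    | exact cj r.c2
    | exact cj bA.eq
    | exact cj' wf.eq
    | exact cj' wz.eq
    | exact cj bw.eq
    | exact cj' wA
    | exact cj' r.tf.eq
    | exact cj' tz
    | exact cj' r.ta1.eq
    | exact cj' r.ta2.eq

omit [Finite G] in
theorem rel1 (q : Q11 F O K T C0 P t z a A f x w ρ1 ρ2 i j) :
    H80M.Rel 7 D44.tw (gs [f, z, a, x * (A * x * A), x, t, A]) 7 := by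
  have r := BM.rel_of (e := false) q.toCW q.f2
  have fz : f * z = z * f := (BM.comm_z r.toD8 r.fa1 r.fa2).eq
  have tz : t * z = z * t := (BM.comm_z r.toD8 r.ta1 r.ta2).eq
  have xx : x * x = a := q.l1.xx.trans (one_mul _)
  have xx' : Commute x (A * x * A) := q.l1.xx'.trans (mul_one _)
  have bx : Commute (x * (A * x * A)) x := (Commute.refl x).mul_left xx'.symm
  have ab : Commute (x * (A * x * A)) a := xx ▸ bx.mul_right bx
  obtain ⟨bf, bz, -, bA, e1, e2, e3⟩ := lin r.toD8 r.fa2 r.ta2 q.l1.toLin ab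
  have bb : x * (A * x * A) * (x * (A * x * A)) = z := by
    rw [sqb r.s2 xx', xx]
    nth_rewrite 1 [← iv r.s2]
    rw [e1, ← mul_assoc, r.s1, one_mul]
  have e4 : A⁻¹ * x * A = x * (x * (A * x * A)) * a := by
    rw [mul_assoc x, ab.eq, ← mul_assoc x, q.l1.xa, mul_assoc a, ← mul_assoc x, xx, ← mul_assoc, r.s1, one_mul,
      iv r.s2]
  have xf := q.l1.xf
  have xz := q.l1.xz
  have xa := q.l1.xa
  generalize x * (A * x * A) = b at *
  intro i hi j hj
  rw [tw_eq' i hi j hj, nf7]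
  interval_cases i <;> interval_cases j <;>
    simp only [lhs, gs, tc, List.getD_cons_zero, List.getD_cons_succ, Nat.reduceDiv, Nat.reduceMod, pow_zero,
      pow_one, one_mul, mul_one, if_true, Nat.reduceEqDiff, if_false]
  exacts [q.f2, cj fz, r.z2, cj r.fa1.eq, cj r.c1, r.s1, cj' bf.eq, cj' bz.eq, cj' ab.eq, bb, cj' xf, cj' xz,
    cj' xa, cj bx.eq, xx, cj' r.tf.eq, cj' tz, cj' r.ta1.eq, e3, e2, r.t2, cj r.fa2.eq, cj r.c2, e1, cj bA.eq, e4,
    cj r.ta2.eq, r.s2]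

/-- a subgroup generated by images of elements of the model -/
theorem of_cl {D : PD} [D.OK] (φ : PM D →* G) {p : PM D → Prop} (l : List ℕ) {S : Set G}
    (hS : ∀ s ∈ S, ∃ c ∈ l, φ (el D c) = s) (h1 : p 1) (h2 : ∀ c ∈ l, ∀ v, p v → p (v * el D c)) {g : G}
    (hg : g ∈ closure S) : ∃ v, p v ∧ φ v = g := by
  have : g ∈ Submonoid.closure S := by rw [← closure_toSubmonoid_of_finite]; exact hg
  refine Submonoid.closure_induction_right (motive := fun g _ => ∃ v, p v ∧ φ v = g) ⟨1, h1, map_one _⟩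
    (fun x _ y hy hx => ?_) this
  obtain ⟨v, hv, rfl⟩ := hx
  obtain ⟨c, hc, rfl⟩ := hS y hy
  exact ⟨_, h2 c hc v hv, map_mul _ _ _⟩

omit [Finite G] in
theorem pm {K : Subgroup G} {s : G} {c : ℕ} (h : c = 0 ∨ s ∈ K) : s ^ c ∈ K :=
  h.elim (fun e => by rw [e, pow_zero]; exact one_mem _) fun e => pow_mem e c

omit [Finite G] in
theorem mem0 {φ : PM (DR m n) →* G} (e : Em00 φ R t z a A f x w) {K : Subgroup G} (v : PM (DR m n))
    (h7 : v.v / 128 % 2 = 0 ∨ t ∈ K) (h6 : v.v / 64 % 2 = 0 ∨ w ∈ K) (h5 : v.v / 32 % 2 = 0 ∨ A ∈ K)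
    (h4 : v.v / 16 % 2 = 0 ∨ x ∈ K) (h3 : v.v / 8 % 2 = 0 ∨ a ∈ K) (h2 : v.v / 4 % 2 = 0 ∨ x * (A * x * A) ∈ K)
    (h1 : v.v / 2 % 2 = 0 ∨ z ∈ K) (h0 : v.v % 2 = 0 ∨ f ∈ K) : φ v ∈ K := by
  rw [map_eq_nf, N_eq, nf8]
  simp only [Nat.reducePow, e.ef, e.ez, e.eb, e.ea, e.ex, e.eA, e.ew, e.et]
  exact mul_mem (mul_mem (mul_mem (mul_mem (mul_mem (mul_mem (mul_mem (pm h7) (pm h6)) (pm h5)) (pm h4)) (pm h3))
    (pm h2)) (pm h1)) (pm h0)

omit [Finite G] in
theorem mem1 {φ : PM D44 →* G} (e : Em11 φ P t z a A f x) {K : Subgroup G} (v : PM D44)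
    (h6 : v.v / 64 % 2 = 0 ∨ A ∈ K) (h5 : v.v / 32 % 2 = 0 ∨ t ∈ K)
    (h4 : v.v / 16 % 2 = 0 ∨ x ∈ K) (h3 : v.v / 8 % 2 = 0 ∨ x * (A * x * A) ∈ K) (h2 : v.v / 4 % 2 = 0 ∨ a ∈ K)
    (h1 : v.v / 2 % 2 = 0 ∨ z ∈ K) (h0 : v.v % 2 = 0 ∨ f ∈ K) : φ v ∈ K := by
  rw [map_eq_nf, N_eq', nf7]
  simp only [Nat.reducePow, e.ef, e.ez, e.eb, e.ea, e.ex, e.eA, e.et]
  exact mul_mem (mul_mem (mul_mem (mul_mem (mul_mem (mul_mem (pm h6) (pm h5)) (pm h4)) (pm h3))
    (pm h2)) (pm h1)) (pm h0)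

theorem w0 : ∀ m n, el (DR m n) 20 = el _ 32 * el _ 16 * el _ 32 ∧ el (DR m n) 3 = el _ 1 * el _ 2 ∧
    el (DR m n) 2 = el _ 8 * el _ 32 * el _ 8 * el _ 32 ∧ el (DR m n) 1 = el _ 1 * el _ 2 * el _ 2 ∧
    el (DR m n) 10 = el _ 8 * el _ 2 ∧ el (DR m n) 16 = (el _ 16)⁻¹ := by decide +kernel

theorem w1 : el D44 28 = el _ 64 * el _ 16 * el _ 64 ∧ el D44 3 = el _ 1 * el _ 2 ∧
    el D44 2 = el _ 4 * el _ 64 * el _ 4 * el _ 64 ∧ el D44 1 = el _ 1 * el _ 2 * el _ 2 ∧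
    el D44 6 = el _ 4 * el _ 2 ∧ el D44 20 = (el _ 16)⁻¹ := by decide +kernel

omit [Finite G] in
theorem v0 {φ : PM (DR m n) →* G} (e : Em00 φ R t z a A f x w) : φ (el _ 20) = A * x * A ∧ φ (el _ 3) = f * z ∧
    z = a * A * a * A ∧ f = f * z * z ∧ φ (el _ 10) = a * z ∧ x = x⁻¹ := by
  obtain ⟨h1, h2, h3, h4, h5, h6⟩ := w0 m n
  have k3 := congrArg φ h3
  have k4 := congrArg φ h4
  have k6 := congrArg φ h6
  rw [h1, h2, h5]
  simp only [map_mul, map_inv, e.ef, e.ez, e.ea, e.ex, e.eA, true_and] at k3 k4 k6 ⊢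
  exact ⟨k3, k4, k6⟩

omit [Finite G] in
theorem v1 {φ : PM D44 →* G} (e : Em11 φ P t z a A f x) : φ (el _ 28) = A * x * A ∧ φ (el _ 3) = f * z ∧
    z = a * A * a * A ∧ f = f * z * z ∧ φ (el _ 6) = a * z ∧ φ (el _ 20) = x⁻¹ := by
  obtain ⟨h1, h2, h3, h4, h5, h6⟩ := w1
  have k3 := congrArg φ h3
  have k4 := congrArg φ h4
  rw [h1, h2, h5, h6]
  simp only [map_mul, map_inv, e.ef, e.ez, e.ea, e.ex, e.eA, true_and, and_true] at k3 k4 ⊢
  exact ⟨k3, k4⟩

omit [Finite G] in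
theorem rb {ρ : G} {l : Bool} (k : Lin t z a A f ρ x false l) : ρ * (x * (A * x * A)) * ρ⁻¹ = x⁻¹ := by
  rw [← conj_mul, k.ρx, k.ρx', pw, cond_false, mul_one]; group

theorem lt0 (v : PM (DR m n)) : v.v < 256 := (N_eq m n ▸ v.lt : v.v < 2 ^ 8)

theorem lt1 (v : PM D44) : v.v < 128 := (N_eq' ▸ v.lt : v.v < 2 ^ 7)

end B44m

open B44m

theorem Q00.em (q : Q00 F O K T C0 R t z a A f x w ρ1 ρ2 m n) :
    ∃ φ : PM (DR m n) →* G, Em00 φ R t z a A f x w := by
  have r : H80M.Rel (DR m n).N (DR m n).tw (gs [f, z, x * (A * x * A), a, x, A, w, t]) (DR m n).N :=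
    N_eq m n ▸ rel0 q
  have g : ∀ k < 8, hom r (el _ (2 ^ k)) = gs [f, z, x * (A * x * A), a, x, A, w, t] k :=
    fun k hk => hom_gen r (N_eq m n ▸ hk)
  have mm : ∀ k < 8, gs [f, z, x * (A * x * A), a, x, A, w, t] k ∈ (hom r).range := fun k hk => ⟨_, g k hk⟩
  have hr : (hom r).range = R := by
    refine le_antisymm (range_le fun k hk => ?_) ?_
    · rw [N_eq] at hk
      rw [g k hk, q.genR]
      have s : ∀ u ∈ ({z, a, A, t, f, x, w} : Set G), u ∈ closure ({z, a, A, t, f, x, w} : Set G) :=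
        fun u hu => subset_closure hu
      interval_cases k
      exacts [s f (by simp), s z (by simp), mul_mem (s x (by simp)) (mul_mem (mul_mem (s A (by simp))
        (s x (by simp))) (s A (by simp))), s a (by simp), s x (by simp), s A (by simp), s w (by simp), s t (by simp)]
    · rw [q.genR, closure_le]
      simp only [Set.insert_subset_iff, Set.singleton_subset_iff, SetLike.mem_coe]
      exact ⟨mm 1 (by omega), mm 3 (by omega), mm 5 (by omega), mm 7 (by omega), mm 0 (by omega), mm 4 (by omega),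
        mm 6 (by omega)⟩
  exact ⟨hom r, inj_of_card _ (by rw [hr, q.cardR, N_eq]; rfl), hr, g 0 (by omega), g 1 (by omega), g 2 (by omega),
    g 3 (by omega), g 4 (by omega), g 5 (by omega), g 6 (by omega), g 7 (by omega)⟩

theorem Q11.em (q : Q11 F O K T C0 P t z a A f x w ρ1 ρ2 i j) : ∃ φ : PM D44 →* G, Em11 φ P t z a A f x := by
  have r : H80M.Rel D44.N D44.tw (gs [f, z, a, x * (A * x * A), x, t, A]) D44.N := N_eq' ▸ rel1 q
  have g : ∀ k < 7, hom r (el _ (2 ^ k)) = gs [f, z, a, x * (A * x * A), x, t, A] k :=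
    fun k hk => hom_gen r (N_eq' ▸ hk)
  have mm : ∀ k < 7, gs [f, z, a, x * (A * x * A), x, t, A] k ∈ (hom r).range := fun k hk => ⟨_, g k hk⟩
  have hr : (hom r).range = P := by
    refine le_antisymm (range_le fun k hk => ?_) ?_
    · rw [N_eq'] at hk
      rw [g k hk, q.l1.gen]
      have s : ∀ u ∈ ({z, a, A, t, f, x} : Set G), u ∈ closure ({z, a, A, t, f, x} : Set G) :=
        fun u hu => subset_closure hu
      interval_cases k
      exacts [s f (by simp), s z (by simp), s a (by simp), mul_mem (s x (by simp)) (mul_mem (mul_mem (s A (by simp))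
        (s x (by simp))) (s A (by simp))), s x (by simp), s t (by simp), s A (by simp)]
    · rw [q.l1.gen, closure_le]
      simp only [Set.insert_subset_iff, Set.singleton_subset_iff, SetLike.mem_coe]
      exact ⟨mm 1 (by omega), mm 2 (by omega), mm 6 (by omega), mm 5 (by omega), mm 0 (by omega), mm 4 (by omega)⟩
  exact ⟨hom r, inj_of_card _ (by rw [hr, q.l1.cardP, N_eq']; rfl), hr, g 0 (by omega), g 1 (by omega),
    g 2 (by omega), g 3 (by omega), g 4 (by omega), g 5 (by omega), g 6 (by omega)⟩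

section
variable {φ : PM (DR m n) →* G} (e : Em00 φ R t z a A f x w)
include e

theorem Em00.memX {g : G} : g ∈ X00 z a A f x w ↔ ∃ v, v.v < 128 ∧ φ v = g := by
  refine ⟨of_cl φ [2, 8, 32, 1, 16, 64] (by simp [e.ef, e.ez, e.ea, e.ex, e.eA, e.ew]) ?_ ?_, ?_⟩
  · cases m <;> cases n <;> decide +kernel
  · cases m <;> cases n <;> decide +kernel
  · rintro ⟨v, hv, rfl⟩
    have s : ∀ u ∈ ({z, a, A, f, x, w} : Set G), u ∈ X00 z a A f x w := fun u hu => subset_closure hu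
    exact mem0 e v (Or.inl (by omega)) (Or.inr (s w (by simp))) (Or.inr (s A (by simp))) (Or.inr (s x (by simp)))
      (Or.inr (s a (by simp))) (Or.inr (mul_mem (s x (by simp)) (mul_mem (mul_mem (s A (by simp))
        (s x (by simp))) (s A (by simp))))) (Or.inr (s z (by simp))) (Or.inr (s f (by simp)))

theorem Em00.memW1 {g : G} : g ∈ W00 z a A f x ↔ ∃ v, v.v < 32 ∧ φ v = g := by
  refine ⟨of_cl φ [2, 8, 1, 16, 20] (by simp [e.ef, e.ez, e.ea, e.ex, (v0 e).1]) ?_ ?_, ?_⟩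
  · cases m <;> cases n <;> decide +kernel
  · cases m <;> cases n <;> decide +kernel
  · rintro ⟨v, hv, rfl⟩
    have s : ∀ u ∈ ({z, a, f, x, A * x * A} : Set G), u ∈ W00 z a A f x := fun u hu => subset_closure hu
    exact mem0 e v (Or.inl (by omega)) (Or.inl (by omega)) (Or.inl (by omega)) (Or.inr (s x (by simp)))
      (Or.inr (s a (by simp))) (Or.inr (mul_mem (s x (by simp)) (s _ (by simp)))) (Or.inr (s z (by simp)))
      (Or.inr (s f (by simp)))

theorem Em00.memZ {g : G} : g ∈ Z00 z A f x ↔ ∃ v, v.v < 8 ∧ φ v = g := by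
  refine ⟨of_cl φ [2, 1, 4] (by simp [e.ef, e.ez, e.eb]) ?_ ?_, ?_⟩
  · cases m <;> cases n <;> decide +kernel
  · cases m <;> cases n <;> decide +kernel
  · rintro ⟨v, hv, rfl⟩
    have s : ∀ u ∈ ({z, f, x * (A * x * A)} : Set G), u ∈ Z00 z A f x := fun u hu => subset_closure hu
    exact mem0 e v (Or.inl (by omega)) (Or.inl (by omega)) (Or.inl (by omega)) (Or.inl (by omega))
      (Or.inl (by omega)) (Or.inr (s _ (by simp))) (Or.inr (s z (by simp))) (Or.inr (s f (by simp)))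

theorem Em00.memT {g : G} :
    g ∈ TT t a A f ↔ ∃ v, (v.v % 8 < 4 ∧ v.v % 32 < 16 ∧ v.v % 128 < 64) ∧ φ v = g := by
  refine ⟨of_cl φ [8, 32, 128, 1] (by simp [e.ef, e.ea, e.eA, e.et]) ?_ ?_, ?_⟩
  · cases m <;> cases n <;> decide +kernel
  · cases m <;> cases n <;> decide +kernel
  · rintro ⟨v, hv, rfl⟩
    have s : ∀ u ∈ ({a, A, t, f} : Set G), u ∈ TT t a A f := fun u hu => subset_closure hu
    exact mem0 e v (Or.inr (s t (by simp))) (Or.inl (by omega)) (Or.inr (s A (by simp))) (Or.inl (by omega))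
      (Or.inr (s a (by simp))) (Or.inl (by omega)) (Or.inr ((v0 e).2.2.1 ▸ mul_mem (mul_mem (mul_mem
        (s a (by simp)) (s A (by simp))) (s a (by simp))) (s A (by simp)))) (Or.inr (s f (by simp)))

theorem Em00.memA1 {g : G} : g ∈ AA t z a f ↔ ∃ v, (v.v % 8 < 4 ∧ v.v % 128 < 16) ∧ φ v = g := by
  refine ⟨of_cl φ [2, 8, 128, 1] (by simp [e.ef, e.ea, e.ez, e.et]) ?_ ?_, ?_⟩
  · cases m <;> cases n <;> decide +kernel
  · cases m <;> cases n <;> decide +kernel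
  · rintro ⟨v, hv, rfl⟩
    have s : ∀ u ∈ ({z, a, t, f} : Set G), u ∈ AA t z a f := fun u hu => subset_closure hu
    exact mem0 e v (Or.inr (s t (by simp))) (Or.inl (by omega)) (Or.inl (by omega)) (Or.inl (by omega))
      (Or.inr (s a (by simp))) (Or.inl (by omega)) (Or.inr (s z (by simp))) (Or.inr (s f (by simp)))

theorem Em00.memA2 {g : G} :
    g ∈ AA t z A (f * z) ↔ ∃ v, (v.v % 32 < 4 ∧ v.v % 128 < 64) ∧ φ v = g := by
  refine ⟨of_cl φ [2, 32, 128, 3] (by simp [e.eA, e.ez, e.et, (v0 e).2.1]) ?_ ?_, ?_⟩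
  · cases m <;> cases n <;> decide +kernel
  · cases m <;> cases n <;> decide +kernel
  · rintro ⟨v, hv, rfl⟩
    have s : ∀ u ∈ ({z, A, t, f * z} : Set G), u ∈ AA t z A (f * z) := fun u hu => subset_closure hu
    have sf : f ∈ AA t z A (f * z) := by
      have := mul_mem (s (f * z) (by simp)) (s z (by simp))
      rwa [← (v0 e).2.2.2.1] at this
    exact mem0 e v (Or.inr (s t (by simp))) (Or.inl (by omega)) (Or.inr (s A (by simp))) (Or.inl (by omega))
      (Or.inl (by omega)) (Or.inl (by omega)) (Or.inr (s z (by simp))) (Or.inr sf)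

end

/-- the action of `ρ₁` on `W₁`: `f, z, b, a, x ↦ f, a, x, a z, x b` -/
noncomputable def rh0 (m n : Bool) (v : PM (DR m n)) : PM (DR m n) :=
  H63.nf 2 5 (fun k => [el _ 1, el _ 8, el _ 16, el _ 10, el _ 20].getD k 1) v.v

theorem Q00.rho (q : Q00 F O K T C0 R t z a A f x w ρ1 ρ2 m n) {φ : PM (DR m n) →* G}
    (e : Em00 φ R t z a A f x w) (v : PM (DR m n)) (hv : v.v < 32) : φ (rh0 m n v) = ρ1 * φ v * ρ1⁻¹ := by
  have k := H63.map_nf (MulAut.conj ρ1).toMonoidHom 2 5 (fun n => φ (el _ (2 ^ n))) v.v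
  have hv' : v.v < 2 ^ 5 := hv
  rw [rh0, H63.map_nf, map_eq_nf φ v, nf_mono (n := 5) (N := (DR m n).N) (by rw [N_eq]; omega) hv']
  refine Eq.trans (H80M.nf_lt 5 hv' fun l hl => ?_) k.symm
  change _ = ρ1 * _ * ρ1⁻¹
  interval_cases l <;> simp only [List.getD_cons_zero, List.getD_cons_succ, Nat.reducePow, e.ef, e.ez, e.eb, e.ea,
    e.ex, (v0 e).1, (v0 e).2.2.2.2.1]
  exacts [q.l1.ρf.symm, q.l1.ρz.symm, (v0 e).2.2.2.2.2.trans (rb q.l1).symm, q.l1.ρa.symm,
    (q.l1.ρx.trans (mul_one _)).symm]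

section
variable {φ : PM D44 →* G} (e : Em11 φ P t z a A f x)
include e

theorem Em11.memH {g : G} : g ∈ HH z a f ↔ ∃ v, v.v < 8 ∧ φ v = g := by
  refine ⟨of_cl φ [2, 4, 1] (by simp [e.ef, e.ez, e.ea]) (by decide +kernel) (by decide +kernel), ?_⟩
  rintro ⟨v, hv, rfl⟩
  have s : ∀ u ∈ ({z, a, f} : Set G), u ∈ HH z a f := fun u hu => subset_closure hu
  exact mem1 e v (Or.inl (by omega)) (Or.inl (by omega)) (Or.inl (by omega)) (Or.inl (by omega))
    (Or.inr (s a (by simp))) (Or.inr (s z (by simp))) (Or.inr (s f (by simp)))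

theorem Em11.memE {g : G} : g ∈ closure {z, a} ↔ ∃ v, (v.v < 8 ∧ v.v % 2 = 0) ∧ φ v = g := by
  refine ⟨of_cl φ [2, 4] (by simp [e.ez, e.ea]) (by decide +kernel) (by decide +kernel), ?_⟩
  rintro ⟨v, hv, rfl⟩
  have s : ∀ u ∈ ({z, a} : Set G), u ∈ closure ({z, a} : Set G) := fun u hu => subset_closure hu
  exact mem1 e v (Or.inl (by omega)) (Or.inl (by omega)) (Or.inl (by omega)) (Or.inl (by omega))
    (Or.inr (s a (by simp))) (Or.inr (s z (by simp))) (Or.inl hv.2)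

theorem Em11.memP0 {g : G} : g ∈ P ⊓ 𝒞[a] ↔ ∃ v, v.v < 64 ∧ φ v = g := by
  have k : ∀ v : PM D44, v * el _ 4 = el _ 4 * v ↔ v.v < 64 := by decide +kernel
  have k' : ∀ v, φ v ∈ 𝒞[a] ↔ v.v < 64 := fun v => by
    rw [mem_cent1, ← e.ea, ← map_mul, ← map_mul, e.inj.eq_iff, k]
  rw [← e.range]
  constructor
  · rintro ⟨⟨v, rfl⟩, h⟩
    exact ⟨v, (k' v).1 h, rfl⟩
  · rintro ⟨v, hv, rfl⟩
    exact ⟨⟨v, rfl⟩, (k' v).2 hv⟩

theorem Em11.memT {g : G} : g ∈ TT t a A f ↔ ∃ v, v.v % 32 < 8 ∧ φ v = g := by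
  refine ⟨of_cl φ [4, 64, 32, 1] (by simp [e.ef, e.ea, e.eA, e.et]) (by decide +kernel) (by decide +kernel), ?_⟩
  rintro ⟨v, hv, rfl⟩
  have s : ∀ u ∈ ({a, A, t, f} : Set G), u ∈ TT t a A f := fun u hu => subset_closure hu
  exact mem1 e v (Or.inr (s A (by simp))) (Or.inr (s t (by simp))) (Or.inl (by omega)) (Or.inl (by omega))
    (Or.inr (s a (by simp))) (Or.inr ((v1 e).2.2.1 ▸ mul_mem (mul_mem (mul_mem
      (s a (by simp)) (s A (by simp))) (s a (by simp))) (s A (by simp)))) (Or.inr (s f (by simp)))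

theorem Em11.memA1 {g : G} : g ∈ AA t z a f ↔ ∃ v, (v.v % 32 < 8 ∧ v.v < 64) ∧ φ v = g := by
  refine ⟨of_cl φ [2, 4, 32, 1] (by simp [e.ef, e.ea, e.ez, e.et]) (by decide +kernel) (by decide +kernel), ?_⟩
  rintro ⟨v, hv, rfl⟩
  have s : ∀ u ∈ ({z, a, t, f} : Set G), u ∈ AA t z a f := fun u hu => subset_closure hu
  exact mem1 e v (Or.inl (by omega)) (Or.inr (s t (by simp))) (Or.inl (by omega)) (Or.inl (by omega))
    (Or.inr (s a (by simp))) (Or.inr (s z (by simp))) (Or.inr (s f (by simp)))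

theorem Em11.memA2 {g : G} : g ∈ AA t z A (f * z) ↔ ∃ v, v.v % 32 < 4 ∧ φ v = g := by
  refine ⟨of_cl φ [2, 64, 32, 3] (by simp [e.eA, e.ez, e.et, (v1 e).2.1]) (by decide +kernel)
    (by decide +kernel), ?_⟩
  rintro ⟨v, hv, rfl⟩
  have s : ∀ u ∈ ({z, A, t, f * z} : Set G), u ∈ AA t z A (f * z) := fun u hu => subset_closure hu
  have sf : f ∈ AA t z A (f * z) := by
    have := mul_mem (s (f * z) (by simp)) (s z (by simp))
    rwa [← (v1 e).2.2.2.1] at this
  exact mem1 e v (Or.inr (s A (by simp))) (Or.inr (s t (by simp))) (Or.inl (by omega)) (Or.inl (by omega))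
    (Or.inl (by omega)) (Or.inr (s z (by simp))) (Or.inr sf)

end

/-- the action of `ρ₁` on `P₀ = C_P(a)`: `f, z, a, b, x, t ↦ f, a, a z, x⁻¹, x', t` -/
noncomputable def rh1 (v : PM D44) : PM D44 :=
  H63.nf 2 6 (fun k => [el _ 1, el _ 4, el _ 6, el _ 20, el _ 28, el _ 32].getD k 1) v.v

theorem Q11.rho (q : Q11 F O K T C0 P t z a A f x w ρ1 ρ2 i j) {φ : PM D44 →* G}
    (e : Em11 φ P t z a A f x) (v : PM D44) (hv : v.v < 64) : φ (rh1 v) = ρ1 * φ v * ρ1⁻¹ := by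
  have k := H63.map_nf (MulAut.conj ρ1).toMonoidHom 2 6 (fun n => φ (el _ (2 ^ n))) v.v
  have hv' : v.v < 2 ^ 6 := hv
  rw [rh1, H63.map_nf, map_eq_nf φ v, nf_mono (n := 6) (N := D44.N) (by rw [N_eq']; omega) hv']
  refine Eq.trans (H80M.nf_lt 6 hv' fun l hl => ?_) k.symm
  change _ = ρ1 * _ * ρ1⁻¹
  interval_cases l <;> simp only [List.getD_cons_zero, List.getD_cons_succ, Nat.reducePow, e.ef, e.ez, e.eb, e.ea,
    e.ex, e.et, (v1 e).1, (v1 e).2.2.2.2.1, (v1 e).2.2.2.2.2]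
  exacts [q.l1.ρf.symm, q.l1.ρz.symm, q.l1.ρa.symm, (rb q.l1.toLin).symm, (q.l1.ρx.trans (mul_one _)).symm,
    q.l1.ρt.symm]

end Cfsg.Agent.DIH
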