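import Cfsg.Agent.DIH.Defs
import Cfsg.Agent.DIH.Bas2

set_option autoImplicit false
set_option linter.unusedSectionVars false
set_option linter.unusedVariables false

namespace Cfsg.Agent.DIH

open Subgroup H49
open H42 (SylIn)

variable {G : Type*} [Group G] [Finite G] {F O K T C0 P P1 P2 S : Subgroup G}
  {t z a a' a1 a2 f : G}

namespace B3

theorem ostep {x e d : G} {k : ℕ} (ho : Odd (orderOf x)) (h1 : x * d = d * x) (h : x * e * x⁻¹ = d * e)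
    (hd : d ^ 2 ^ k = 1) : x * e = e * x := by
  have key : ∀ n : ℕ, x ^ n * e * (x ^ n)⁻¹ = d ^ n * e := fun n => by
    induction n with
    | zero => simp
    | succ n ih =>
      have c : x * d ^ n * x⁻¹ = d ^ n := by
        rw [((show Commute x d from h1).pow_right n).eq, mul_inv_cancel_right]
      calc x ^ (n + 1) * e * (x ^ (n + 1))⁻¹ = x * (x ^ n * e * (x ^ n)⁻¹) * x⁻¹ := by group
        _ = x * d ^ n * x⁻¹ * (x * e * x⁻¹) := by rw [ih]; group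
        _ = d ^ (n + 1) * e := by rw [h, c]; group
  have h3 := key (orderOf x)
  rw [pow_orderOf_eq_one, one_mul, inv_one, mul_one, right_eq_mul] at h3
  have h4 : d = 1 := (pow_eq_one_iff_of_coprime (Nat.Coprime.pow_right k (Nat.coprime_two_right.2 ho))).1 ⟨h3, hd⟩
  rwa [h4, one_mul, mul_inv_eq_iff_eq_mul] at h

theorem odd_pow (x : G) : ∃ k : ℕ, Odd (orderOf (x ^ 2 ^ k)) := by
  obtain ⟨k, m, hm, e⟩ := Nat.exists_eq_two_pow_mul_odd (orderOf_pos x).ne'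
  refine ⟨k, hm.of_dvd_nat (orderOf_dvd_of_pow_eq_one ?_)⟩
  rw [← pow_mul, ← e, pow_orderOf_eq_one]

theorem parts (c : G) : ∃ e ∈ zpowers c, ∃ o ∈ zpowers c, (∃ k : ℕ, e ^ 2 ^ k = 1) ∧ Odd (orderOf o) ∧
    c = e * o := by
  obtain ⟨k, m, hm, e⟩ := Nat.exists_eq_two_pow_mul_odd (orderOf_pos c).ne'
  have hc : IsCoprime ((2 ^ k : ℕ) : ℤ) (m : ℤ) :=
    Nat.isCoprime_iff_coprime.2 (Nat.Coprime.pow_left k (Nat.coprime_two_left.2 hm))
  obtain ⟨u, v, huv⟩ := hc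
  have h1 : c ^ (((2 ^ k * m : ℕ)) : ℤ) = 1 := by rw [← e, zpow_natCast, pow_orderOf_eq_one]
  refine ⟨c ^ (v * m), zpow_mem_zpowers _ _, c ^ (u * (2 ^ k : ℕ)), zpow_mem_zpowers _ _, ⟨k, ?_⟩, ?_, ?_⟩
  · rw [← zpow_natCast, ← zpow_mul, show v * (m : ℤ) * ((2 ^ k : ℕ) : ℤ) = ((2 ^ k * m : ℕ) : ℤ) * v by
      push_cast; ring, zpow_mul, h1, one_zpow]
  · refine hm.of_dvd_nat (orderOf_dvd_of_pow_eq_one ?_)
    rw [← zpow_natCast, ← zpow_mul, show u * ((2 ^ k : ℕ) : ℤ) * (m : ℤ) = ((2 ^ k * m : ℕ) : ℤ) * u by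
      push_cast; ring, zpow_mul, h1, one_zpow]
  · rw [← zpow_add, add_comm, huv, zpow_one]

theorem two_of_mem {R : Subgroup G} (hR : IsPGroup 2 R) {r : G} (hr : r ∈ R) : ∃ k : ℕ, r ^ 2 ^ k = 1 := by
  obtain ⟨k, hk⟩ := hR ⟨r, hr⟩
  exact ⟨k, congrArg Subtype.val hk⟩

theorem one_of_odd {o : G} (ho : Odd (orderOf o)) {k : ℕ} (h : o ^ 2 ^ k = 1) : o = 1 :=
  (pow_eq_one_iff_of_coprime (Nat.Coprime.pow_right k (Nat.coprime_two_right.2 ho))).1
    ⟨pow_orderOf_eq_one o, h⟩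

theorem isP_zpowers {e : G} {k : ℕ} (h : e ^ 2 ^ k = 1) : IsPGroup 2 (zpowers e) := by
  rintro ⟨_, n, rfl⟩
  refine ⟨k, Subtype.ext ?_⟩
  show (e ^ n) ^ 2 ^ k = 1
  rw [← zpow_natCast, ← zpow_mul, mul_comm, zpow_mul, zpow_natCast, h, one_zpow]

end B3

/-- the stability group of a chain in a 2-group acts as a 2-group -/
theorem chain_two (Y : ℕ → Subgroup G) (n : ℕ) (h0 : Y 0 = ⊥) (hm : ∀ i < n, Y i ≤ Y (i + 1))
    (hY : IsPGroup 2 (Y n)) {s : Set G}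
    (hs : ∀ g ∈ s, ∀ i < n, ∀ y ∈ Y (i + 1), g * y * g⁻¹ * y⁻¹ ∈ Y i) :
    ∀ g ∈ closure s, ∃ k : ℕ, g ^ 2 ^ k ∈ 𝒞(Y n) := by
  have stab : ∀ g ∈ closure s, ∀ i < n, ∀ y ∈ Y (i + 1), g * y * g⁻¹ * y⁻¹ ∈ Y i := by
    intro g hg
    have hg' : g ∈ Submonoid.closure s := by
      rw [← Subgroup.closure_toSubmonoid_of_finite]; exact hg
    induction hg' using Submonoid.closure_induction with
    | mem x hx => exact hs x hx
    | one => intro i _ y _; simp [one_mem]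
    | mul x w hx hw ihx ihw =>
      have hx' : x ∈ closure s := by
        rw [← Subgroup.mem_toSubmonoid, Subgroup.closure_toSubmonoid_of_finite]; exact hx
      have hw' : w ∈ closure s := by
        rw [← Subgroup.mem_toSubmonoid, Subgroup.closure_toSubmonoid_of_finite]; exact hw
      intro i hi y hy
      have d := ihw hw' i hi y hy
      have e := ihx hx' i hi y hy
      have c : x * (w * y * w⁻¹ * y⁻¹) * x⁻¹ ∈ Y i := by
        rcases i with _ | j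
        · rw [h0, mem_bot] at d
          rw [d]; simp [one_mem]
        · have := mul_mem (hm j (by omega) (ihx hx' j (by omega) _ d)) d
          rwa [inv_mul_cancel_right] at this
      convert mul_mem c e using 1
      group
  have le : ∀ j i, i + j = n → Y i ≤ Y n := fun j => by
    induction j with
    | zero => intro i hi; rw [← hi]; exact le_rfl
    | succ j ih => intro i hi; exact (hm i (by omega)).trans (ih (i + 1) (by omega))
  intro g hg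
  obtain ⟨k, hk⟩ := B3.odd_pow g
  have hs' := stab _ (pow_mem hg (2 ^ k))
  have key : ∀ i ≤ n, ∀ y ∈ Y i, g ^ 2 ^ k * y = y * g ^ 2 ^ k := fun i => by
    induction i with
    | zero => intro _ y hy; rw [h0, mem_bot] at hy; simp [hy]
    | succ i ih =>
      intro hi y hy
      have d := hs' i (by omega) y hy
      obtain ⟨m, hm'⟩ := B3.two_of_mem hY (le (n - i) i (by omega) d)
      exact B3.ostep hk (ih (by omega) _ d) (by group) hm'
  exact ⟨k, mem_centralizer_iff.2 fun y hy => (key n le_rfl y hy).symm⟩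

/-- an element of odd order that centralizes `Q` and normalizes `R` centralizes `R` -/
theorem odd_cent {Q R : Subgroup G} (hR : IsPGroup 2 R) (hQ : Q ≤ R) (hn : R ≤ 𝒩(Q)) (hc : R ⊓ 𝒞(Q) ≤ Q)
    {o : G} (ho : Odd (orderOf o)) (h1 : o ∈ 𝒞(Q)) (h2 : o ∈ 𝒩(R)) : o ∈ 𝒞(R) := by
  refine mem_centralizer_iff.2 fun r hr => ?_
  have c := mem_centralizer_iff.1 h1
  have dR : o * r * o⁻¹ * r⁻¹ ∈ R := mul_mem (H42.conj_mem_of_mem_normalizer h2 hr) (inv_mem hr)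
  have dC : o * r * o⁻¹ * r⁻¹ ∈ 𝒞(Q) := by
    refine mem_centralizer_iff.2 fun q hq => ?_
    have e1 := c q hq
    have e2 := c _ (conj_mem_of_norm' hn hr hq)
    calc q * (o * r * o⁻¹ * r⁻¹) = (q * o) * r * o⁻¹ * r⁻¹ := by group
      _ = o * r * o⁻¹ * (o * (r⁻¹ * q * r)) * o⁻¹ * r⁻¹ := by rw [e1]; group
      _ = o * r * o⁻¹ * r⁻¹ * q := by
        rw [show o * r * o⁻¹ * (o * (r⁻¹ * q * r)) * o⁻¹ * r⁻¹ =
          o * r * o⁻¹ * (o * (r⁻¹ * q * r) * o⁻¹) * r⁻¹ by group, ← e2]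
        group
  obtain ⟨k, hk⟩ := B3.two_of_mem hR dR
  exact (B3.ostep ho (c _ (hc ⟨dR, dC⟩)).symm (by group) hk).symm

/-- elements of `C(A)` -/
theorem Sd.split {ρ c : G} (s : Sd t z a f ρ) (hA : AA t z a f ≤ 𝒞(AA t z a f)) (hc : c ∈ 𝒞(AA t z a f)) :
    ∃ e ∈ AA t z a f, ∃ o ∈ zpowers c, e ∈ zpowers c ∧ Odd (orderOf o) ∧ c = e * o := by
  have : Fact (Nat.Prime 2) := ⟨Nat.prime_two⟩
  obtain ⟨e, he, o, ho, ⟨k, hk⟩, h1, h2⟩ := B3.parts c
  refine ⟨e, ?_, o, ho, he, h1, h2⟩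
  obtain ⟨g, hg, h3⟩ := s.syl.exists_conj (B3.isP_zpowers hk)
    ((zpowers_le.2 he).trans (zpowers_le.2 hc))
  have h4 := h3 e (mem_zpowers e)
  have h5 := mem_centralizer_iff.1 hg _ h4
  have h6 : e = g * e * g⁻¹ := by
    calc e = g⁻¹ * (g * e * g⁻¹ * g) := by group
      _ = g * e * g⁻¹ := by rw [h5]; group
  rwa [h6]

theorem Sd.two {ρ c : G} (s : Sd t z a f ρ) (hA : AA t z a f ≤ 𝒞(AA t z a f)) (hc : c ∈ 𝒞(AA t z a f))
    {R : Subgroup G} (hR : IsPGroup 2 R) (cR : c ∈ R) : c ∈ AA t z a f := by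
  obtain ⟨e, he, o, ho, -, h1, h2⟩ := s.split hA hc
  obtain ⟨k, hk⟩ := B3.two_of_mem hR (zpowers_le.2 cR ho)
  rw [h2, B3.one_of_odd h1 hk, mul_one]
  exact he

/-- a fixed coset: the 2-group `S` normalizes the 2-groups `R < R'` -/
theorem exists_fixed {R R' : Subgroup G} (hS : IsPGroup 2 (S ⊔ R' : Subgroup G)) (h : R < R')
    (h1 : S ≤ 𝒩(R)) (h2 : S ≤ 𝒩(R')) :
    ∃ r ∈ R', r ∉ R ∧ r * r ∈ R ∧ r ∈ 𝒩(R) ∧ ∀ g ∈ S, g * r * g⁻¹ * r⁻¹ ∈ R := by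
  have : Fact (Nat.Prime 2) := ⟨Nat.prime_two⟩
  have hR' : IsPGroup 2 R' := hS.to_le le_sup_right
  have lt := H42.lt_inf_normalizer hR' h
  have nN : S ≤ 𝒩(R' ⊓ 𝒩(R)) := norm_inf h2 (norm_norm h1)
  have := hS.isNilpotent
  have hb : (S ⊔ R').lowerCentralSeries (Group.nilpotencyClass ↥(S ⊔ R')) = ⊥ :=
    lowerCentralSeries_eq_bot_of_nilpotencyClass_le le_rfl
  have ex : ∃ n, (R' ⊓ 𝒩(R)) ⊓ (S ⊔ R').lowerCentralSeries n ≤ R := ⟨_, by rw [hb]; simp⟩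
  classical
  have hn := Nat.find_spec ex
  have h0 : Nat.find ex ≠ 0 := by
    intro e
    rw [e, Subgroup.lowerCentralSeries_zero, inf_eq_left.2 (inf_le_left.trans le_sup_right)] at hn
    exact lt.not_ge hn
  obtain ⟨m, hm⟩ := Nat.exists_eq_succ_of_ne_zero h0
  have hm' := Nat.find_min ex (m := m) (by omega)
  obtain ⟨y, hy, yR⟩ := SetLike.not_le_iff_exists.1 hm'
  rw [hm] at hn
  have hy1 : y ∈ R' ⊓ 𝒩(R) := hy.1
  have c1 : ∀ g ∈ S, g * y * g⁻¹ * y⁻¹ ∈ R := fun g hg => by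
    refine hn (mem_inf.2 ⟨mul_mem (conj_mem_of_norm nN hg hy1) (inv_mem hy1), ?_⟩)
    have := inv_mem (commutator_mem_commutator hy.2 (mem_sup_left hg : g ∈ S ⊔ R'))
    rw [commutatorElement_inv, commutatorElement_def] at this
    exact this
  have c2 : ∀ j : ℕ, ∀ g ∈ S, g * y ^ j * g⁻¹ * (y ^ j)⁻¹ ∈ R := fun j g hg => by
    induction j with
    | zero => simp [one_mem]
    | succ j ih =>
      have := mul_mem (c1 g hg) (H42.conj_mem_of_mem_normalizer hy.1.2 ih)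
      convert this using 1
      group
  obtain ⟨k, hk⟩ := B3.two_of_mem hR' hy.1.1
  obtain ⟨j, j1, j2⟩ := BM.exists_sq_mem (N := R) k (by rw [hk]; exact one_mem _) yR
  exact ⟨y ^ j, pow_mem hy.1.1 j, j1, j2, pow_mem hy.1.2 j, c2 j⟩

/-- Frattini argument with a supplement `Z` -/
theorem frattini_cent {Q M Z : Subgroup G} (hQ : SylIn 2 Q M) (hM : ∀ m ∈ M, ∃ k ∈ Z, ∃ q ∈ Q, m = k * q)
    {ρ : G} (hρ : ρ ∈ 𝒩(M)) : ∃ k ∈ Z, k⁻¹ * ρ ∈ 𝒩(Q) := by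
  have : Fact (Nat.Prime 2) := ⟨Nat.prime_two⟩
  obtain ⟨g, hg, h⟩ := hQ.exists_conj (H42.isPGroup_cj ρ hQ.isP)
    (H42.cj_le_iff.2 fun x hx => H42.conj_mem_of_mem_normalizer hρ (hQ.le hx))
  obtain ⟨k, hk, q, hq, e⟩ := hM g⁻¹ (inv_mem hg)
  refine ⟨k, hk, H42.mem_normalizer_of_conj_mem fun x hx => ?_⟩
  have h1 := h _ (H42.conj_mem_cj hx)
  have e' : k⁻¹ = q * g := by
    rw [← inv_inv g, e]; group
  have := mul_mem (mul_mem hq h1) (inv_mem hq)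
  rw [e']
  convert this using 1
  group

end Cfsg.Agent.DIH
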