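import Cfsg.Agent.DIH.Defs
import Cfsg.Agent.DIH.D60
import Cfsg.Agent.DIH.BasB
import Cfsg.Agent.DIH.B44m
import Cfsg.Agent.H42.Index2

set_option autoImplicit false

namespace Cfsg.Agent.DIH

open Subgroup H49
open H42 (SylIn)

variable {G : Type*} [Group G] [Finite G] {F O K T C0 P P1 P2 S : Subgroup G}
  {t z a a' a1 a2 f : G}

open PM

variable {x w u ρ g h : G} {s m n e : Bool}

namespace B66m

open H63 (nf map_nf nf_succ nf_zero)
open H80M (lhs)
open B44m

/-- the table of the presentation of `S` -/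
def tb6 (s m n : Bool) (i j : ℕ) : ℕ :=
  (([[0], [1, 0], [1, 2, 0], [1, 2, 4, 0], [1, 2, 4, 8, 0], [1, 2, 4, 8, 16, 0], [1, 2, 4, 8, 17, 34, 0],
    [1, 2, 4, 8, cond s 22 18, cond s (cond m (cond n 47 43) (cond n 46 42)) (cond m (cond n 39 35) (cond n 38 34)),
      64, 0], [1, 3, 4, 12, 16, 48, 64, 192, 0]] : List (List ℕ)).getD i []).getD j 0

theorem tw6 : ∀ s m n, ∀ i < 9, ∀ j ≤ i, (D60 s m n).tw i j = tb6 s m n i j := by decide +kernel
theorem N6 : ∀ s m n, (D60 s m n).N = 9 := by decide +kernel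
theorem N62 : ∀ m, (D62 m).N = 10 := by decide +kernel
theorem tw62 : ∀ m, ∀ i < 9, ∀ j ≤ i, (D62 m).tw i j = (D60 false m false).tw i j := by decide +kernel
theorem tw62' : ∀ m, ∀ j < 10, (D62 m).tw 9 j = [1, 2, 5, 10, 64, 128, 16, 32, 256, 0].getD j 0 := by decide +kernel

omit [Finite G] in
theorem nf9 (s : ℕ → G) (E : ℕ) : nf 2 9 s E = s 8 ^ (E / 256 % 2) * s 7 ^ (E / 128 % 2) * s 6 ^ (E / 64 % 2) *
    s 5 ^ (E / 32 % 2) * s 4 ^ (E / 16 % 2) * s 3 ^ (E / 8 % 2) * s 2 ^ (E / 4 % 2) * s 1 ^ (E / 2 % 2) *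
      s 0 ^ (E % 2) := by
  simp only [nf_succ, nf_zero, Nat.div_div_eq_div_mul, one_mul]

omit [Finite G] in
theorem nf_in {K : Subgroup G} (N : ℕ) (s : ℕ → G) (E : ℕ) (h : ∀ i < N, E / 2 ^ i % 2 = 0 ∨ s i ∈ K) :
    nf 2 N s E ∈ K := by
  induction N generalizing s E with
  | zero => exact one_mem _
  | succ N ih =>
    rw [nf_succ]
    refine mul_mem (ih _ _ fun i hi => ?_) (pm (by simpa using h 0 (by omega)))
    rw [Nat.div_div_eq_div_mul, ← pow_succ']
    exact h (i + 1) (by omega)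

omit [Finite G] in
theorem map_in {D : PD} [D.OK] (φ : PM D →* G) {K : Subgroup G} (v : PM D) {N : ℕ} (hN : D.N = N)
    (h : ∀ i < N, v.v / 2 ^ i % 2 = 0 ∨ φ (el D (2 ^ i)) ∈ K) : φ v ∈ K := by
  rw [map_eq_nf, hN]
  exact nf_in _ _ _ h

omit [Finite G] in
theorem rel6 (q : Q60 F O K T C0 P S t z a a' f x w u ρ s m n) :
    H80M.Rel 9 (D60 s m n).tw (gs [z, x * (a' * x * a'), f, u, a, x, a', w, t]) 9 := by
  have r := BM.rel_of (e := false) q.toCW q.f2
  have fz : f * z = z * f := (BM.comm_z r.toD8 r.fa1 r.fa2).eq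
  have tz : t * z = z * t := (BM.comm_z r.toD8 r.ta1 r.ta2).eq
  have xx : x * x = 1 := by simpa [pw] using q.l1.xx
  have uu : u * u = 1 := by simpa [pw] using q.l1.cc
  have xx' : Commute x (a' * x * a') := q.l1.xx'.trans (mul_one _)
  have xa : Commute x a := q.l1.xa
  have xz : Commute x z := q.l1.xz
  have zA : Commute z a' := r.c2
  have za : Commute z a := r.c1
  have ab : Commute (x * (a' * x * a')) a := by
    refine xa.mul_left ?_
    calc a' * x * a' * a = a' * (x * a) * a' * z := by rw [mul_assoc _ a', r.r]; group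
      _ = a * a' * (z * (x * a')) * z := by rw [xa.eq, ← mul_assoc a', r.r]; group
      _ = _ := by rw [(xz.symm.mul_right zA).eq, mul_assoc, mul_assoc, mul_assoc _ z, r.z2]; group
  obtain ⟨bf, bz, bx, bA, e1, e2, e3⟩ := lin r.toD8 r.fa2 r.ta2 q.l1.toLin ab
  have bb : x * (a' * x * a') * (x * (a' * x * a')) = 1 := by
    rw [sqb r.s2 xx', xx, mul_one, one_mul, r.s2]
  have uA : Commute u a' := by
    have := q.l1.ac
    rw [pw, cond_false, mul_one] at this
    calc u * a' = a' * u * (a' * a') := by rw [← mul_assoc, this]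
      _ = _ := by rw [r.s2, mul_one]
  have ux : Commute u x := q.l1.cx
  have uf : Commute u f := q.l1.cf
  have uz : Commute u z := q.l1.cz
  have ua : Commute u a := q.l1.ca
  have ub : Commute u (x * (a' * x * a')) := ux.mul_right ((uA.mul_right ux).mul_right uA)
  have wf : Commute w f := q.wf
  have e4 : a'⁻¹ * x * a' = x * (x * (a' * x * a')) := by rw [← mul_assoc x, xx, one_mul, iv r.s2]
  have e7 : t⁻¹ * w * t = w * a' := by
    rw [q.wA, mul_assoc, ← mul_inv_cancel_right (w * t) w, q.wt, iv q.ww]; group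
  have e8 : t⁻¹ * u * t = u * f := by
    rw [mul_assoc, mul_inv_eq_iff_eq_mul.1 q.l1.ct, uf.eq]; group
  have e6 : w⁻¹ * x * w = x * (x * (a' * x * a') * pw s u * pw m z * pw n f) := by
    rw [← q.xw, iv q.ww, ← mul_assoc, ← mul_assoc, ← mul_assoc, xx, one_mul]
  have hb := q.bb
  have wz := q.wz
  have wA := q.wA
  have wu := q.wu
  have xf := q.l1.xf
  generalize x * (a' * x * a') = b at *
  have pf : ∀ y, Commute y f → Commute y (pw s f) := fun y c => by
    cases s
    exacts [Commute.one_right y, c]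
  have p2 : pw s f * pw s f = 1 := by
    cases s
    exacts [mul_one 1, q.f2]
  have c2 : w * (a * w * a) = a * w * a * w := by
    have : w * (a * w * a) * (w * (a * w * a)) = 1 := by
      rw [hb, mul_assoc, ← mul_assoc (pw s f), ← (pf b bf).eq, mul_assoc, p2, mul_one, bb]
    rw [eq_inv_of_mul_eq_one_left this]
    simp only [mul_inv_rev, iv q.ww, iv r.s1, mul_assoc]
  have bw : Commute b w := by
    have := ((show Commute w (w * (a * w * a)) from (Commute.refl w).mul_right c2).mul_right (pf w wf).inv_right).symm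
    rwa [hb, mul_inv_cancel_right] at this
  have e5 : w⁻¹ * a * w = a * pw s f * b := by
    rw [mul_assoc a, ← (pf b bf).eq, ← hb, c2, iv q.ww]
    simp only [← mul_assoc, r.s1, one_mul]
  have e6' : w⁻¹ * x * w = x * pw s u * pw n f * b * pw m z := by
    have k1 : Commute b (pw s u) := by
      cases s
      exacts [Commute.one_right b, ub.symm]
    have k2 : Commute (b * pw m z) (pw n f) := by
      cases n
      · exact Commute.one_right _
      · cases m
        exacts [bf.mul_left (Commute.one_left f), bf.mul_left (Commute.symm fz)]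
    rw [e6, k1.eq, mul_assoc (pw s u), mul_assoc (pw s u), k2.eq]; group
  clear e6 hb pf p2 c2
  have h4 : lhs (gs [z, b, f, u, a, x, a', w, t]) 7 4 = nf 2 9 (gs [z, b, f, u, a, x, a', w, t]) (tb6 s m n 7 4) := by
    rw [nf9]
    cases s <;> simpa only [lhs, gs, tb6, List.getD_cons_zero, List.getD_cons_succ, Nat.reduceDiv, Nat.reduceMod,
      pow_zero, pow_one, one_mul, mul_one, Nat.reduceEqDiff, if_false, cond_true, cond_false, pw] using e5
  have h5 : lhs (gs [z, b, f, u, a, x, a', w, t]) 7 5 = nf 2 9 (gs [z, b, f, u, a, x, a', w, t]) (tb6 s m n 7 5) := by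
    rw [nf9]
    cases s <;> cases m <;> cases n <;> simpa only [lhs, gs, tb6, List.getD_cons_zero, List.getD_cons_succ,
      Nat.reduceDiv, Nat.reduceMod, pow_zero, pow_one, one_mul, mul_one, Nat.reduceEqDiff, if_false, cond_true,
      cond_false, pw] using e6'
  intro i hi j hj
  rw [tw6 s m n i hi j hj]
  interval_cases i <;> interval_cases j <;> first
    | with_reducible exact h4
    | with_reducible exact h5
    | (rw [nf9]; simp only [lhs, gs, tb6, List.getD_cons_zero, List.getD_cons_succ, Nat.reduceDiv, Nat.reduceMod,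
        pow_zero, pow_one, one_mul, mul_one, if_true, Nat.reduceEqDiff, if_false])
  exacts [r.z2, cj' bz.eq, bb, cj' fz, cj bf.eq, q.f2, cj' uz.eq, cj' ub.eq, cj' uf.eq, uu, cj za.eq, cj ab.eq,
    cj r.fa1.eq, cj ua.eq, r.s1, cj' xz.eq, cj bx.eq, cj' xf, cj ux.eq, cj' xa.eq, xx, cj zA.eq, cj bA.eq,
    cj r.fa2.eq, cj uA.eq, e1, e4, r.s2, cj' wz, cj bw.eq, cj' wf.eq, cj' wu, cj' wA, q.ww, cj' tz, e3, cj' r.tf.eq,
    e8, cj' r.ta1.eq, e2, cj' r.ta2.eq, e7, r.t2]

theorem w6 : ∀ s m n, el (D60 s m n) 34 = el _ 64 * el _ 32 * el _ 64 ∧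
    el (D60 s m n) 1 = el _ 16 * el _ 64 * el _ 16 * el _ 64 ∧ el (D60 s m n) 5 = el _ 4 * el _ 1 ∧
    el (D60 s m n) 10 = el _ 8 * el _ 2 ∧ el (D60 s m n) 0 = 1 := by decide +kernel

theorem w62 : ∀ m, el (D62 m) 1 = el _ 16 * el _ 64 * el _ 16 * el _ 64 := by decide +kernel

theorem bit6 : ∀ v < 1024, (Nat.land v 170 = 0 → v / 2 % 2 = 0 ∧ v / 8 % 2 = 0 ∧ v / 32 % 2 = 0 ∧ v / 128 % 2 = 0) ∧
    (Nat.land v 682 = 0 → v / 2 % 2 = 0 ∧ v / 8 % 2 = 0 ∧ v / 32 % 2 = 0 ∧ v / 128 % 2 = 0 ∧ v / 512 % 2 = 0) := by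
  decide +kernel

omit [Finite G] in
theorem bmem {K : Subgroup G} (hx : x ∈ K) (hA : a' ∈ K) : x * (a' * x * a') ∈ K :=
  mul_mem hx (mul_mem (mul_mem hA hx) hA)

end B66m

open B44m B66m

theorem Q60.em (q : Q60 F O K T C0 P S t z a a' f x w u ρ s m n) :
    ∃ φ : PM (D60 s m n) →* G, Em60 φ S t z a a' f x w u := by
  have r : H80M.Rel (D60 s m n).N (D60 s m n).tw (gs [z, x * (a' * x * a'), f, u, a, x, a', w, t]) (D60 s m n).N :=
    N6 s m n ▸ rel6 q
  have g : ∀ k < 9, hom r (el _ (2 ^ k)) = gs [z, x * (a' * x * a'), f, u, a, x, a', w, t] k :=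
    fun k hk => hom_gen r (N6 s m n ▸ hk)
  have mm : ∀ k < 9, gs [z, x * (a' * x * a'), f, u, a, x, a', w, t] k ∈ (hom r).range := fun k hk => ⟨_, g k hk⟩
  have hr : (hom r).range = S := by
    refine le_antisymm (range_le fun k hk => ?_) ?_
    · rw [N6] at hk
      rw [g k hk, q.genS]
      have c : ∀ y ∈ ({z, a, a', t, f, x, w, u} : Set G), y ∈ closure ({z, a, a', t, f, x, w, u} : Set G) :=
        fun y hy => subset_closure hy
      interval_cases k
      exacts [c z (by simp), bmem (c x (by simp)) (c a' (by simp)), c f (by simp), c u (by simp), c a (by simp),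
        c x (by simp), c a' (by simp), c w (by simp), c t (by simp)]
    · rw [q.genS, closure_le]
      simp only [Set.insert_subset_iff, Set.singleton_subset_iff, SetLike.mem_coe]
      exact ⟨mm 0 (by omega), mm 4 (by omega), mm 6 (by omega), mm 8 (by omega), mm 2 (by omega), mm 5 (by omega),
        mm 7 (by omega), mm 3 (by omega)⟩
  exact ⟨hom r, inj_of_card _ (by rw [hr, q.cardS, N6]; rfl), hr, g 0 (by omega), g 1 (by omega), g 2 (by omega),
    g 3 (by omega), g 4 (by omega), g 5 (by omega), g 6 (by omega), g 7 (by omega), g 8 (by omega)⟩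

variable {φ : PM (D60 s m n) →* G} {y : G}

theorem Em60.memR (E : Em60 φ S t z a a' f x w u) : y ∈ R60 z a a' f x w u ↔ ∃ v, v.v < 256 ∧ φ v = y := by
  refine ⟨of_cl φ [1, 16, 64, 4, 32, 128, 8] (by simp [E.ez, E.ea, E.eA, E.ef, E.ex, E.ew, E.eu]) ?_ ?_, ?_⟩
  · cases s <;> cases m <;> cases n <;> decide +kernel
  · cases s <;> cases m <;> cases n <;> decide +kernel
  · rintro ⟨v, hv, rfl⟩
    have c : ∀ y ∈ ({z, a, a', f, x, w, u} : Set G), y ∈ R60 z a a' f x w u := fun y hy => subset_closure hy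
    refine map_in φ v (N6 s m n) fun i hi => ?_
    interval_cases i <;> simp only [Nat.reducePow, E.ez, E.eb, E.ef, E.eu, E.ea, E.ex, E.eA, E.ew]
    exacts [.inr (c z (by simp)), .inr (bmem (c x (by simp)) (c a' (by simp))), .inr (c f (by simp)),
      .inr (c u (by simp)), .inr (c a (by simp)), .inr (c x (by simp)), .inr (c a' (by simp)), .inr (c w (by simp)),
      .inl (by omega)]

theorem Em60.memW (E : Em60 φ S t z a a' f x w u) : y ∈ W60 z a a' f x u ↔ ∃ v, v.v < 64 ∧ φ v = y := by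
  refine ⟨of_cl φ [1, 16, 4, 32, 34, 8] (by simp [E.ez, E.ea, E.eA, E.ef, E.ex, E.eu, (w6 s m n).1]) ?_ ?_, ?_⟩
  · cases s <;> cases m <;> cases n <;> decide +kernel
  · cases s <;> cases m <;> cases n <;> decide +kernel
  · rintro ⟨v, hv, rfl⟩
    have c : ∀ y ∈ ({z, a, f, x, a' * x * a', u} : Set G), y ∈ W60 z a a' f x u := fun y hy => subset_closure hy
    refine map_in φ v (N6 s m n) fun i hi => ?_
    interval_cases i <;> simp only [Nat.reducePow, E.ez, E.eb, E.ef, E.eu, E.ea, E.ex]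
    exacts [.inr (c z (by simp)), .inr (mul_mem (c x (by simp)) (c _ (by simp))), .inr (c f (by simp)),
      .inr (c u (by simp)), .inr (c a (by simp)), .inr (c x (by simp)), .inl (by omega), .inl (by omega),
      .inl (by omega)]

theorem Em60.memK (E : Em60 φ S t z a a' f x w u) : y ∈ K60 z a' f x u ↔ ∃ v, v.v < 16 ∧ φ v = y := by
  refine ⟨of_cl φ [1, 2, 4, 8] (by simp [E.ez, E.eb, E.ef, E.eu]) ?_ ?_, ?_⟩
  · cases s <;> cases m <;> cases n <;> decide +kernel
  · cases s <;> cases m <;> cases n <;> decide +kernel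
  · rintro ⟨v, hv, rfl⟩
    have c : ∀ y ∈ ({z, x * (a' * x * a'), f, u} : Set G), y ∈ K60 z a' f x u := fun y hy => subset_closure hy
    refine map_in φ v (N6 s m n) fun i hi => ?_
    interval_cases i <;> simp only [Nat.reducePow, E.ez, E.eb, E.ef, E.eu]
    exacts [.inr (c z (by simp)), .inr (c _ (by simp)), .inr (c f (by simp)), .inr (c u (by simp)), .inl (by omega),
      .inl (by omega), .inl (by omega), .inl (by omega), .inl (by omega)]

theorem Em60.memT (E : Em60 φ S t z a a' f x w u) :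
    y ∈ TT t a a' f ↔ ∃ v, Nat.land v.v 170 = 0 ∧ φ v = y := by
  refine ⟨of_cl φ [16, 64, 256, 4] (by simp [E.ea, E.eA, E.ef, E.et]) ?_ ?_, ?_⟩
  · cases s <;> cases m <;> cases n <;> decide +kernel
  · cases s <;> cases m <;> cases n <;> decide +kernel
  · rintro ⟨v, hv, rfl⟩
    have c : ∀ y ∈ ({a, a', t, f} : Set G), y ∈ TT t a a' f := fun y hy => subset_closure hy
    obtain ⟨b1, b3, b5, b7⟩ := (bit6 v.v ((N6 s m n ▸ v.lt : v.v < 2 ^ 9).trans (by norm_num))).1 hv
    refine map_in φ v (N6 s m n) fun i hi => ?_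
    interval_cases i
    · rw [pow_zero, (w6 s m n).2.1, map_mul, map_mul, map_mul, E.ea, E.eA]
      exact .inr (mul_mem (mul_mem (mul_mem (c a (by simp)) (c a' (by simp))) (c a (by simp))) (c a' (by simp)))
    all_goals simp only [Nat.reducePow, E.ef, E.ea, E.eA, E.et]
    exacts [.inl b1, .inr (c f (by simp)), .inl b3, .inr (c a (by simp)), .inl b5, .inr (c a' (by simp)), .inl b7,
      .inr (c t (by simp))]

theorem Q62.em (q : Q62 F O K T C0 P S t z a a' f x w u ρ g m) :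
    ∃ φ : PM (D62 m) →* G, Em62 φ S t z a a' f x w u g := by
  obtain ⟨φ, E⟩ := q.toQ60.em
  have gg : g * g = 1 := q.gg
  have gi := iv gg
  have r := q.toQ60.toCB.toCW.toB0.toHL.toD8
  have ga : g⁻¹ * a * g = a' := by have := q.ga; rwa [gi] at this ⊢
  have gA : g⁻¹ * a' * g = a := by have := q.gA; rwa [gi] at this ⊢
  have gx : g⁻¹ * x * g = w := by rw [gi, q.gx]
  have gz : g⁻¹ * z * g = z := by
    calc g⁻¹ * z * g = (g⁻¹ * a' * g)⁻¹ * (g⁻¹ * a * g)⁻¹ * (g⁻¹ * a' * g) * (g⁻¹ * a * g) := by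
          rw [BM.z_eq r]; group
      _ = a * (a' * a) * a' := by rw [ga, gA, iv r.s1, iv r.s2]; group
      _ = z := by rw [r.r, ← mul_assoc, ← mul_assoc, r.s1, one_mul, ← r.c2, mul_assoc, r.s2, mul_one]
  obtain ⟨-, -, k5, k10, k0⟩ := w6 false m false
  obtain ⟨ψ, h1, h2⟩ := extend (D' := D62 m) φ (by rw [N62, N6]) (by rw [N6]; exact tw62 m) g (by
    rw [N6]
    intro j hj
    rw [tw62' m j (by omega)]
    interval_cases j <;> simp only [Nat.reducePow, List.getD_cons_zero, List.getD_cons_succ, k5, k10, map_mul, E.ez,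
      E.eb, E.ef, E.eu, E.ea, E.ex, E.eA, E.ew, E.et]
    · exact gz
    · calc _ = (g⁻¹ * x * g) * ((g⁻¹ * a' * g) * (g⁻¹ * x * g) * (g⁻¹ * a' * g)) := by group
        _ = _ := by rw [gx, gA, q.bb, pw, cond_false, mul_one]
    · have := q.gf; rwa [gi] at this ⊢
    · rw [gi, q.gu]
    · exact ga
    · exact gx
    · exact gA
    · rw [← q.gx, ← mul_assoc, ← mul_assoc, inv_mul_cancel, one_mul, mul_assoc, gg, mul_one]
    · exact cj' (mem_cent1.1 (q.sylT.le q.gT))) (by
    rw [N6, tw62' m 9 (by omega), gg]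
    exact (map_one φ).symm.trans (congrArg φ k0.symm))
  rw [N6] at h1 h2
  have e0 := (h1 1 (by norm_num)).trans E.ez
  have e1 := (h1 2 (by norm_num)).trans E.eb
  have e2 := (h1 4 (by norm_num)).trans E.ef
  have e3 := (h1 8 (by norm_num)).trans E.eu
  have e4 := (h1 16 (by norm_num)).trans E.ea
  have e5 := (h1 32 (by norm_num)).trans E.ex
  have e6 := (h1 64 (by norm_num)).trans E.eA
  have e7 := (h1 128 (by norm_num)).trans E.ew
  have e8 := (h1 256 (by norm_num)).trans E.et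
  have hr : ψ.range = S ⊔ zpowers g := by
    refine le_antisymm (range_le fun k hk => ?_) (sup_le ?_ (zpowers_le.2 ⟨_, h2⟩))
    · rw [N62] at hk
      rcases Nat.lt_succ_iff_lt_or_eq.1 hk with hk | rfl
      · rw [h1 _ (Nat.pow_lt_pow_right one_lt_two hk)]
        exact mem_sup_left (E.range ▸ ⟨_, rfl⟩)
      · rw [h2]; exact mem_sup_right (mem_zpowers g)
    · rw [q.genS, closure_le]
      simp only [Set.insert_subset_iff, Set.singleton_subset_iff, SetLike.mem_coe]
      exact ⟨⟨_, e0⟩, ⟨_, e4⟩, ⟨_, e6⟩, ⟨_, e8⟩, ⟨_, e2⟩, ⟨_, e5⟩, ⟨_, e7⟩, ⟨_, e3⟩⟩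
  exact ⟨ψ, inj_of_card _ (by rw [hr, H42.card_sup_zpowers q.nS (gg ▸ one_mem S) q.gS, q.cardS, N62]; rfl), hr,
    e0, e1, e2, e3, e4, e5, e6, e7, e8, h2⟩

variable {ψ : PM (D62 m) →* G}

theorem Em62.memS (q : Q62 F O K T C0 P S t z a a' f x w u ρ g m) (E : Em62 ψ S t z a a' f x w u g) :
    y ∈ S ↔ ∃ v, v.v < 512 ∧ ψ v = y := by
  rw [q.genS]
  refine ⟨of_cl ψ [1, 16, 64, 256, 4, 32, 128, 8] (by simp [E.ez, E.ea, E.eA, E.ef, E.ex, E.ew, E.eu, E.et])
    ?_ ?_, ?_⟩
  · cases m <;> decide +kernel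
  · cases m <;> decide +kernel
  · rintro ⟨v, hv, rfl⟩
    have c : ∀ y ∈ ({z, a, a', t, f, x, w, u} : Set G), y ∈ closure ({z, a, a', t, f, x, w, u} : Set G) :=
      fun y hy => subset_closure hy
    refine map_in ψ v (N62 m) fun i hi => ?_
    interval_cases i <;> simp only [Nat.reducePow, E.ez, E.eb, E.ef, E.eu, E.ea, E.ex, E.eA, E.ew, E.et]
    exacts [.inr (c z (by simp)), .inr (bmem (c x (by simp)) (c a' (by simp))), .inr (c f (by simp)),
      .inr (c u (by simp)), .inr (c a (by simp)), .inr (c x (by simp)), .inr (c a' (by simp)), .inr (c w (by simp)),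
      .inr (c t (by simp)), .inl (by omega)]

theorem Em62.memR (E : Em62 ψ S t z a a' f x w u g) : y ∈ R60 z a a' f x w u ↔ ∃ v, v.v < 256 ∧ ψ v = y := by
  refine ⟨of_cl ψ [1, 16, 64, 4, 32, 128, 8] (by simp [E.ez, E.ea, E.eA, E.ef, E.ex, E.ew, E.eu]) ?_ ?_, ?_⟩
  · cases m <;> decide +kernel
  · cases m <;> decide +kernel
  · rintro ⟨v, hv, rfl⟩
    have c : ∀ y ∈ ({z, a, a', f, x, w, u} : Set G), y ∈ R60 z a a' f x w u := fun y hy => subset_closure hy
    refine map_in ψ v (N62 m) fun i hi => ?_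
    interval_cases i <;> simp only [Nat.reducePow, E.ez, E.eb, E.ef, E.eu, E.ea, E.ex, E.eA, E.ew]
    exacts [.inr (c z (by simp)), .inr (bmem (c x (by simp)) (c a' (by simp))), .inr (c f (by simp)),
      .inr (c u (by simp)), .inr (c a (by simp)), .inr (c x (by simp)), .inr (c a' (by simp)), .inr (c w (by simp)),
      .inl (by omega), .inl (by omega)]

theorem Em62.memK (E : Em62 ψ S t z a a' f x w u g) : y ∈ K60 z a' f x u ↔ ∃ v, v.v < 16 ∧ ψ v = y := by
  refine ⟨of_cl ψ [1, 2, 4, 8] (by simp [E.ez, E.eb, E.ef, E.eu]) ?_ ?_, ?_⟩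
  · cases m <;> decide +kernel
  · cases m <;> decide +kernel
  · rintro ⟨v, hv, rfl⟩
    have c : ∀ y ∈ ({z, x * (a' * x * a'), f, u} : Set G), y ∈ K60 z a' f x u := fun y hy => subset_closure hy
    refine map_in ψ v (N62 m) fun i hi => ?_
    interval_cases i <;> simp only [Nat.reducePow, E.ez, E.eb, E.ef, E.eu]
    exacts [.inr (c z (by simp)), .inr (c _ (by simp)), .inr (c f (by simp)), .inr (c u (by simp)), .inl (by omega),
      .inl (by omega), .inl (by omega), .inl (by omega), .inl (by omega), .inl (by omega)]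

theorem Em62.memT (E : Em62 ψ S t z a a' f x w u g) :
    y ∈ TT t a a' f ↔ ∃ v, Nat.land v.v 682 = 0 ∧ ψ v = y := by
  refine ⟨of_cl ψ [16, 64, 256, 4] (by simp [E.ea, E.eA, E.ef, E.et]) ?_ ?_, ?_⟩
  · cases m <;> decide +kernel
  · cases m <;> decide +kernel
  · rintro ⟨v, hv, rfl⟩
    have c : ∀ y ∈ ({a, a', t, f} : Set G), y ∈ TT t a a' f := fun y hy => subset_closure hy
    obtain ⟨b1, b3, b5, b7, b9⟩ := (bit6 v.v (N62 m ▸ v.lt : v.v < 2 ^ 10)).2 hv
    refine map_in ψ v (N62 m) fun i hi => ?_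
    interval_cases i
    · rw [pow_zero, w62 m, map_mul, map_mul, map_mul, E.ea, E.eA]
      exact .inr (mul_mem (mul_mem (mul_mem (c a (by simp)) (c a' (by simp))) (c a (by simp))) (c a' (by simp)))
    all_goals simp only [Nat.reducePow, E.ef, E.ea, E.eA, E.et]
    exacts [.inl b1, .inr (c f (by simp)), .inl b3, .inr (c a (by simp)), .inl b5, .inr (c a' (by simp)), .inl b7,
      .inr (c t (by simp)), .inl b9]

end Cfsg.Agent.DIH
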