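import Cfsg.Agent.DIH.Defs
import Cfsg.Agent.DIH.D61
import Cfsg.Agent.DIH.BasB
import Cfsg.Agent.DIH.B66m

set_option autoImplicit false

namespace Cfsg.Agent.DIH

open Subgroup H49
open H42 (SylIn)

variable {G : Type*} [Group G] [Finite G] {F O K T C0 P P1 P2 S : Subgroup G}
  {t z a a' a1 a2 f : G}

open PM

variable {ρ x c d e κ σ δ y : G} {i p q : Bool}

namespace B61m

open H63 (nf map_nf nf_succ nf_zero)
open H80M (lhs nf_lt)
open B44m B66m

/-- the table of the presentation of `P` -/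
def tb1 (i j : ℕ) : ℕ :=
  (([[0], [1, 0], [1, 2, 0], [1, 2, 4, 1], [1, 2, 4, 8, 2], [1, 2, 4, 8, 16, 4], [1, 2, 4, 9, 18, 36, 0],
    [1, 3, 4, 8, 26, 32, 64, 0]] : List (List ℕ)).getD i []).getD j 0

theorem tw1 : ∀ i < 8, ∀ j ≤ i, D61.tw i j = tb1 i j := by decide +kernel
theorem N1 : D61.N = 8 := by decide +kernel
theorem N3 : ∀ i, (D63 i).N = 10 := by decide +kernel
theorem tw3 : ∀ i, ∀ k < 8, ∀ j ≤ k, (D63 i).tw k j = D61.tw k j := by decide +kernel
theorem tw3d : ∀ i, ∀ j < 9, (D63 i).tw 8 j = [1, 2, 5, 9, 19, 40, 72, 128, 0].getD j 0 := by decide +kernel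
theorem tw3e : ∀ i, ∀ j < 10, (D63 i).tw 9 j =
    [1, 2, 6, 11, 18, 50, 82, cond i 390 384, cond i 259 256, 0].getD j 0 := by decide +kernel

omit [Finite G] in
theorem nf10 (s : ℕ → G) (E : ℕ) : nf 2 10 s E = s 9 ^ (E / 512 % 2) * s 8 ^ (E / 256 % 2) * s 7 ^ (E / 128 % 2) *
    s 6 ^ (E / 64 % 2) * s 5 ^ (E / 32 % 2) * s 4 ^ (E / 16 % 2) * s 3 ^ (E / 8 % 2) * s 2 ^ (E / 4 % 2) *
      s 1 ^ (E / 2 % 2) * s 0 ^ (E % 2) := by
  simp only [nf_succ, nf_zero, Nat.div_div_eq_div_mul, one_mul]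

omit [Finite G] in
theorem rel1 (h : CB F O K T C0 t z a a' f) (l : L6 P t z a a' f ρ x c false true true false) :
    H80M.Rel 8 D61.tw (gs [z, a, f, x * (a' * x * a'), x, c, t, a']) 8 := by
  have r := BM.rel_of (e := false) h.toCW h.f2
  have fz : f * z = z * f := (BM.comm_z r.toD8 r.fa1 r.fa2).eq
  have tz : t * z = z * t := (BM.comm_z r.toD8 r.ta1 r.ta2).eq
  have xx : x * x = a := l.xx.trans (one_mul _)
  have cc : c * c = f := l.cc
  have xx' : Commute x (a' * x * a') := l.xx'.trans (mul_one _)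
  have bx : Commute (x * (a' * x * a')) x := (Commute.refl x).mul_left xx'.symm
  have ab : Commute (x * (a' * x * a')) a := xx ▸ bx.mul_right bx
  obtain ⟨bf, bz, -, bA, e1, e2, e3⟩ := lin r.toD8 r.fa2 r.ta2 l.toLin ab
  have bb : x * (a' * x * a') * (x * (a' * x * a')) = z := by
    rw [sqb r.s2 xx', xx]
    nth_rewrite 1 [← iv r.s2]
    rw [e1, ← mul_assoc, r.s1, one_mul]
  have e4 : a'⁻¹ * x * a' = x * (x * (a' * x * a')) * a := by
    rw [mul_assoc x, ab.eq, ← mul_assoc x, l.xa, mul_assoc a, ← mul_assoc x, xx, ← mul_assoc, r.s1, one_mul,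
      iv r.s2]
  have cA : Commute c a' := by
    have := l.ac
    rw [pw, cond_false, mul_one] at this
    calc c * a' = a' * c * (a' * a') := by rw [← mul_assoc, this]
      _ = _ := by rw [r.s2, mul_one]
  have cx : Commute c x := l.cx
  have cf : Commute c f := l.cf
  have cb : Commute c (x * (a' * x * a')) := cx.mul_right ((cA.mul_right cx).mul_right cA)
  have e8 : t⁻¹ * c * t = c * f := by
    rw [mul_assoc, mul_inv_eq_iff_eq_mul.1 l.ct, cf.eq]; group
  have xf := l.xf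
  have xz := l.xz
  have xa := l.xa
  have cz := l.cz
  have ca := l.ca
  generalize x * (a' * x * a') = b at *
  intro i hi j hj
  rw [tw1 i hi j hj, nf8]
  interval_cases i <;> interval_cases j <;>
    simp only [lhs, gs, tb1, List.getD_cons_zero, List.getD_cons_succ, Nat.reduceDiv, Nat.reduceMod, pow_zero,
      pow_one, one_mul, mul_one, if_true, Nat.reduceEqDiff, if_false]
  exacts [r.z2, cj r.c1, r.s1, cj' fz, cj' r.fa1.eq, h.f2, cj' bz.eq, cj' ab.eq, cj' bf.eq, bb, cj' xz, cj' xa,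
    cj' xf, cj bx.eq, xx, cj' cz, cj' ca, cj' cf.eq, cj' cb.eq, cj' cx.eq, cc, cj' tz, cj' r.ta1.eq, cj' r.tf.eq,
    e3, e2, e8, r.t2, cj r.c2, e1, cj r.fa2.eq, cj bA.eq, e4, cj cA.eq, cj r.ta2.eq, r.s2]

omit [Finite G] in
/-- the relations of a smaller model hold for the first generators -/
theorem rel_ext {D D' : PD} [D.OK] (φ : PM D →* G) (u : ℕ → G) (hN : D.N ≤ D'.N)
    (htw : ∀ i < D.N, ∀ j ≤ i, D'.tw i j = D.tw i j) (e1 : ∀ j < D.N, u j = φ (el D (2 ^ j))) {k : ℕ}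
    (h1 : k < D.N) {j : ℕ} (hj : j ≤ k) : lhs u k j = nf 2 D'.N u (D'.tw k j) := by
  have e3 : ∀ a < 2 ^ D.N, nf 2 D'.N u a = φ (el D a) := fun a ha => by
    rw [map_eq_nf, show (el D a).v = a from Nat.mod_eq_of_lt ha, nf_mono hN ha]
    exact nf_lt _ ha e1
  have q := (PD.ok_lt k h1 j hj).trans (Nat.pow_lt_pow_right one_lt_two h1)
  rw [htw k h1 j hj, e3 _ q, map_eq_nf, show (el D (D.tw k j)).v = _ from Nat.mod_eq_of_lt q,
    ← rel_self.1.map φ k h1 j hj, lhs, lhs, e1 k h1, e1 j (hj.trans_lt h1)]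

theorem w1 : el D61 26 = el _ 128 * el _ 16 * el _ 128 ∧ el D61 1 = el _ 8 * el _ 8 ∧
    el D61 2 = el _ 16 * el _ 16 ∧ el D61 4 = el _ 32 * el _ 32 := by decide +kernel

theorem w3 : ∀ i, el (D63 i) 26 = el _ 128 * el _ 16 * el _ 128 ∧ el (D63 i) 1 = el _ 8 * el _ 8 ∧
    el (D63 i) 2 = el _ 16 * el _ 16 ∧ el (D63 i) 4 = el _ 32 * el _ 32 := by decide +kernel

theorem w2 : el D61 16 * (el _ 128 * el _ 16 * el _ 128) ^ 2 = el _ 16 * el _ 2 * el _ 1 ∧
    el D61 16 * el _ 2 * el _ 1 * (el _ 128 * el _ 16 * el _ 128 * el _ 16 ^ 2) = el _ 8 * el _ 1 ∧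
    el D61 8 * el _ 1 * (el _ 8 * el _ 1) = el _ 1 ∧
    el D61 16 * el _ 2 * el _ 1 * (el _ 16 * el _ 2 * el _ 1) = el _ 2 ∧
    el D61 32 * el _ 8 * (el _ 32 * el _ 8) = el _ 4 * el _ 1 ∧
    el D61 128 * el _ 16 * el _ 128 * (el _ 8)⁻¹ = el _ 16 * el _ 2 ∧
    el D61 16 * el _ 2 * el _ 2 = (el _ 16 * el _ 2)⁻¹ ∧ (el D61 16 * el _ 2)⁻¹ = el _ 16 ∧
    (el D61 8)⁻¹ * (el _ 2 * el _ 1) = (el _ 8 * el _ 2 * el _ 1)⁻¹ ∧
    el D61 8 * el _ 2 * el _ 1 * (el _ 8 * el _ 2 * el _ 1) = el _ 1 ∧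
    el D61 16 * el _ 2 * (el _ 16 * el _ 2) = el _ 2 ∧
    el D61 32 * el _ 16 * el _ 2 * (el _ 32 * el _ 16 * el _ 2) = el _ 4 * el _ 2 ∧
    el D61 2 * el _ 8 = el _ 8 * el _ 2 ∧ el D61 2 * el _ 64 = el _ 64 * el _ 2 := by decide +kernel

omit [Finite G] in
theorem sq {D : PD} [D.OK] {φ : PM D →* G} {u v : PM D} {g h : G} {K : Subgroup G} (e : u = v * v) (hu : φ u = g)
    (hv : φ v = h) (hK : h ∈ K) : g ∈ K := by
  rw [← hu, e, map_mul, hv]
  exact mul_mem hK hK

omit [Finite G] in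
theorem cj2 {g u v w : G} (h1 : g * u * g⁻¹ = v) (h2 : u * u = w) : g * w * g⁻¹ = v * v := by
  rw [← h1, ← h2]; group

omit [Finite G] in
theorem cjm {g u v u' v' : G} (h1 : g * u * g⁻¹ = v) (h2 : g * u' * g⁻¹ = v') : g * (u * u') * g⁻¹ = v * v' := by
  rw [← h1, ← h2]; group

omit [Finite G] in
theorem rel3 (h : Q63 F O K T C0 P S t z a a' f ρ x c d e κ i) {φ : PM D61 →* G} (E : Em61 φ P t z a a' f x c) :
    H80M.Rel 10 (D63 i).tw (gs [z, a, f, x * (a' * x * a'), x, c, t, a', d, e]) 10 := by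
  have l := h.l1
  have W := w2
  obtain ⟨-, v1, v2, v3⟩ := w1
  replace v1 := congrArg φ v1
  replace v2 := congrArg φ v2
  replace v3 := congrArg φ v3
  simp only [← E.inj.eq_iff, map_mul, map_inv, map_pow, E.ez, E.ea, E.ef, E.eb, E.ex, E.ec, E.et, E.eA]
    at W v1 v2 v3
  obtain ⟨k1, k2, k3, k4, k5, k6, k7, k7', k8, k9, k10, k11, ab, ta⟩ := W
  have di := iv h.dd
  have ei := iv h.ee
  -- the action of `d`
  have dx : d * x * d⁻¹ = x * a * z := h.dx.trans k1
  have db : d * (x * (a' * x * a')) * d⁻¹ = x * (a' * x * a') * z := (cjm dx h.dy).trans k2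
  have dz : d * z * d⁻¹ = z := (cj2 db v1.symm).trans k3
  have da : d * a * d⁻¹ = a := (cj2 dx v2.symm).trans k4
  have df : d * f * d⁻¹ = f * z := (cj2 h.dc v3.symm).trans k5
  -- the action of `ρ`
  have ρx : ρ * x * ρ⁻¹ = a' * x * a' := l.ρx.trans (mul_one _)
  have ρb : ρ * (x * (a' * x * a')) * ρ⁻¹ = x * a := (cjm ρx l.ρx').trans k6
  have ρc : ρ * c * ρ⁻¹ = c := by rw [← l.cρ, mul_inv_cancel_right]
  have m : ∀ y ∈ ({x, a' * x * a', c, t} : Set G), y ∈ Q6 t a' x c := fun y hy => subset_closure hy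
  have mx := m x (by simp)
  have my := m (a' * x * a') (by simp)
  have mc := m c (by simp)
  have mt := m t (by simp)
  have mb := mul_mem mx my
  have ma : a ∈ Q6 t a' x c := v2 ▸ mul_mem mx mx
  have mz : z ∈ Q6 t a' x c := v1 ▸ mul_mem mb mb
  have key : ∀ {g g' u v : G}, g ∈ Q6 t a' x c → g' ∈ Q6 t a' x c → d * g * d⁻¹ = g' → ρ * g * ρ⁻¹ = u →
      ρ * g' * ρ⁻¹ = v → a * u = u * a → e * u * e⁻¹ = v := by
    intro g g' u v hg hg' e1 e2 e3 e4
    have e5 : κ * d * κ⁻¹ * u * (κ * d * κ⁻¹)⁻¹ = v := by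
      rw [← e2, ← e3, ← h.κQ g hg, ← h.κQ g' hg', ← e1]; group
    rcases h.κd with e6 | e6 <;> rw [e6] at e5
    · exact e5
    · rw [← e5, mul_assoc e a, e4]; group
  have xa : Commute a x := l.xa.symm
  have et : e * t * e⁻¹ = t * (x * a) := key mt (mul_mem mt mb) h.dt l.ρt (cjm l.ρt ρb) ta
  have ec : e * c * e⁻¹ = c * (x * a) := key mc (mul_mem mc mb) h.dc ρc (cjm ρc ρb) l.ca.symm
  have ex : e * x * e⁻¹ = x * a := by
    have := key mb (mul_mem mb mz) db ρb (cjm ρb l.ρz) (xa.mul_right (Commute.refl a)).eq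
    rw [k7] at this
    calc e * x * e⁻¹ = e * (x * a)⁻¹ * e⁻¹ := by rw [k7']
      _ = (e * (x * a) * e⁻¹)⁻¹ := by group
      _ = _ := by rw [this, inv_inv]
  have eb : e * (x * (a' * x * a')) * e⁻¹ = x * (a' * x * a') * a * z := by
    have dy : d * (a' * x * a') * d⁻¹ = a' * x * a' * a := by rw [h.dy, pow_two, ← v2]
    have := key my (mul_mem my ma) dy l.ρx' (cjm l.ρx' l.ρa) (Commute.inv_right ab).eq
    rw [k8] at this
    rw [← inv_inv (x * (a' * x * a') * a * z), ← this]; group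
  have ez : e * z * e⁻¹ = z := (cj2 eb v1.symm).trans k9
  have ea : e * a * e⁻¹ = a := (cj2 ex v2.symm).trans k10
  rw [← mul_assoc] at et ec
  have ef : e * f * e⁻¹ = f * a := (cj2 ec v3.symm).trans k11
  have A2 : a' * a' = 1 := h.toCB.toCW.toB0.toHL.toD8.s2
  have eA : e * a' * e = d * a' * pw i (f * a) := by
    have e1 : e * pw i f * e⁻¹ = pw i (f * a) := by
      cases i
      exacts [by simp [pw], ef]
    calc e * a' * e = a' * a' * (e * a' * e) := by rw [A2, one_mul]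
      _ = a' * (a' * e * a') * e := by group
      _ = a' * d * (e * pw i f * e⁻¹) := by rw [h.Ae, ei]; group
      _ = _ := by rw [e1, h.dA]
  have ed := h.ed
  have dt := h.dt
  have dc := h.dc
  have dA : d * a' * d = a' := by rw [h.dA, mul_assoc, h.dd, mul_one]
  have dd := h.dd
  have ee := h.ee
  rw [di] at dx db dz da df dt dc
  rw [ei] at ex eb ez ea ef et ec
  intro k hk j hj
  by_cases h8 : k < 8
  · have := rel_ext (D' := D63 i) φ (gs [z, a, f, x * (a' * x * a'), x, c, t, a', d, e]) (by rw [N1, N3]; omega)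
      (by rw [N1]; exact tw3 i) (by
        rw [N1]
        intro j hj
        interval_cases j
        exacts [E.ez.symm, E.ea.symm, E.ef.symm, E.eb.symm, E.ex.symm, E.ec.symm, E.et.symm, E.eA.symm])
      (N1 ▸ h8) hj
    rwa [N3] at this
  clear key m mx my mc mt mb ma mz k1 k2 k3 k4 k5 k6 k7 k7' k8 k9 k10 k11 ρx ρb ρc E v1 v2 v3 ab h l
  generalize x * (a' * x * a') = b at *
  obtain rfl | rfl : k = 8 ∨ k = 9 := by omega
  · rw [tw3d i j (by omega), nf10]
    interval_cases j <;>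
      simp only [lhs, gs, List.getD_cons_zero, List.getD_cons_succ, Nat.reduceDiv, Nat.reduceMod, pow_zero,
        pow_one, one_mul, mul_one, if_true, Nat.reduceEqDiff, if_false, di]
    exacts [dz, da, df, db, dx, dc, dt, dA, dd]
  · rw [tw3e i j (by omega), nf10]
    cases i <;> simp only [pw, cond_true, cond_false, mul_one, ← mul_assoc] at eA ed <;> interval_cases j <;>
      simp only [lhs, gs, List.getD_cons_zero, List.getD_cons_succ, Nat.reduceDiv, Nat.reduceMod, pow_zero,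
        pow_one, one_mul, mul_one, if_true, Nat.reduceEqDiff, if_false, ei, cond_true, cond_false]
    exacts [ez, ea, ef, eb, ex, ec, et, eA, ed, ee, ez, ea, ef, eb, ex, ec, et, eA, ed, ee]

end B61m

open B44m B66m B61m

theorem L6.em61 (h : CB F O K T C0 t z a a' f) (l : L6 P t z a a' f ρ x c false true true false) :
    ∃ φ : PM D61 →* G, Em61 φ P t z a a' f x c := by
  have r : H80M.Rel D61.N D61.tw (gs [z, a, f, x * (a' * x * a'), x, c, t, a']) D61.N := N1 ▸ B61m.rel1 h l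
  have g : ∀ k < 8, hom r (el _ (2 ^ k)) = gs [z, a, f, x * (a' * x * a'), x, c, t, a'] k :=
    fun k hk => hom_gen r (N1 ▸ hk)
  have mm : ∀ k < 8, gs [z, a, f, x * (a' * x * a'), x, c, t, a'] k ∈ (hom r).range := fun k hk => ⟨_, g k hk⟩
  have hr : (hom r).range = P := by
    refine le_antisymm (range_le fun k hk => ?_) ?_
    · rw [N1] at hk
      rw [g k hk, l.gen]
      have m : ∀ y ∈ ({z, a, a', t, f, x, c} : Set G), y ∈ closure ({z, a, a', t, f, x, c} : Set G) :=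
        fun y hy => subset_closure hy
      interval_cases k
      exacts [m z (by simp), m a (by simp), m f (by simp), bmem (m x (by simp)) (m a' (by simp)), m x (by simp),
        m c (by simp), m t (by simp), m a' (by simp)]
    · rw [l.gen, closure_le]
      simp only [Set.insert_subset_iff, Set.singleton_subset_iff, SetLike.mem_coe]
      exact ⟨mm 0 (by omega), mm 1 (by omega), mm 7 (by omega), mm 6 (by omega), mm 2 (by omega), mm 4 (by omega),
        mm 5 (by omega)⟩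
  exact ⟨hom r, inj_of_card _ (by rw [hr, l.cardP, N1]; rfl), hr, g 0 (by omega), g 1 (by omega), g 2 (by omega),
    g 3 (by omega), g 4 (by omega), g 5 (by omega), g 6 (by omega), g 7 (by omega)⟩

variable {φ : PM D61 →* G}

theorem Em61.memH (E : Em61 φ P t z a a' f x c) : y ∈ HH z a f ↔ ∃ v, v.v < 8 ∧ φ v = y := by
  refine ⟨of_cl φ [1, 2, 4] (by simp [E.ez, E.ea, E.ef]) (by decide +kernel) (by decide +kernel), ?_⟩
  rintro ⟨v, hv, rfl⟩
  have m : ∀ y ∈ ({z, a, f} : Set G), y ∈ HH z a f := fun y hy => subset_closure hy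
  refine map_in φ v N1 fun i hi => ?_
  interval_cases i <;> simp only [Nat.reducePow, E.ez, E.ea, E.ef]
  exacts [.inr (m z (by simp)), .inr (m a (by simp)), .inr (m f (by simp)), .inl (by omega), .inl (by omega),
    .inl (by omega), .inl (by omega), .inl (by omega)]

theorem Em61.memR (E : Em61 φ P t z a a' f x c) : y ∈ R61 a' x c ↔ ∃ v, v.v < 64 ∧ φ v = y := by
  obtain ⟨w0, w1, w2, w3⟩ := B61m.w1
  refine ⟨of_cl φ [16, 26, 32] (by simp [E.ex, E.ec, E.eA, w0]) (by decide +kernel) (by decide +kernel), ?_⟩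
  rintro ⟨v, hv, rfl⟩
  have m : ∀ y ∈ ({x, a' * x * a', c} : Set G), y ∈ R61 a' x c := fun y hy => subset_closure hy
  have mx := m x (by simp)
  have mc := m c (by simp)
  have mb := mul_mem mx (m (a' * x * a') (by simp))
  refine map_in φ v N1 fun i hi => ?_
  interval_cases i <;> simp only [Nat.reducePow, E.ez, E.ea, E.ef, E.eb, E.ex, E.ec]
  exacts [.inr (sq w1 E.ez E.eb mb), .inr (sq w2 E.ea E.ex mx), .inr (sq w3 E.ef E.ec mc), .inr mb, .inr mx, .inr mc,
    .inl (by omega), .inl (by omega)]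

theorem Em61.memQ (E : Em61 φ P t z a a' f x c) : y ∈ Q6 t a' x c ↔ ∃ v, v.v < 128 ∧ φ v = y := by
  obtain ⟨w0, w1, w2, w3⟩ := B61m.w1
  refine ⟨of_cl φ [16, 26, 32, 64] (by simp [E.ex, E.ec, E.eA, E.et, w0]) (by decide +kernel) (by decide +kernel),
    ?_⟩
  rintro ⟨v, hv, rfl⟩
  have m : ∀ y ∈ ({x, a' * x * a', c, t} : Set G), y ∈ Q6 t a' x c := fun y hy => subset_closure hy
  have mx := m x (by simp)
  have mc := m c (by simp)
  have mb := mul_mem mx (m (a' * x * a') (by simp))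
  refine map_in φ v N1 fun i hi => ?_
  interval_cases i <;> simp only [Nat.reducePow, E.ez, E.ea, E.ef, E.eb, E.ex, E.ec, E.et]
  exacts [.inr (sq w1 E.ez E.eb mb), .inr (sq w2 E.ea E.ex mx), .inr (sq w3 E.ef E.ec mc), .inr mb, .inr mx, .inr mc,
    .inr (m t (by simp)), .inl (by omega)]

theorem Q63.em (h : Q63 F O K T C0 P S t z a a' f ρ x c d e κ i) :
    ∃ φ : PM (D63 i) →* G, Em63 φ S t z a a' f x c d e := by
  obtain ⟨φ, E⟩ := L6.em61 h.toCB h.l1
  obtain ⟨-, w1, w2, w3⟩ := B61m.w1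
  have r : H80M.Rel (D63 i).N (D63 i).tw (gs [z, a, f, x * (a' * x * a'), x, c, t, a', d, e]) (D63 i).N :=
    N3 i ▸ rel3 h E
  have g : ∀ k < 10, hom r (el _ (2 ^ k)) = gs [z, a, f, x * (a' * x * a'), x, c, t, a', d, e] k :=
    fun k hk => hom_gen r (N3 i ▸ hk)
  have mm : ∀ k < 10, gs [z, a, f, x * (a' * x * a'), x, c, t, a', d, e] k ∈ (hom r).range :=
    fun k hk => ⟨_, g k hk⟩
  have hr : (hom r).range = S := by
    refine le_antisymm (range_le fun k hk => ?_) ?_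
    · rw [N3] at hk
      rw [g k hk, h.genS]
      have m : ∀ y ∈ ({x, c, t, a', d, e} : Set G), y ∈ closure ({x, c, t, a', d, e} : Set G) :=
        fun y hy => subset_closure hy
      have mx := m x (by simp)
      have mc := m c (by simp)
      have mb := bmem mx (m a' (by simp))
      interval_cases k
      exacts [sq w1 E.ez E.eb mb, sq w2 E.ea E.ex mx, sq w3 E.ef E.ec mc, mb, mx, mc, m t (by simp), m a' (by simp),
        m d (by simp), m e (by simp)]
    · rw [h.genS, closure_le]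
      simp only [Set.insert_subset_iff, Set.singleton_subset_iff, SetLike.mem_coe]
      exact ⟨mm 4 (by omega), mm 5 (by omega), mm 6 (by omega), mm 7 (by omega), mm 8 (by omega), mm 9 (by omega)⟩
  exact ⟨hom r, inj_of_card _ (by rw [hr, h.cardS, N3]; rfl), hr, g 0 (by omega), g 1 (by omega), g 2 (by omega),
    g 3 (by omega), g 4 (by omega), g 5 (by omega), g 6 (by omega), g 7 (by omega), g 8 (by omega), g 9 (by omega)⟩

variable {ψ : PM (D63 i) →* G}

theorem Em63.memY (E : Em63 ψ S t z a a' f x c d e) : y ∈ Y61 a' f x ↔ ∃ v, v.v < 32 ∧ ψ v = y := by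
  obtain ⟨w0, w1, w2, -⟩ := B61m.w3 i
  refine ⟨of_cl ψ [16, 26, 4] (by simp [E.ex, E.ef, E.eA, w0]) ?_ ?_, ?_⟩
  · cases i <;> decide +kernel
  · cases i <;> decide +kernel
  rintro ⟨v, hv, rfl⟩
  have m : ∀ y ∈ ({x, a' * x * a', f} : Set G), y ∈ Y61 a' f x := fun y hy => subset_closure hy
  have mx := m x (by simp)
  have mb := mul_mem mx (m (a' * x * a') (by simp))
  refine map_in ψ v (N3 i) fun i hi => ?_
  interval_cases i <;> simp only [Nat.reducePow, E.ez, E.ea, E.ef, E.eb, E.ex]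
  exacts [.inr (sq w1 E.ez E.eb mb), .inr (sq w2 E.ea E.ex mx), .inr (m f (by simp)), .inr mb, .inr mx,
    .inl (by omega), .inl (by omega), .inl (by omega), .inl (by omega), .inl (by omega)]

theorem Em63.memR (E : Em63 ψ S t z a a' f x c d e) : y ∈ R61 a' x c ↔ ∃ v, v.v < 64 ∧ ψ v = y := by
  obtain ⟨w0, w1, w2, w3⟩ := B61m.w3 i
  refine ⟨of_cl ψ [16, 26, 32] (by simp [E.ex, E.ec, E.eA, w0]) ?_ ?_, ?_⟩
  · cases i <;> decide +kernel
  · cases i <;> decide +kernel
  rintro ⟨v, hv, rfl⟩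
  have m : ∀ y ∈ ({x, a' * x * a', c} : Set G), y ∈ R61 a' x c := fun y hy => subset_closure hy
  have mx := m x (by simp)
  have mc := m c (by simp)
  have mb := mul_mem mx (m (a' * x * a') (by simp))
  refine map_in ψ v (N3 i) fun i hi => ?_
  interval_cases i <;> simp only [Nat.reducePow, E.ez, E.ea, E.ef, E.eb, E.ex, E.ec]
  exacts [.inr (sq w1 E.ez E.eb mb), .inr (sq w2 E.ea E.ex mx), .inr (sq w3 E.ef E.ec mc), .inr mb, .inr mx, .inr mc,
    .inl (by omega), .inl (by omega), .inl (by omega), .inl (by omega)]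

theorem Em63.memQ (E : Em63 ψ S t z a a' f x c d e) : y ∈ Q6 t a' x c ↔ ∃ v, v.v < 128 ∧ ψ v = y := by
  obtain ⟨w0, w1, w2, w3⟩ := B61m.w3 i
  refine ⟨of_cl ψ [16, 26, 32, 64] (by simp [E.ex, E.ec, E.eA, E.et, w0]) ?_ ?_, ?_⟩
  · cases i <;> decide +kernel
  · cases i <;> decide +kernel
  rintro ⟨v, hv, rfl⟩
  have m : ∀ y ∈ ({x, a' * x * a', c, t} : Set G), y ∈ Q6 t a' x c := fun y hy => subset_closure hy
  have mx := m x (by simp)
  have mc := m c (by simp)
  have mb := mul_mem mx (m (a' * x * a') (by simp))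
  refine map_in ψ v (N3 i) fun i hi => ?_
  interval_cases i <;> simp only [Nat.reducePow, E.ez, E.ea, E.ef, E.eb, E.ex, E.ec, E.et]
  exacts [.inr (sq w1 E.ez E.eb mb), .inr (sq w2 E.ea E.ex mx), .inr (sq w3 E.ef E.ec mc), .inr mb, .inr mx, .inr mc,
    .inr (m t (by simp)), .inl (by omega), .inl (by omega), .inl (by omega)]

theorem Em63.memP (h : Q63 F O K T C0 P S t z a a' f ρ x c d e κ i) (E : Em63 ψ S t z a a' f x c d e) :
    y ∈ P ↔ ∃ v, v.v < 256 ∧ ψ v = y := by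
  rw [h.l1.gen]
  refine ⟨of_cl ψ [1, 2, 128, 64, 4, 16, 32] (by simp [E.ez, E.ea, E.eA, E.ef, E.ex, E.ec, E.et]) ?_ ?_, ?_⟩
  · cases i <;> decide +kernel
  · cases i <;> decide +kernel
  rintro ⟨v, hv, rfl⟩
  have m : ∀ y ∈ ({z, a, a', t, f, x, c} : Set G), y ∈ closure ({z, a, a', t, f, x, c} : Set G) :=
    fun y hy => subset_closure hy
  refine map_in ψ v (N3 i) fun i hi => ?_
  interval_cases i <;> simp only [Nat.reducePow, E.ez, E.ea, E.ef, E.eb, E.ex, E.ec, E.et, E.eA]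
  exacts [.inr (m z (by simp)), .inr (m a (by simp)), .inr (m f (by simp)),
    .inr (bmem (m x (by simp)) (m a' (by simp))), .inr (m x (by simp)), .inr (m c (by simp)), .inr (m t (by simp)),
    .inr (m a' (by simp)), .inl (by omega), .inl (by omega)]

end Cfsg.Agent.DIH
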