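import Cfsg.Agent.DIH.Defs
import Cfsg.Agent.DIH.B61m
import Cfsg.Agent.DIH.Bas3
import Cfsg.Agent.DIH.TyPair

set_option autoImplicit false
set_option linter.unusedSectionVars false

namespace Cfsg.Agent.DIH

open Subgroup H49
open H42 (SylIn)

variable {G : Type*} [Group G] [Finite G] {F O K T C0 P P1 P2 S : Subgroup G}
  {t z a a' a1 a2 f : G}

variable {ρ x c d e κ σ δ y : G} {i p q : Bool}

namespace B61k

open PM

theorem m1' : ∀ v : PM D61, v.v < 8 → ∀ w : PM D61, w.v < 128 → w * v = v * w := by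
  decide +kernel

theorem m2 : ∀ v : PM D61, v.v < 128 → el _ 64 * v = v * el _ 64 → el _ 16 * v = v * el _ 16 → v.v < 8 := by
  decide +kernel

theorem m3 : ∀ v : PM D61, v.v < 128 → (v.v < 64 ↔ v * v ≠ 1 ∨ v.v < 8) := by decide +kernel

theorem m4 : ∀ v : PM D61, v.v < 128 → ¬ v.v < 64 → (el _ 64 * v).v < 64 := by decide +kernel

theorem m5 : ∀ v : PM D61, v.v < 64 → ∀ w : PM D61, w.v < 64 → w * v = v * w := by decide +kernel

theorem m6 : ∀ v : PM D61, v.v < 8 → ∃ r : PM D61, r.v < 64 ∧ r * el _ 64 * r⁻¹ = el _ 64 * v := by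
  decide +kernel

theorem m7 : ∀ v : PM D61, v.v < 64 → v * v = 1 → v.v < 8 := by decide +kernel

theorem m8 : ∀ v : PM D61, v.v < 64 → v * v = el _ 1 →
    ∃ r : PM D61, r.v < 64 ∧ r * (el _ 64 * v) * r⁻¹ = el _ 64 * el _ 8 := by decide +kernel

theorem m9 : ∀ v : PM D61, v.v < 128 → el _ 64 * v = v * el _ 64 → v.v < 8 ∨ (el _ 64 * v).v < 8 := by
  decide +kernel

theorem m10 : ∀ g v : PM D61, v.v < 128 → (g * v * g⁻¹).v < 128 := by decide +kernel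

theorem m11 : ∀ u v : Fin 8, el D61 u * el D61 v = el D61 (u ^^^ v : Fin 8) := by decide +kernel

theorem m12 : ∀ v : PM D61, v.v < 8 → v * v = 1 := by decide +kernel

variable {φ : PM D61 →* G}

theorem t2 (E : Em61 φ P t z a a' f x c) : t * t = 1 := by
  rw [← E.et, ← map_mul, show el D61 64 * el D61 64 = 1 by decide +kernel, map_one]

theorem tQ : t ∈ Q6 t a' x c := subset_closure (by simp)

theorem xQ : x ∈ Q6 t a' x c := subset_closure (by simp)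

theorem RQ (E : Em61 φ P t z a a' f x c) : R61 a' x c ≤ Q6 t a' x c := fun y hy => by
  obtain ⟨v, h1, h2⟩ := E.memR.1 hy
  exact E.memQ.2 ⟨v, by omega, h2⟩

theorem HR (E : Em61 φ P t z a a' f x c) : HH z a f ≤ R61 a' x c := fun y hy => by
  obtain ⟨v, h1, h2⟩ := E.memH.1 hy
  exact E.memR.2 ⟨v, by omega, h2⟩

theorem H_iff (E : Em61 φ P t z a a' f x c) : y ∈ HH z a f ↔ y ∈ Q6 t a' x c ∧ y ∈ 𝒞(Q6 t a' x c) := by
  constructor
  · intro hy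
    refine ⟨RQ E (HR E hy), fun w hw => ?_⟩
    obtain ⟨v, h1, rfl⟩ := E.memH.1 hy
    obtain ⟨w, h2, rfl⟩ := E.memQ.1 hw
    rw [← map_mul, m1' v h1 w h2, map_mul]
  · rintro ⟨h1, h2⟩
    obtain ⟨v, h3, rfl⟩ := E.memQ.1 h1
    refine E.memH.2 ⟨v, m2 v h3 (E.inj ?_) (E.inj ?_), rfl⟩
    · rw [map_mul, map_mul, E.et]; exact h2 t tQ
    · rw [map_mul, map_mul, E.ex]; exact h2 x xQ

theorem nH (E : Em61 φ P t z a a' f x c) {n : G} (hn : n ∈ 𝒩(Q6 t a' x c)) (hy : y ∈ HH z a f) :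
    n * y * n⁻¹ ∈ HH z a f := by
  rw [H_iff E] at hy ⊢
  exact ⟨conj_mem_of_norm le_rfl hn hy.1, conj_mem_of_norm (norm_cent le_rfl) hn hy.2⟩

theorem R_iff (E : Em61 φ P t z a a' f x c) :
    y ∈ R61 a' x c ↔ y ∈ Q6 t a' x c ∧ (y * y ≠ 1 ∨ y ∈ HH z a f) := by
  have k : ∀ v : PM D61, v.v < 128 → (v.v < 64 ↔ φ v * φ v ≠ 1 ∨ φ v ∈ HH z a f) := fun v hv => by
    rw [m3 v hv, ← map_mul, ← map_one φ, E.inj.ne_iff, E.memH]
    exact or_congr Iff.rfl ⟨fun h => ⟨v, h, rfl⟩, fun ⟨w, h, e⟩ => E.inj e ▸ h⟩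
  constructor
  · intro hy
    obtain ⟨v, h1, rfl⟩ := E.memR.1 hy
    exact ⟨RQ E hy, (k v (by omega)).1 h1⟩
  · rintro ⟨h1, h2⟩
    obtain ⟨v, h3, rfl⟩ := E.memQ.1 h1
    exact E.memR.2 ⟨v, (k v h3).2 h2, rfl⟩

theorem nR (E : Em61 φ P t z a a' f x c) {n : G} (hn : n ∈ 𝒩(Q6 t a' x c)) (hy : y ∈ R61 a' x c) :
    n * y * n⁻¹ ∈ R61 a' x c := by
  rw [R_iff E] at hy ⊢
  refine ⟨conj_mem_of_norm le_rfl hn hy.1, hy.2.imp (fun h e => h ?_) (nH E hn)⟩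
  rwa [conj_mul, conj_eq_one_iff] at e

theorem tR (E : Em61 φ P t z a a' f x c) {n : G} (hn : n ∈ 𝒩(Q6 t a' x c)) :
    t * (n * t * n⁻¹) ∈ R61 a' x c := by
  obtain ⟨v, h1, h2⟩ := E.memQ.1 (conj_mem_of_norm le_rfl hn (tQ (t := t) (a' := a') (x := x) (c := c)))
  refine E.memR.2 ⟨_, m4 v h1 fun h3 => ?_, by rw [map_mul, E.et, h2]⟩
  have h4 := nR E (inv_mem hn) (E.memR.2 ⟨v, h3, h2⟩)
  rw [show n⁻¹ * (n * t * n⁻¹) * n⁻¹⁻¹ = t by group] at h4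
  obtain ⟨w, h5, h6⟩ := E.memR.1 h4
  rw [E.inj (h6.trans E.et.symm)] at h5
  exact absurd h5 (by decide +kernel)

theorem Rc (E : Em61 φ P t z a a' f x c) {u v : G} (hu : u ∈ R61 a' x c) (hv : v ∈ R61 a' x c) :
    u * v = v * u := by
  obtain ⟨u, h1, rfl⟩ := E.memR.1 hu
  obtain ⟨v, h2, rfl⟩ := E.memR.1 hv
  rw [← map_mul, m5 v h2 u h1, map_mul]

theorem sqm (E : Em61 φ P t z a a' f x c) {u v : G} (hu : u ∈ R61 a' x c) (hv : v ∈ R61 a' x c) :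
    u * v * (u * v) = u * u * (v * v) := by
  rw [mul_assoc, ← mul_assoc v u, ← Rc E hu hv]
  simp only [mul_assoc]

/-- the action on `H` and on the points -/
structure Ac (φ : PM D61 →* G) (Q : Subgroup G) (t n : G) (L : Fin 8 → Fin 8) (p : Fin 8) : Prop where
  nQ : n ∈ 𝒩(Q)
  lin : ∀ v : Fin 8, n * φ (el _ v) * n⁻¹ = φ (el _ (L v))
  pt : t * (n * t * n⁻¹) * (t * (n * t * n⁻¹)) = φ (el _ p)

theorem Ac.mul (E : Em61 φ P t z a a' f x c) {n m : G} {L L' : Fin 8 → Fin 8} {p p' : Fin 8}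
    (h : Ac φ (Q6 t a' x c) t n L p) (h' : Ac φ (Q6 t a' x c) t m L' p') :
    Ac φ (Q6 t a' x c) t (n * m) (fun v => L (L' v)) (p ^^^ L p') := by
  refine ⟨mul_mem h.nQ h'.nQ, fun v => by rw [← h.lin, ← h'.lin]; group, ?_⟩
  have e : t * (n * m * t * (n * m)⁻¹) = t * (n * t * n⁻¹) * (n * (t * (m * t * m⁻¹)) * n⁻¹) := by
    calc _ = t * (n * (t * t) * (m * t * m⁻¹) * n⁻¹) := by rw [t2 E]; group
      _ = _ := by group
  rw [e, sqm E (tR E h.nQ) (nR E h.nQ (tR E h'.nQ)), h.pt, conj_mul, h'.pt, h.lin, ← map_mul, m11]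

/-- the linear map with given values on a basis -/
def ln (u1 u2 u3 w : Fin 8) : Fin 8 :=
  (if w.1.testBit 0 then u1 else 0) ^^^ (if w.1.testBit 1 then u2 else 0) ^^^ if w.1.testBit 2 then u3 else 0

theorem ln_of {n : G} {b1 b2 b3 u1 u2 u3 : Fin 8} (h1 : n * φ (el _ b1) * n⁻¹ = φ (el _ u1))
    (h2 : n * φ (el _ b2) * n⁻¹ = φ (el _ u2)) (h3 : n * φ (el _ b3) * n⁻¹ = φ (el _ u3))
    {L : Fin 8 → Fin 8} (h : ∀ v, ∃ w, ln b1 b2 b3 w = v ∧ ln u1 u2 u3 w = L v) (v : Fin 8) :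
    n * φ (el _ v) * n⁻¹ = φ (el _ (L v)) := by
  obtain ⟨w, rfl, e⟩ := h v
  have k : ∀ (s : Bool) {b u : Fin 8}, n * φ (el _ b) * n⁻¹ = φ (el _ u) →
      n * φ (el _ (if s then b else 0 : Fin 8)) * n⁻¹ = φ (el _ (if s then u else 0 : Fin 8)) := by
    rintro (_ | _) b u h
    · have : el D61 (0 : Fin 8) = 1 := by decide +kernel
      simp only [Bool.false_eq_true, if_false, this, map_one, mul_one, mul_inv_cancel]
    · exact h
  rw [← e, ln, ln, ← m11, ← m11, ← m11, ← m11, map_mul, map_mul, map_mul, map_mul, ← conj_mul, ← conj_mul,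
    k _ h1, k _ h2, k _ h3]

theorem QP (E : Em61 φ P t z a a' f x c) : Q6 t a' x c ≤ P := fun y hy => by
  obtain ⟨v, -, rfl⟩ := E.memQ.1 hy
  exact E.range ▸ ⟨v, rfl⟩

theorem HA : HH z a f ≤ AA t z a f := closure_mono (by
  rintro _ (rfl | rfl | rfl) <;> simp)

theorem zH : z ∈ HH z a f := subset_closure (by simp)
theorem aH : a ∈ HH z a f := subset_closure (by simp)
theorem fH : f ∈ HH z a f := subset_closure (by simp)
theorem tA : t ∈ AA t z a f := subset_closure (by simp)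

theorem AQ (E : Em61 φ P t z a a' f x c) : AA t z a f ≤ Q6 t a' x c := by
  rw [AA, closure_le]
  rintro _ (rfl | rfl | rfl | rfl)
  exacts [RQ E (HR E zH), RQ E (HR E aH), tQ, RQ E (HR E fH)]

theorem norm_cl {s : Set G} {n : G} (h : ∀ y ∈ s, n * y * n⁻¹ ∈ closure s) : n ∈ 𝒩(closure s) :=
  mem_norm_of_cj_le (by rw [cj_def, map_le_iff_le_comap, closure_le]; exact h)

end B61k

open B61k PM

/-- the stabilizer in `N(Q₁)` of the point `t H₁` -/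
theorem Q61.ker (h : Q61 F O K T C0 P t z a a' f ρ x c) {n : G} (hn : n ∈ 𝒩(Q6 t a' x c))
    (ht : t * (n * t * n⁻¹) ∈ HH z a f) : n * f * n⁻¹ = f ∧ n ∈ 𝒩(closure {z, a}) ∧
      (n ∈ 𝒞(HH z a f) → ∃ r ∈ Q6 t a' x c, r⁻¹ * n ∈ 𝒞(Q6 t a' x c)) := by
  obtain ⟨φ, E⟩ := L6.em61 h.toCB h.l1
  obtain ⟨v, h1, h2⟩ := E.memH.1 ht
  obtain ⟨r, h3, h4⟩ := m6 v h1
  have h5 := congrArg φ h4
  simp only [map_mul, map_inv, E.et, h2] at h5
  rw [← mul_assoc t t, t2 E, one_mul] at h5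
  have rQ : φ r ∈ Q6 t a' x c := E.memQ.2 ⟨r, by omega, rfl⟩
  generalize φ r = r at h5 rQ
  have rH : ∀ y ∈ HH z a f, r * y = y * r := fun y hy => ((H_iff E).1 hy).2 r rQ
  have ct : r⁻¹ * n * t * (r⁻¹ * n)⁻¹ = t := by
    calc _ = r⁻¹ * (n * t * n⁻¹) * r := by group
      _ = t := by rw [← h5]; group
  have cQ : r⁻¹ * n ∈ 𝒩(Q6 t a' x c) := mul_mem (inv_mem (le_normalizer rQ)) hn
  have cC : r⁻¹ * n ∈ 𝒞[t] := mem_cent1.2 (mul_inv_eq_iff_eq_mul.1 ct)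
  have cA : r⁻¹ * n ∈ 𝒩(AA t z a f) := norm_cl (by
    rintro _ (rfl | rfl | rfl | rfl)
    exacts [HA (nH E cQ zH), HA (nH E cQ aH), ct.symm ▸ tA, HA (nH E cQ fH)])
  obtain ⟨h6, h7⟩ := h.l1.fix _ cC cA
  refine ⟨?_, ?_, fun hc => ?_⟩
  · calc _ = r * (r⁻¹ * n * f * (r⁻¹ * n)⁻¹) * r⁻¹ := by group
      _ = f := by rw [h6, rH f fH, mul_inv_cancel_right]
  · have : r ∈ 𝒩(closure {z, a}) := norm_cl (by
      rintro _ (rfl | rfl)
      · rw [rH _ zH, mul_inv_cancel_right]; exact subset_closure (by simp)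
      · rw [rH _ aH, mul_inv_cancel_right]; exact subset_closure (by simp))
    simpa using mul_mem this h7
  · have cH : r⁻¹ * n ∈ 𝒞(HH z a f) := mul_mem (inv_mem fun y hy => (rH y hy).symm) hc
    have cc : r⁻¹ * n ∈ 𝒞(AA t z a f) := by
      refine le_cent1_iff.1 ((closure_le _).2 ?_)
      rintro _ (rfl | rfl | rfl | rfl)
      exacts [mem_cent1.2 (cH _ zH), mem_cent1.2 (cH _ aH), mem_cent1_comm.1 cC, mem_cent1.2 (cH _ fH)]
    obtain ⟨e, he, o, ho, -, hodd, e1⟩ := h.l1.toSd.split h.toCB.tp_ab cc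
    have h8 : o ∈ 𝒞(Q6 t a' x c) := by
      refine odd_cent (h.l1.sylP.isP.to_le (QP E)) (AQ E) ((QP E).trans h.l1.sylP.le) ?_ hodd
        (zpowers_le.2 cc ho) (zpowers_le.2 cQ ho)
      rintro y ⟨h8, h9⟩
      obtain ⟨w, h10, rfl⟩ := E.memQ.1 h8
      rcases m9 w h10 (E.inj (by rw [map_mul, map_mul, E.et]; exact h9 t tA)) with h11 | h11
      · exact HA (E.memH.2 ⟨w, h11, rfl⟩)
      · have := HA (t := t) (E.memH.2 ⟨_, h11, rfl⟩)
        rwa [map_mul, E.et, mul_mem_cancel_left tA] at this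
    refine ⟨r * e, mul_mem rQ (AQ E he), ?_⟩
    rwa [mul_inv_rev, mul_assoc, e1, inv_mul_cancel_left]

theorem Q61.ρQ (h : Q61 F O K T C0 P t z a a' f ρ x c) : ρ ∈ 𝒩(Q6 t a' x c) ∧ P ≤ 𝒩(Q6 t a' x c) := by
  obtain ⟨φ, E⟩ := L6.em61 h.toCB h.l1
  have h1 : a' * x * a' ∈ Q6 t a' x c := subset_closure (by simp)
  have h2 : c ∈ Q6 t a' x c := subset_closure (by simp)
  refine ⟨norm_cl ?_, le_norm_iff.2 fun g hg y hy => ?_⟩
  · rintro _ (rfl | rfl | rfl | rfl)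
    · rw [h.l1.ρx]; exact mul_mem h1 (one_mem _)
    · rw [h.l1.ρx']; exact inv_mem (mul_mem xQ h1)
    · rw [← h.l1.cρ, mul_inv_cancel_right]; exact h2
    · rw [h.l1.ρt]; exact tQ
  · obtain ⟨g, rfl⟩ := E.range.ge hg
    obtain ⟨v, h3, rfl⟩ := E.memQ.1 hy
    exact E.memQ.2 ⟨_, m10 g v h3, by rw [map_mul, map_mul, map_inv]⟩

/-- 2-elements of `C(Q₁)` -/
theorem Q61.two (h : Q61 F O K T C0 P t z a a' f ρ x c) {X : Subgroup G} (hX : IsPGroup 2 X) (hy : y ∈ X)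
    (hc : y ∈ 𝒞(Q6 t a' x c)) : y ∈ HH z a f := by
  obtain ⟨φ, E⟩ := L6.em61 h.toCB h.l1
  exact (H_iff E).2 ⟨AQ E (h.l1.toSd.two h.toCB.tp_ab (cent_anti (AQ E) hc) hX hy), hc⟩

namespace B61k

variable {φ : PM D61 →* G}

theorem acρ (h : Q61 F O K T C0 P t z a a' f ρ x c) (E : Em61 φ P t z a a' f x c) :
    Ac φ (Q6 t a' x c) t ρ ![0, 2, 3, 1, 4, 6, 7, 5] 0 := by
  refine ⟨h.ρQ.1, ln_of (b1 := 1) (b2 := 2) (b3 := 4) (u1 := 2) (u2 := 3) (u3 := 4) ?_ ?_ ?_ (by decide), ?_⟩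
  · exact E.ez.symm ▸ E.ea.symm ▸ h.l1.ρz
  · have : φ (el _ (3 : Fin 8)) = a * z := by
      rw [← E.ea, ← E.ez, ← map_mul]; exact congrArg φ (by decide +kernel)
    exact this.symm ▸ E.ea.symm ▸ h.l1.ρa
  · exact E.ef.symm ▸ h.l1.ρf
  · rw [h.l1.ρt, t2 E, one_mul, show el D61 (0 : Fin 8) = 1 by decide +kernel, map_one]

theorem acσ (E : Em61 φ P t z a a' f x c) (s : Sg61 t z a a' f x c σ p q) {w : Fin 8}
    (hw : el D61 2 * pw p (el D61 1) * pw q (el D61 4) = el D61 w) {L : Fin 8 → Fin 8}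
    (hL : ∀ v, ∃ u, ln 1 w 5 u = v ∧ ln w (w ^^^ 1) 5 u = L v) :
    Ac φ (Q6 t a' x c) t σ L (1 ^^^ w) := by
  have h1 : φ (el _ w) = a * pw p z * pw q f := by
    rw [← hw, map_mul, map_mul, BM.pw_map, BM.pw_map, E.ea, E.ez, E.ef]
  have h2 : φ (el _ (5 : Fin 8)) = f * z := by
    rw [← E.ef, ← E.ez, ← map_mul]; exact congrArg φ (by decide +kernel)
  have hz : φ (el _ (1 : Fin 8)) = z := E.ez
  refine ⟨s.nQ, ln_of ?_ ?_ ?_ hL, ?_⟩
  · rw [hz, h1, s.σz]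
  · rw [← m11, map_mul, hz, h1, s.σa]
  · rw [h2, s.σf]
  · have bR : x * (a' * x * a') ∈ R61 a' x c := E.memR.2 ⟨_, by decide +kernel, E.eb⟩
    have bb : x * (a' * x * a') * (x * (a' * x * a')) = z := by
      rw [← E.eb, ← E.ez, ← map_mul]; exact congrArg φ (by decide +kernel)
    have zz : z⁻¹ = z := by
      rw [← E.ez, ← map_inv]; exact congrArg φ (by decide +kernel)
    have h3 := s.pt
    generalize x * (a' * x * a') = b at bR bb h3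
    obtain ⟨k, hk, e⟩ : ∃ k ∈ HH z a f, t * (σ * t * σ⁻¹) = b * k * (σ * b⁻¹ * σ⁻¹) := by
      refine ⟨_, h3, ?_⟩
      rw [mul_inv_rev, inv_eq_of_mul_eq_one_right (t2 E)]
      group
    have kk : k * k = 1 := by
      obtain ⟨v, h4, rfl⟩ := E.memH.1 hk
      rw [← map_mul, m12 v h4, map_one]
    rw [e, sqm E (mul_mem bR (HR E hk)) (nR E s.nQ (inv_mem bR)), sqm E bR (HR E hk), bb, kk, mul_one,
      conj_mul, ← mul_inv_rev, bb, zz, s.σz, ← m11, map_mul, hz, h1]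

theorem good (E : Em61 φ P t z a a' f x c) {n : G} {L : Fin 8 → Fin 8} {p : Fin 8}
    (h : Ac φ (Q6 t a' x c) t n L p) (h1 : L 1 = 1 ∧ L 2 = 2 ∧ L 4 = 5 ∧ p = 1) :
    ∃ δ, Dl61 t z a a' f x c δ := by
  obtain ⟨h1, h2, h3, rfl⟩ := h1
  obtain ⟨v, h4, h5⟩ := E.memR.1 (tR E h.nQ)
  obtain ⟨r, h6, h7⟩ := m8 v h4 (E.inj (by rw [map_mul, h5]; exact h.pt))
  have h8 := congrArg φ h7
  simp only [map_mul, map_inv, E.et, E.eb, h5] at h8
  rw [← mul_assoc t t, t2 E, one_mul] at h8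
  have rQ : φ r ∈ Q6 t a' x c := E.memQ.2 ⟨r, by omega, rfl⟩
  generalize φ r = r at h8 rQ
  have rH : ∀ y ∈ HH z a f, r * y * r⁻¹ = y := fun y hy => by
    rw [((H_iff E).1 hy).2 r rQ, mul_inv_cancel_right]
  have e1 := h.lin 1
  have e2 := h.lin 2
  have e3 := h.lin 4
  have h9 : φ (el _ (5 : Fin 8)) = f * z := by
    rw [← E.ef, ← E.ez, ← map_mul]; exact congrArg φ (by decide +kernel)
  rw [h1, show φ (el _ (1 : Fin 8)) = z from E.ez] at e1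
  rw [h2, show φ (el _ (2 : Fin 8)) = a from E.ea] at e2
  rw [h3, show φ (el _ (4 : Fin 8)) = f from E.ef, h9] at e3
  refine ⟨r * n, mul_mem (le_normalizer rQ) h.nQ, by rw [← h8]; group, ?_, ?_, ?_⟩
  · rw [← rH z zH]; conv_rhs => rw [← e1]
    rw [rH z zH]; group
  · rw [← rH a aH]; conv_rhs => rw [← e2]
    rw [rH a aH]; group
  · rw [← rH _ (mul_mem fH zH), ← e3]; group

theorem bad (h : Q61 F O K T C0 P t z a a' f ρ x c) (E : Em61 φ P t z a a' f x c) {n : G}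
    {L : Fin 8 → Fin 8} {p : Fin 8} (k : Ac φ (Q6 t a' x c) t n L p) (h1 : L 1 = 5 ∧ p = 0) : False := by
  obtain ⟨h1, rfl⟩ := h1
  obtain ⟨v, h4, h5⟩ := E.memR.1 (tR E k.nQ)
  have h6 := m7 v h4 (E.inj (by
    rw [map_mul, h5, k.pt, show el D61 (0 : Fin 8) = 1 by decide +kernel]))
  have h7 := conj_mem_of_norm le_rfl (h.ker k.nQ (E.memH.2 ⟨v, h6, h5⟩)).2.1
    (subset_closure (show z ∈ ({z, a} : Set G) by simp))
  have e1 := k.lin 1
  rw [h1, show φ (el _ (1 : Fin 8)) = z from E.ez] at e1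
  rw [e1] at h7
  have h8 : closure {z, a} ≤ (subQ (fun v : PM D61 => v.v < 4) (by decide +kernel) (by decide +kernel)).map φ := by
    rw [closure_le]
    rintro _ (rfl | rfl)
    exacts [⟨_, (by decide +kernel : (el D61 1).v < 4), E.ez⟩, ⟨_, (by decide +kernel : (el D61 2).v < 4), E.ea⟩]
  obtain ⟨w, h9, h10⟩ := h8 h7
  rw [E.inj h10] at h9
  exact absurd (show (el D61 (5 : Fin 8)).v < 4 from h9) (by decide +kernel)

end B61k

theorem b61k (h : Q61 F O K T C0 P t z a a' f ρ x c) (s : Sg61 t z a a' f x c σ p q) :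
    ∃ δ, Dl61 t z a a' f x c δ := by
  obtain ⟨φ, E⟩ := L6.em61 h.toCB h.l1
  have r := acρ h E
  cases p <;> cases q
  · have k := acσ E s (w := 2) (by decide +kernel) (L := ![0, 2, 3, 1, 7, 5, 4, 6]) (by decide)
    exact good E (Ac.mul E (Ac.mul E r k) r) (by decide)
  · have k := acσ E s (w := 6) (by decide +kernel) (L := ![0, 6, 4, 2, 3, 5, 7, 1]) (by decide)
    exact (bad h E (Ac.mul E (Ac.mul E (Ac.mul E k r) r) k) (by decide)).elim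
  · have k := acσ E s (w := 3) (by decide +kernel) (L := ![0, 3, 1, 2, 6, 5, 7, 4]) (by decide)
    exact good E (Ac.mul E (Ac.mul E (Ac.mul E r k) k) r) (by decide)
  · have k := acσ E s (w := 7) (by decide +kernel) (L := ![0, 7, 3, 4, 2, 5, 1, 6]) (by decide)
    exact (bad h E (Ac.mul E (Ac.mul E k r) k) (by decide)).elim

end Cfsg.Agent.DIH
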