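/-
Project DIH, branch (6,6), homocyclic case: finite facts on the models of order 1024.
-/
import Cfsg.Agent.DIH.D61

set_option autoImplicit false
set_option maxRecDepth 100000
set_option synthInstance.maxSize 4000

noncomputable section

namespace Cfsg.Agent.DIH.B61s

open Subgroup H49 PM

variable {i : Bool}

local notation "𝔻" => PM (D63 i)
local notation "ε" => el (D63 i)

/-- the solutions of `v ^ 2 = 1` -/
def mI : Bool → ℕ
  | false => nat_lit 0xf0000f000000000000000000ff0f00f00000000000000000000000000000000000f00f00000000000000000f00ff00f0000c33cc33c0000000000000000c3c300000ff00000000000000000f0f00f0f0000333300003333000000000000cc33ffffffffffffffff00000000000000ff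
  | true => nat_lit 0xf000000f0000000000000000f00f0ff000000000000000000000000000000000000f00f00000000000000000f00ff00f0000c33cc33c0000000000000000c3c300000ff00000000000000000f0f00f0f0000333300003333000000000000cc33ffffffffffffffff00000000000000ff

/-- the class of `t * A` -/
def mS : ℕ := nat_lit 0xc33c00000000000000000000000000000000000000000000000000000000000000003333000000000000000000000000000000000000000000000000

/-- the squares of the elements of order dividing four -/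
def mQ : Bool → ℕ
  | false => nat_lit 0xf0f00f0f00000000000000000000000000000000000000000000000000000000000000ff
  | true => nat_lit 0xf0f0000000000000000000000000000000000000000000000000000000000000000000ff

/-- a bit of a number -/
def bt (m k : ℕ) : Bool := Nat.beq (Nat.mod (Nat.shiftRight m k) (nat_lit 2)) (nat_lit 1)

/-- the two classes of conjugates of `t` -/
def CT (v : 𝔻) : Prop := v.v / 32 = 2 ∨ bt mS v.v = true

instance (v : 𝔻) : Decidable (CT v) := inferInstanceAs (Decidable (_ ∨ _))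

theorem inv_iff : ∀ v : 𝔻, v * v = 1 ↔ bt (mI i) v.v = true := by cases i <;> decide +kernel

theorem cnt_s : cnt (fun y : 𝔻 => bt (mI i) y.v = true ∧ y * ε 192 = ε 192 * y) ≤ 32 ∧
    cnt (fun y : 𝔻 => y * ε 192 = ε 192 * y) = 64 ∧ cnt (fun y : 𝔻 => y * ε 64 = ε 64 * y) = 32 := by
  cases i <;> decide +kernel

theorem cnt_v : ∀ v : 𝔻, bt (mI i) v.v = true → CT v ∨
    32 < cnt (fun y : 𝔻 => bt (mI i) y.v = true ∧ y * v = v * y) := by
  cases i <;> decide +kernel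

theorem cl_t : ∀ v : 𝔻, v.v / 32 = 2 → ∃ r : 𝔻, Nat.land r.v 199 = 0 ∧ r * ε 64 = v * r := by
  cases i <;> decide +kernel

theorem cl_s : ∀ v : 𝔻, bt mS v.v = true → ∃ r : 𝔻, Nat.land r.v 461 = 0 ∧ r * ε 192 = v * r := by
  cases i <;> decide +kernel

theorem b_gen : ∀ k ∈ [5, 6], bt (1 : 𝔻).v k = false ∧ ∀ j < (D63 i).N, ∀ a : 𝔻,
    bt (a * ε (2 ^ j)).v k = xor (bt a.v k) (bt (ε (2 ^ j)).v k) := by
  cases i <;> decide +kernel

theorem sq4 : ∀ u : 𝔻, bt (mI i) (u * u).v = true → bt (mQ i) (u * u).v = true ∧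
    ((u * u).v < 8 ∨ cnt (fun g : 𝔻 => bt (mQ i) g.v = true ∧ g * u = u * g) < 8) := by
  cases i <;> decide +kernel

theorem misc : (∀ v : 𝔻, CT v → bt v.v 6 = true) ∧ (∀ v : 𝔻, v * v = 1 → bt v.v 6 = false → bt v.v 5 = false) ∧
    (∀ v : 𝔻, v.v < 64 → bt v.v 5 = false → v.v < 32) ∧
    (∀ v : 𝔻, v * ε 2 = ε 2 * v → v * ε 4 = ε 4 * v → v * v = 1 ∨ v.v < 64) ∧
    (∀ v : 𝔻, v.v < 8 → v = ε (8 * v.v) * ε (8 * v.v) ∧ (ε (8 * v.v)).v < 64) ∧
    (∀ v : 𝔻, v.v < 64 → ε 64 * v * ε 64 = v⁻¹ ∧ v * v * (v * v) = 1 ∧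
      (v.v < 32 ∨ (v * v).v / 4 = 1)) ∧ (∀ v : 𝔻, v.v / 4 = 1 → cnt (fun g : 𝔻 => g * v = v * g) ≤ 256) ∧
    (∀ v : 𝔻, v.v < 256 → v * ε 4 = ε 4 * v) ∧ cnt (fun v : 𝔻 => v.v < 8) = 8 ∧
    (∀ v : 𝔻, v.v < 32 → ((ε 64 * v).v / 32 = 2)) := by
  cases i <;> decide +kernel

theorem ab : ∀ u : 𝔻, u.v < 64 → ∀ v : 𝔻, v.v < 64 → u * v = v * u := by cases i <;> decide +kernel

theorem nrm : ∀ j < (D63 i).N, ∀ v : 𝔻, v.v < 64 → (ε (2 ^ j) * v * (ε (2 ^ j))⁻¹).v < 64 ∧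
    (v.v < 32 → (ε (2 ^ j) * v * (ε (2 ^ j))⁻¹).v < 32) := by
  cases i <;> decide +kernel

theorem ty : ∀ v : 𝔻, CT v → v * ε 2 * v = (ε 2)⁻¹ → v * ε 4 * v = (ε 4)⁻¹ → ∀ r : 𝔻, r.v < 64 →
    CT (v * r) → r.v < 32 := by
  cases i <;> decide +kernel

theorem eqs : ε 192 = ε 64 * ε 128 ∧ ε 32 * ε 32 = ε 4 ∧ bt (ε 64).v 6 = true ∧ bt (ε 32).v 5 = true ∧
    (ε 2).v < 8 ∧ (ε 4).v < 8 ∧ (ε 32).v < 64 ∧ ¬ (ε 32).v < 32 ∧ (ε 16).v < 64 ∧
    (ε 128 * ε 16 * ε 128).v < 64 ∧ ε 16 * ε 16 ≠ 1 ∧ ε 32 * ε 32 ≠ 1 ∧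
    ε 128 * ε 16 * ε 128 * (ε 128 * ε 16 * ε 128) ≠ 1 ∧
    ∀ j < (D63 i).N, (j = 6 ∧ bt (ε (2 ^ j)).v 6 = true) ∨ (bt (ε (2 ^ j)).v 6 = false ∧
      (ε (2 ^ j) = ε 16 ∨ ε (2 ^ j) = ε 32 ∨ ε (2 ^ j) = ε 128 ∨ ε (2 ^ j) = ε 256 ∨ ε (2 ^ j) = ε 512 ∨
        ε (2 ^ j) = ε 16 * (ε 128 * ε 16 * ε 128) ∨ ε (2 ^ j) = ε 1 ∨ ε (2 ^ j) = ε 2 ∨ ε (2 ^ j) = ε 4)) := by
  cases i <;> decide +kernel

end Cfsg.Agent.DIH.B61s
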