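/-
Project DIH: branch (6,6), homocyclic case, finite checks for the counting transfer.
-/
import Cfsg.Agent.DIH.Defs
import Cfsg.Agent.DIH.M61

set_option autoImplicit false
set_option maxRecDepth 100000

namespace Cfsg.Agent.DIH

open PM
open H14 (force force_eq)

variable {i : Bool}

namespace B61u

local notation "𝐞" => el (D63 _)

/-- the codes of `S ∩ F` -/
abbrev inF (v : PM (D63 i)) : Prop := force v.v (fun n => Nat.beq (n / 32 % 2) (n / 64 % 2)) = true

/-- the codes of the subgroup `H` -/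
abbrev inH (v : PM (D63 i)) : Prop := force v.v (fun n => Nat.beq (n / 32 % 2) (n / 64 % 2) &&
  Nat.beq ((n / 4 + n / 32 + cond i (n / 256 + n / 512) 0) % 2) 0) = true

/-- the involutions of `f H` with class representative and conjugating element -/
def tb : Bool → List (ℕ × ℕ × ℕ)
  | false => [(4, 4, 0), (5, 4, 256), (6, 4, 512), (7, 4, 768), (96, 96, 0), (97, 96, 8), (98, 96, 16),
     (99, 96, 24), (104, 104, 0), (105, 104, 8), (106, 104, 16), (107, 104, 24), (112, 112, 0), (113, 112, 8),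
     (114, 112, 16), (115, 112, 24), (120, 112, 152), (121, 112, 144), (122, 112, 128), (123, 112, 136), (132, 132, 0),
     (133, 132, 2), (142, 132, 16), (143, 132, 18), (224, 224, 0), (225, 224, 2), (232, 224, 18), (233, 224, 16),
     (276, 276, 0), (277, 276, 4), (278, 276, 20), (279, 276, 16), (284, 276, 32), (285, 276, 36), (286, 276, 52),
     (287, 276, 48), (360, 356, 36), (361, 356, 32), (362, 358, 36), (363, 358, 32), (390, 132, 512), (391, 132, 514),
     (398, 132, 530), (399, 132, 528), (482, 224, 512), (483, 224, 514), (488, 224, 528), (489, 224, 530), (524, 524, 0),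
     (525, 524, 12), (526, 524, 4), (527, 524, 8), (540, 524, 36), (541, 524, 40), (542, 524, 32), (543, 524, 44),
     (624, 612, 32), (625, 613, 32), (626, 612, 36), (627, 613, 36), (780, 524, 128), (781, 524, 140), (782, 524, 136),
     (783, 524, 132), (788, 524, 160), (789, 524, 172), (790, 524, 168), (791, 524, 164), (888, 613, 164), (889, 612, 164),
     (890, 612, 160), (891, 613, 160)]
  | true => [(4, 4, 0), (5, 4, 256), (6, 4, 512), (7, 4, 768), (96, 96, 0), (97, 96, 8), (98, 96, 16),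
     (99, 96, 24), (104, 104, 0), (105, 104, 8), (106, 104, 16), (107, 104, 24), (112, 112, 0), (113, 112, 8),
     (114, 112, 16), (115, 112, 24), (120, 112, 152), (121, 112, 144), (122, 112, 128), (123, 112, 136), (132, 132, 0),
     (133, 132, 2), (142, 132, 16), (143, 132, 18), (224, 224, 0), (225, 224, 2), (232, 224, 18), (233, 224, 16),
     (256, 256, 0), (257, 256, 4), (258, 256, 20), (259, 256, 16), (264, 256, 32), (265, 256, 36), (266, 256, 52),
     (267, 256, 48), (356, 356, 0), (357, 356, 4), (358, 356, 516), (359, 356, 512), (384, 132, 512), (385, 132, 514),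
     (392, 132, 530), (393, 132, 528), (484, 224, 512), (485, 224, 514), (494, 224, 528), (495, 224, 530), (512, 512, 0),
     (513, 512, 12), (514, 512, 4), (515, 512, 8), (528, 512, 36), (529, 512, 40), (530, 512, 32), (531, 512, 44),
     (612, 612, 0), (613, 612, 260), (614, 612, 4), (615, 612, 256), (772, 512, 132), (773, 512, 136), (774, 512, 140),
     (775, 512, 128), (796, 512, 168), (797, 512, 164), (798, 512, 160), (799, 512, 172), (864, 612, 132), (865, 612, 384),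
     (866, 612, 388), (867, 612, 128)]

/-- class representative and conjugating element -/
def rg (i : Bool) (n : ℕ) : ℕ × ℕ := ((tb i).lookup n).getD (0, 0)

/-- the representatives which are conjugate to `f` -/
def ok (β γ : Bool) (r : ℕ) : Bool :=
  decide (r ∈ [4, 132]) || (β && decide (r ∈ [96, 104, 112, 224])) || (γ && decide (r ∈ [256, 276, 512, 524]))

/-- the class representatives -/
def reps : Bool → List ℕ
  | false => [4, 132, 96, 104, 112, 224, 276, 524, 356, 358, 612, 613]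
  | true => [4, 132, 96, 104, 112, 224, 256, 512, 356, 612]

theorem decF : ∀ i : Bool, ∀ n < 10, ∀ v : PM (D63 i),
    inF (v * 𝐞 (2 ^ n)) ↔ (inF v ↔ ¬ (n = 5 ∨ n = 6)) := by
  intro i; cases i <;> decide +kernel

/-- generators of `H` -/
def gens : Bool → List ℕ
  | false => [1, 2, 9, 18, 100, 128, 256, 512]
  | true => [1, 2, 9, 18, 100, 128, 261, 518]

theorem decG : ∀ i : Bool, ∀ v : PM (D63 i), inH v → (∀ g ∈ gens i, inH (v * 𝐞 g)) ∧
    (v = 1 ∨ ∃ g ∈ gens i, (v * 𝐞 g).v < v.v) := by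
  intro i; cases i <;> decide +kernel

theorem decH : ∀ i : Bool, inH (1 : PM (D63 i)) ∧ ¬ inH (𝐞 4 : PM (D63 i)) ∧
    cnt (fun v : PM (D63 i) => inH v) = 256 ∧ (∀ v : PM (D63 i), inH v → inH (𝐞 4 * v * (𝐞 4)⁻¹)) ∧
    inF (1 : PM (D63 i)) ∧ ∀ v : PM (D63 i), inH v → inF v := by
  intro i; cases i <;> decide +kernel

/-- `v` is conjugate to the element with code `r` -/
abbrev Cj (v : PM (D63 i)) (r : ℕ) : Prop := 𝐞 (rg i v.v).2 * 𝐞 r * (𝐞 (rg i v.v).2)⁻¹ = v

theorem dec2 : ∀ i : Bool, ∀ v : PM (D63 i), inH (𝐞 4 * v) → v * v = 1 →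
    (rg i v.v).1 ∈ reps i ∧ Cj v (rg i v.v).1 := by
  intro i; cases i <;> decide +kernel

theorem dec3 : ∀ i β γ : Bool,
    ¬ 8 ∣ cnt (fun v : PM (D63 i) => inH (𝐞 4 * v) ∧ v * v = 1 ∧ ok β γ (rg i v.v).1 = true) := by
  intro i; cases i <;> decide +kernel

theorem dec4 : ∀ i : Bool, (𝐞 26 : PM (D63 i)) = 𝐞 128 * 𝐞 16 * 𝐞 128 ∧ (𝐞 132 : PM (D63 i)) = 𝐞 4 * 𝐞 128 ∧
    (𝐞 96 : PM (D63 i)) = 𝐞 64 * 𝐞 32 ∧ (𝐞 224 : PM (D63 i)) = 𝐞 64 * 𝐞 32 * 𝐞 128 ∧
    (𝐞 104 : PM (D63 i)) = 𝐞 64 * 𝐞 32 * 𝐞 8 ∧ (𝐞 122 : PM (D63 i)) = 𝐞 64 * 𝐞 32 * 𝐞 26 ∧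
    (𝐞 105 : PM (D63 i)) = 𝐞 64 * 𝐞 32 * (𝐞 8)⁻¹ ∧
    Cj (𝐞 122 : PM (D63 i)) 112 ∧ Cj (𝐞 105 : PM (D63 i)) 104 := by
  intro i; cases i <;> decide +kernel

/-- the element `d q` -/
noncomputable def wd (i : Bool) (α β γ δ : ℕ) : PM (D63 i) :=
  𝐞 256 * (𝐞 64 ^ α * 𝐞 32 ^ β * 𝐞 16 ^ γ * 𝐞 26 ^ δ)

/-- its image under `κ` -/
noncomputable def we (i ε : Bool) (α β γ δ : ℕ) : PM (D63 i) :=
  𝐞 512 * pw ε (𝐞 2) * (𝐞 64 ^ α * 𝐞 32 ^ β * 𝐞 26 ^ γ * (𝐞 8)⁻¹ ^ δ)

theorem dec5 : ∀ ε : Bool,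
    (Cj (wd false 0 2 1 0) 276 ∧ Cj (we false ε 0 2 1 0) 524) ∧
    (Cj (wd false 1 1 1 1) 356 ∧ Cj (we false ε 1 1 1 1) 612) ∧
    (Cj (wd false 1 1 1 3) 358 ∧ Cj (we false ε 1 1 1 3) 613) ∧
    (Cj (wd true 0 0 0 0) 256 ∧ Cj (we true ε 0 0 0 0) 512) ∧
    (Cj (wd true 1 3 0 0) 356 ∧ Cj (we true ε 1 3 0 0) 612) := by
  decide +kernel

theorem dec6 : ∀ r ∈ [356, 358], cnt (fun g : PM (D63 false) => g * 𝐞 r = 𝐞 r * g) = 256 ∧
    ∀ g : PM (D63 false), g * 𝐞 r = 𝐞 r * g → inF g := by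
  decide +kernel

/-- the subgroup `H` of the model -/
noncomputable def Hm (i : Bool) : Subgroup (PM (D63 i)) :=
  sub inH (decH i).1 ((gens i).map (el (D63 i)))
    (fun g hg v hv => by
      obtain ⟨n, hn, rfl⟩ := List.mem_map.1 hg
      exact (decG i v hv).1 n hn)
    (fun v hv => by
      induction h : v.v using Nat.strong_induction_on generalizing v with
      | _ n ih =>
        rcases (decG i v hv).2 with rfl | ⟨g, hg, k⟩
        · exact one_mem _
        · have m : el (D63 i) g ∈ Subgroup.closure {g | g ∈ (gens i).map (el (D63 i))} :=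
            Subgroup.subset_closure (by exact List.mem_map.2 ⟨g, hg, rfl⟩)
          exact (mul_mem_cancel_right m).1 (ih _ (h ▸ k) _ ((decG i v hv).1 g hg) rfl))

theorem mem_Hm {v : PM (D63 i)} : v ∈ Hm i ↔ inH v := Iff.rfl

end B61u

end Cfsg.Agent.DIH
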