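/-
Project DIH, branch (6,6): finite facts on the model of order 1024 for the group of order 2048.
-/
import Cfsg.Agent.DIH.D60

set_option autoImplicit false
set_option maxRecDepth 100000
set_option synthInstance.maxSize 4000

noncomputable section

namespace Cfsg.Agent.DIH.B66k

open Subgroup H49 PM

local notation "𝔻" => PM (D62 false)
local notation "ε" => el (D62 false)

theorem nR : ∀ i < (D62 false).N, ∀ v : 𝔻, v.v < 256 → (ε (2 ^ i) * v * (ε (2 ^ i))⁻¹).v < 256 := by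
  decide +kernel
theorem gn : ∀ i < (D62 false).N, (ε (2 ^ i)).v < 256 ∨ ε (2 ^ i) = ε 256 ∨ ε (2 ^ i) = ε 512 := by
  decide +kernel
theorem cls : ∀ v : 𝔻, v * v = 1 → v.v < 256 ∨ (v * ε 512).v < 256 ∨
    ∃ r, r * ε 256 * r⁻¹ = v ∨ r * ε 768 * r⁻¹ = v := by decide +kernel
theorem clg : ∀ v : 𝔻, v * v = 1 → (v * ε 512).v < 256 → ∃ r, r * ε 512 * r⁻¹ = v := by decide +kernel
theorem cg : ∀ v : 𝔻, v * v = 1 → (v * ε 512).v < 256 → ∀ y : 𝔻, y.v < 256 → y * y = 1 → y * v = v * y →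
    y.v < 4 := by decide +kernel
theorem cK : ∀ v : 𝔻, v.v < 256 → ∀ n < 16, ε n * v = v * ε n := by decide +kernel
theorem cos : ∀ r : 𝔻, r.v < 256 → ∀ y : 𝔻, y.v / 16 = 2 ∨ y.v / 16 = 8 ∨ y.v / 16 = 12 ∨ y.v / 16 = 3 →
    (r * y * r⁻¹).v / 16 = y.v / 16 := by decide +kernel
theorem eqs : ε 128 = ε 512 * ε 32 * (ε 512)⁻¹ ∧ ε 48 = ε 256 * ε 32 * (ε 256)⁻¹ ∧
    ε 192 = ε 256 * ε 128 * (ε 256)⁻¹ ∧ ε 768 = ε 512 * ε 256 ∧ ε 512 * ε 256 = ε 256 * ε 512 ∧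
    ε 512 * ε 512 = 1 ∧ ε 256 * ε 256 = 1 ∧ ¬ (ε 512).v < 256 ∧ ε 4 ≠ ε 6 ∧ ε 4 ≠ ε 7 ∧ (ε 4).v < 16 := by
  decide +kernel
theorem mv : ∀ y : 𝔻, (y.v / 16 = 2 → (ε 512 * y * (ε 512)⁻¹).v / 16 = 8 ∧
    (ε 768 * y * (ε 768)⁻¹).v / 16 = 12 ∧ ((ε 32)⁻¹ * y).v < 16) ∧
    (y.v / 16 = 8 → (ε 768 * y * (ε 768)⁻¹).v / 16 = 3 ∧ ((ε 128)⁻¹ * y).v < 16) ∧
    (y.v / 16 = 12 → ∀ y' : 𝔻, y'.v / 16 = 3 → ((ε 48 * ε 192)⁻¹ * (y * y')).v < 16) ∧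
    (y = ε 6 ∨ y = ε 7 → ((ε 4)⁻¹ * y).v < 4 ∧ 2 ≤ ((ε 4)⁻¹ * y).v) ∧
    (y.v / 4 = 2 → ((ε 8)⁻¹ * y).v < 4 ∧ y.v < 16) := by decide +kernel
theorem bits : ∀ k : 𝔻, k.v < 16 → k * k = 1 ∧ k = pw (k.v.testBit 3) (ε 8) * pw (k.v.testBit 2) (ε 4) *
    (pw (k.v.testBit 1) (ε 2) * pw (k.v.testBit 0) (ε 1)) := by decide +kernel
theorem ivl : ∀ v : 𝔻, v.v < 256 → v * v = 1 → v.v < 16 ∨ (v.v / 16 = 2 ∨ v.v / 16 = 8) ∨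
    (v * ε 48 = ε 48 * v ∧ ∀ y : 𝔻, y.v / 16 = 12 → v * y ≠ y * v) ∨
    (v * ε 192 = ε 192 * v ∧ ∀ y : 𝔻, y.v / 16 = 3 → v * y ≠ y * v) := by decide +kernel
theorem two : ∀ v : 𝔻, v.v / 16 = 2 ∨ v.v / 16 = 8 → ∀ y : 𝔻, y.v / 16 = 2 ∨ y.v / 16 = 8 →
    v * y = y * v → (v * y).v < 16 := by decide +kernel

/-- the elements of `K₀` that are fixed -/
def Fx (k l n : ℕ) : Prop := pw ((ε n).v.testBit 3) (ε l) * pw ((ε n).v.testBit 2) (ε k) = 1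

instance (k l n : ℕ) : Decidable (Fx k l n) := inferInstanceAs (Decidable (_ = _))

theorem s1 : ∀ k < 4, 2 ≤ k → ∀ l < 4, (∃ i : Bool, ε l * pw i (ε k) = 1) ∨
    ∀ n < 16, Fx k l n → ∃ i j : Bool, ε n * (pw i (ε k) * pw j (ε l)) = 1 := by decide +kernel
/-- a relation among three elements modulo a fourth -/
def Cb (k n1 n2 n3 : ℕ) : Prop :=
  ∃ i1 i2 i3 j : Bool, (i1 || i2 || i3) = true ∧ pw i1 (ε n1) * pw i2 (ε n2) * pw i3 (ε n3) * pw j (ε k) = 1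

instance (k n1 n2 n3 : ℕ) : Decidable (Cb k n1 n2 n3) := inferInstanceAs (Decidable (∃ _, _))

theorem s2 : ∀ k < 4, 2 ≤ k → ∀ l < 4, ∀ n1 < 16, Fx k l n1 → ∀ n2 < 16, Fx k l n2 → ∀ n3 < 16, Fx k l n3 →
    Cb k n1 n2 n3 := by
  decide +kernel

/-- `z, b, c, d` generate a group of order at least 16 -/
def Ind (c d : 𝔻) : Prop := 4 ≤ c.v ∧ c * d = d * c ∧ ∃ s, s * c = c * s ∧ s * ε 1 = ε 1 * s ∧
  s * ε 2 = ε 2 * s ∧ s * d ≠ d * s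

instance (c d : 𝔻) : Decidable (Ind c d) := inferInstanceAs (Decidable (_ ∧ _))

theorem i1 : ∀ i j k l : Bool,
    Ind (ε 48 * ε 192 * (pw i (ε 4) * pw j (ε 8))) (ε 32 * (pw k (ε 4) * pw l (ε 8))) := by
  decide +kernel
theorem i2 : ∀ i i1 i2 i3 j : Bool, (i1 || i2 || i3) = true →
    Ind (ε 8 * pw i (ε 4)) (pw i1 (ε 32) * pw i2 (ε 128) * pw i3 (ε 48 * ε 192) * pw j (ε 4)) := by
  decide +kernel

end Cfsg.Agent.DIH.B66k
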