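/-
Project DIH: the branch (6,6).
-/
import Cfsg.Agent.DIH.Cmp
import Cfsg.Agent.DIH.B660
import Cfsg.Agent.DIH.B61a
import Cfsg.Agent.DIH.B61d
import Cfsg.Agent.DIH.B61e
import Cfsg.Agent.DIH.B61u

set_option autoImplicit false

namespace Cfsg.Agent.DIH

open Subgroup H49
open H42 (SylIn)

variable {G : Type*} [Group G] [Finite G] {F O K T C0 P P1 P2 S : Subgroup G}
  {t z a a' a1 a2 f : G}

theorem b66 {ρ1 ρ2 x1 x2 c1 c2 : G} {ε1 ε2 l1 l2 η1 η2 κ1 κ2 : Bool} (h : CB F O K T C0 t z a1 a2 f)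
    (s1 : L6 P1 t z a1 a2 f ρ1 x1 c1 ε1 l1 η1 κ1) (s2 : L6 P2 t z a2 a1 (f * z) ρ2 x2 c2 ε2 l2 η2 κ2)
    (sh : Share P1 P2 t z a1 a2 f) :
    t ∉ F ∧ ∃ (k : Type) (_ : Field k) (_ : Fintype k), Fintype.card k = 4 ∧ Nonempty (F ≃* PSp 2 k) := by
  obtain ⟨rfl, rfl, rfl, rfl, e1, e2, e3, ⟨i, j, hb⟩, i', j', hc⟩ := cmp66 h s1 s2 sh
  rw [e2] at s1
  rw [e1, e3] at s2
  cases l1 with
  | false =>
    obtain ⟨S, w, s, m, n, q⟩ := b66a h s1 s2 hb hc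
    exact b660 q
  | true =>
    obtain ⟨q, σ, p, r, k⟩ := b61a h s1 s2 hb hc
    obtain ⟨δ, k1⟩ := b61k q k
    obtain ⟨c, δ, q1, k2⟩ := b61d q k1
    obtain ⟨S, d, e, κ, i, q2⟩ := b61e q1 k2
    exact (b61u q2 (b61t q2)).elim

end Cfsg.Agent.DIH
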