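/-
Project DIH: interfaces of the branch (6,7).
-/
import Cfsg.Agent.DIH.Defs
import Cfsg.Agent.DIH.M6

set_option autoImplicit false

namespace Cfsg.Agent.DIH

open Subgroup H49 PM

variable {G : Type*} [Group G]

/-- side one and the element `d` of side two; `x' = a₂ x a₂`, `s = d x d` -/
structure Q67 (F O K T C0 P : Subgroup G) (t z a1 a2 f ρ x u d : G) (κ : Bool) : Prop
    extends CB F O K T C0 t z a1 a2 f where
  loc : L6 P t z a1 a2 f ρ x u true true false true
  TT0 : T = TT t a1 a2 f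
  dd : d * d = 1
  dz : d * z * d = f
  dA : d * a2 * d = a2
  dt : d * t * d = t * (a2 * (f * z))
  da : d * a1 * d = u * pw κ (z * f)
  db : d * (x * (a2 * x * a2) * u) * d = x * (a2 * x * a2) * u
  dF : d ∈ F
  two : IsPGroup 2 (P ⊔ zpowers d : Subgroup G)

/-- the model of `P₁` -/
structure Em6 (φ : PM D6 →* G) (P : Subgroup G) (t z a a' f x u : G) : Prop where
  inj : Function.Injective φ
  range : φ.range = P
  ez : φ (el D6 1) = z
  ef : φ (el D6 2) = f
  ea : φ (el D6 4) = a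
  eu : φ (el D6 8) = u
  ex : φ (el D6 16) = x
  ex' : φ (el D6 32) = a' * x * a'
  et : φ (el D6 64) = t
  eA : φ (el D6 128) = a'

/-- `U = E₁₆` -/
def U67 (z a f u : G) : Subgroup G := closure {z, f, a, u}

/-- `O₂` of the normalizer of `A₁` -/
def Q1 (t z a a' f x u : G) : Subgroup G := closure {z, f, a, u, x, a' * x * a', t}

/-- `C(U)` in `⟨P₁, d⟩`, of order 128 -/
def R7 (z a a' f x u d : G) : Subgroup G := closure {z, f, a, u, x, a' * x * a', d * x * d}

/-- an element of `C(U)` outside `R₇` -/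
structure E67 (P : Subgroup G) (z a a' f x u d r : G) : Prop where
  cU : r ∈ 𝒞(U67 z a f u)
  out : r ∉ R7 z a a' f x u d
  sq : r * r ∈ R7 z a a' f x u d
  nR : r ∈ 𝒩(R7 z a a' f x u d)
  comm : ∀ g ∈ P ⊔ zpowers d, g * r * g⁻¹ * r⁻¹ ∈ R7 z a a' f x u d
  two : IsPGroup 2 (P ⊔ zpowers d ⊔ zpowers r : Subgroup G)

/-- the relations of the last generator -/
structure Y67 (F : Subgroup G) (t z a a' f x x' u d s y : G) (κ : Bool) : Prop where
  xs : x * s * x⁻¹ * s⁻¹ = a * u * (z * f)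
  yF : y ∈ F
  yz : y * z = z * y
  yf : y * f = f * y
  ya : y * a = a * y
  yu : y * u = u * y
  yx : y⁻¹ * x * y = x * a
  yx' : y⁻¹ * x' * y = x' * u * f * z
  ys : y⁻¹ * s * y = s * u * pw κ f
  yy : y * y = u * cond κ f a
  Ay : a' * y * a' = y * s * x' * cond κ (u * f * z) a
  dy : d * y * d = cond κ (y * x' * x * u * f * z) y
  ty : t * y * t = y * x * u * cond κ z (a * f * z)

end Cfsg.Agent.DIH
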