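import Cfsg.Agent.DIH.Defs
import Cfsg.Agent.DIH.B77c
import Cfsg.Agent.HSS.Main

set_option autoImplicit false
set_option maxRecDepth 100000
set_option linter.unusedSectionVars false

namespace Cfsg.Agent.DIH

open Subgroup H49 PM
open H42 (SylIn)

variable {G : Type*} [Group G] [Finite G] {F O K T C0 P P1 P2 S : Subgroup G}
  {t z a a' a1 a2 f : G}

variable {ρ b d c w : G} {h i j : Bool}

/-- images of the generators in `T9` -/
def s77_im (A W : HSS.T9) (n : ℕ) : HSS.T9 :=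
  [⟨⟨false, true, false, false, false, false⟩, false, false, false⟩,
   ⟨⟨false, false, false, true, false, false⟩, false, false, false⟩,
   ⟨⟨false, false, false, false, false, false⟩, true, false, false⟩,
   ⟨⟨true, false, false, false, false, false⟩, false, false, false⟩,
   ⟨⟨true, false, false, false, false, true⟩, true, false, false⟩,
   ⟨⟨false, false, false, false, false, false⟩, false, false, true⟩,
   ⟨⟨false, false, false, true, false, false⟩, false, true, false⟩, A, W].getD n 1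

theorem s77_iso {D : PD} [D.OK] (hN : D.N = 9) (s : ℕ → HSS.T9) (r : H80M.Rel D.N D.tw s D.N)
    (hc : ∀ a : PM D, a * a = 1 → (∀ i < D.N, a * el D (2 ^ i) = el D (2 ^ i) * a) → a = 1 ∨ a = el D (2 ^ 0))
    (h0 : s 0 ≠ 1) : Nonempty (HSS.T9 ≃* PM D) := by
  have hi : Function.Injective (hom r) := inj_of_center _ fun a h1 h2 h3 =>
    (hc a h1 h2).resolve_right fun e => h0 (by rwa [e, hom_gen r (by omega)] at h3)
  exact ⟨(MulEquiv.ofBijective _ ((Nat.bijective_iff_injective_and_card _).2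
    ⟨hi, by rw [card_eq, hN, HSS.T9.card_eq]; rfl⟩)).symm⟩

theorem s77_c0 : ∀ a : PM E77H0, a * a = 1 → (∀ i < E77H0.N, a * el E77H0 (2 ^ i) = el E77H0 (2 ^ i) * a) →
    a = 1 ∨ a = el E77H0 (2 ^ 0) := by decide +kernel

theorem s77_c1 : ∀ a : PM E77H1, a * a = 1 → (∀ i < E77H1.N, a * el E77H1 (2 ^ i) = el E77H1 (2 ^ i) * a) →
    a = 1 ∨ a = el E77H1 (2 ^ 0) := by decide +kernel

theorem s77_iso0 : Nonempty (HSS.T9 ≃* PM E77H0) :=
  s77_iso rfl (s77_im ⟨⟨false, true, true, false, false, false⟩, true, true, false⟩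
    ⟨⟨true, false, true, true, true, false⟩, true, false, true⟩)
    (by unfold H80M.Rel; decide +kernel) s77_c0 (by decide +kernel)

theorem s77_iso1 : Nonempty (HSS.T9 ≃* PM E77H1) :=
  s77_iso rfl (s77_im ⟨⟨false, false, true, false, false, false⟩, true, true, false⟩
    ⟨⟨false, false, true, true, true, false⟩, true, false, true⟩)
    (by unfold H80M.Rel; decide +kernel) s77_c1 (by decide +kernel)

theorem s77_act {φ : PM D77 →* G} (e : Em77 φ P t z a1 a2 f b d c)
    (k : W77 P t z a1 a2 f b d c w true false false) :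
    ∀ j < 8, w⁻¹ * φ (el D77 (2 ^ j)) * w = φ (el D77 ([1, 3, 16, 8, 4, 43, 136, 73].getD j 0)) := by
  have mu : ∀ {x x' y y' : PM D77}, w * φ x * w⁻¹ = φ x' → w * φ y * w⁻¹ = φ y' →
      w * φ (x * y) * w⁻¹ = φ (x' * y') := fun h1 h2 => by rw [map_mul, map_mul, ← h1, ← h2, conj_mul]
  have H : ∀ {x y : PM D77} (x' y' : PM D77), w * φ x * w⁻¹ = φ y → x = x' ∧ y = y' →
      w⁻¹ * φ y' * w = φ x' := fun _ _ h1 h2 => by rw [← h2.1, ← h2.2, ← h1]; group
  have cf : w * φ (el D77 1) * w⁻¹ = φ (el D77 1) := by rw [e.ef, k.wf]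
  have cz : w * φ (el D77 2) * w⁻¹ = φ (el D77 2 * el D77 1) := by rw [map_mul, e.ez, e.ef, k.wz]
  have ca : w * φ (el D77 4) * w⁻¹ = φ (el D77 16) := by rw [e.ea, e.eb, k.wa]; exact mul_one _
  have cc : w * φ (el D77 8) * w⁻¹ = φ (el D77 8) := by rw [e.ec, k.wc]; exact mul_one _
  have cb : w * φ (el D77 16) * w⁻¹ = φ (el D77 4) := by rw [e.ea, e.eb, k.wb]
  have cd : w * φ (el D77 32) * w⁻¹ = φ (el D77 2 * el D77 32 * el D77 8) := by
    rw [map_mul, map_mul, e.ez, e.ed, e.ec, k.wd]; rfl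
  have ct : w * φ (el D77 64) * w⁻¹ = φ (el D77 128 * el D77 8) := by rw [map_mul, e.et, e.eA, e.ec, k.wt]
  have cA : w * φ (el D77 128) * w⁻¹ = φ (el D77 8 * el D77 64) := by
    rw [map_mul, e.et, e.eA, e.ec, k.wA]
    exact (mul_one _).trans (congrArg (· * t) (one_mul c))
  intro j hj
  interval_cases j
  · exact H _ _ cf (by decide +kernel)
  · exact H _ _ (mu cz cf) (by decide +kernel)
  · exact H _ _ cb (by decide +kernel)
  · exact H _ _ cc (by decide +kernel)
  · exact H _ _ ca (by decide +kernel)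
  · exact H _ _ (mu (mu (mu cd cc) cz) cf) (by decide +kernel)
  · exact H _ _ (mu cA cc) (by decide +kernel)
  · exact H _ _ (mu (mu ct cc) cf) (by decide +kernel)

theorem s77_gen (q : Q77 F O K T C0 P t z a1 a2 f ρ b d c) (ht : t ∈ F) {D : PD} [D.OK] (ψ : PM D →* G)
    (hf : ψ (el D (2 ^ 0)) = f) (ha : ψ (el D 4) = a1) (hs : ψ (el D 192) = a2 * t)
    (hc : ∀ a : PM D, a * a = 1 → (∀ i < D.N, a * el D (2 ^ i) = el D (2 ^ i) * a) → a = 1 ∨ a = el D (2 ^ 0))
    (f1 : f ≠ 1) (h64 : (cnt fun g => g * el D 192 = el D 192 * g) = 64) (h2 : el D 192 * el D 192 = 1)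
    (hcl : ∀ y : PM D, y * y = 1 → (cnt fun g => g * y = y * g) = 64 →
      ∃ g : PM D, g * el D 192 * g⁻¹ = y ∨ g * el D 4 * g⁻¹ = y)
    (iso : Nonempty (HSS.T9 ≃* PM D)) : Nat.card T = 64 ∧ Spor.IsoHS F := by
  have : Fact (Nat.Prime 2) := ⟨Nat.prime_two⟩
  have hi : Function.Injective ψ := inj_of_center _ fun a h1 h2 h3 =>
    (hc a h1 h2).resolve_right fun e => f1 (by rwa [e, hf] at h3)
  have hP : IsPGroup 2 ψ.range := IsPGroup.of_card (card_range hi)
  have c64 : Nat.card (ψ.range ⊓ 𝒞[a2 * t] : Subgroup G) = 64 := by rw [← hs, card_cent hi, h64]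
  have hT : Nat.card T = 64 := by
    obtain ⟨g, -, hg⟩ := q.toB0.emb q.st (hP.to_inf_left (K := 𝒞[a2 * t])) inf_le_right
    have := card_le_of_le hg
    rw [card_cj, c64] at this
    rcases q.toCW.cardT with e | e
    · rw [e, q.cardT0] at this; omega
    · exact e.1
  refine ⟨hT, ?_⟩
  have hS : SylIn 2 ψ.range ⊤ := q.toB0.syl_of' hP q.st ⟨_, hs⟩ (by rw [hT, c64]) fun x hx _ => by
    obtain ⟨α, hα⟩ := exists_aut hi hx
    obtain ⟨g, e | e⟩ := hcl (α (el D 192)) (by rw [← map_mul, h2, map_one]) (by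
      rw [← h64]
      exact (cnt_congr α.toEquiv fun g => by
        change _ ↔ α g * α _ = α _ * α g
        rw [← map_mul, ← map_mul, α.injective.eq_iff]).symm)
    · exact ⟨ψ g, ⟨g, rfl⟩, by rw [← hs, ← hα, ← e, map_mul, map_mul, map_inv]⟩
    · have k : IsConj t a1 := q.st.trans ((isConj_iff.2 ⟨x, by rw [← hs, ← hα]⟩ : IsConj (a2 * t) (ψ (α _))).trans
        (ha ▸ ψ.map_isConj (isConj_iff.2 ⟨g, e⟩ : IsConj (el D 4) _).symm))
      obtain ⟨u, k⟩ := isConj_iff.1 k
      exact absurd (k ▸ subset_closure (by simp)) (q.loc.noHH u)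
  have hF := q.toGH.top ht
  have sF := q.simp
  subst hF
  have : IsSimpleGroup G := topEquiv.symm.isSimpleGroup
  obtain ⟨e⟩ := iso
  obtain ⟨u⟩ := HSS.main (hP.toSylow (by have := hS.ndvd; rwa [relIndex_top_right] at this))
    (e.trans (MonoidHom.ofInjective hi))
  exact ⟨topEquiv.trans u⟩

theorem s77_l0 : ∀ y : PM E77H0, y * y = 1 → (cnt fun g => g * y = y * g) = 64 →
    ∃ g : PM E77H0, g * el E77H0 192 * g⁻¹ = y ∨ g * el E77H0 4 * g⁻¹ = y := by decide +kernel

theorem s77_l1 : ∀ y : PM E77H1, y * y = 1 → (cnt fun g => g * y = y * g) = 64 →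
    ∃ g : PM E77H1, g * el E77H1 192 * g⁻¹ = y ∨ g * el E77H1 4 * g⁻¹ = y := by decide +kernel

theorem b77s (q : Q77 F O K T C0 P t z a1 a2 f ρ b d c) (k : W77 P t z a1 a2 f b d c w true false false)
    (ht : t ∈ F) : Nat.card T = 64 ∧ Spor.IsoHS F := by
  obtain ⟨φ, e⟩ := L7.em q.toCB q.loc
  have f1 : f ≠ 1 := fun m => absurd (e.inj (e.ef.trans (m.trans (map_one φ).symm))) (by decide +kernel)
  have hs : φ (el D77 192) = a2 * t := by
    rw [(by decide +kernel : el D77 192 = el D77 128 * el D77 64), map_mul, e.eA, e.et]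
  have act := s77_act e k
  rcases k.sq e with ⟨-, -, -, m | m⟩ | ⟨-, -, n, -⟩ | ⟨-, n, -⟩ | ⟨n, -⟩ | ⟨n, -⟩ | ⟨n, -⟩
  · obtain ⟨ψ, h1, -⟩ := extend (D' := E77H0) φ rfl (by decide +kernel) w (fun j hj => (act j hj).trans
      (congrArg (fun n => φ (el D77 n)) ((by decide +kernel : ∀ j < 8,
        [1, 3, 16, 8, 4, 43, 136, 73].getD j 0 = E77H0.tw D77.N j) j hj)))
      (m.trans ((map_one φ).symm.trans (congrArg φ (by decide +kernel))))
    exact s77_gen q ht ψ ((h1 1 (by decide)).trans e.ef) ((h1 4 (by decide)).trans e.ea)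
      ((h1 192 (by decide)).trans hs) s77_c0 f1 (by decide +kernel) (by decide +kernel) s77_l0 s77_iso0
  · obtain ⟨ψ, h1, -⟩ := extend (D' := E77H1) φ rfl (by decide +kernel) w (fun j hj => (act j hj).trans
      (congrArg (fun n => φ (el D77 n)) ((by decide +kernel : ∀ j < 8,
        [1, 3, 16, 8, 4, 43, 136, 73].getD j 0 = E77H1.tw D77.N j) j hj)))
      (m.trans (e.ef.symm.trans (congrArg φ (by decide +kernel))))
    exact s77_gen q ht ψ ((h1 1 (by decide)).trans e.ef) ((h1 4 (by decide)).trans e.ea)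
      ((h1 192 (by decide)).trans hs) s77_c1 f1 (by decide +kernel) (by decide +kernel) s77_l1 s77_iso1
  all_goals cases n

end Cfsg.Agent.DIH
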