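import Cfsg.Agent.DIH.Defs
import Cfsg.Agent.S2064
import Cfsg.Agent.S2075

/-! Project DIH: three facts on known groups. -/

set_option autoImplicit false
set_option linter.unusedSectionVars false

namespace Cfsg.Agent.DIH

open Subgroup H49
open H42 (SylIn)

variable {G : Type*} [Group G] [Finite G] {F O K T C0 P P1 P2 S : Subgroup G}
  {t z a a' a1 a2 f : G}

theorem cnt33 {V : Type*} [AddCommGroup V] [Finite V] (f : AddMonoid.End V) {p : ℕ} [Fact p.Prime] (hf : f ^ p = 1)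
    {W : AddSubgroup V} (hW : ∀ w ∈ W, f w ∈ W) :
    Nat.card W ≡ Nat.card (W ⊓ AddMonoidHom.ker (f - 1) : AddSubgroup V) [MOD p] := by
  classical
  have := Fintype.ofFinite W
  let g : Function.End W := fun w => ⟨f w, hW w w.2⟩
  have hg : ∀ n (w : W), ((g ^ n) w : V) = (f ^ n) w := fun n => by
    induction n with
    | zero => intro w; rfl
    | succ n ih => intro w; rw [pow_succ, pow_succ]; exact ih (g w)
  have k := Equiv.Perm.card_fixedPoints_modEq (f := g) (p := p) (n := 1)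
    (funext fun w => Subtype.ext (by rw [pow_one, hg, hf]; rfl))
  rw [← Nat.card_eq_fintype_card, ← Nat.card_eq_fintype_card] at k
  refine k.trans (Eq.subst (motive := fun n => Nat.card g.fixedPoints ≡ n [MOD p]) (Nat.card_congr ?_) rfl)
  exact ⟨fun w => ⟨w.1.1, w.1.2, sub_eq_zero.2 (congrArg Subtype.val w.2)⟩,
    fun w => ⟨⟨w.1, w.2.1⟩, Subtype.ext (sub_eq_zero.1 w.2.2)⟩, fun _ => rfl, fun _ => rfl⟩

theorem no10_33 {V : Type*} [AddCommGroup V] (hV : Nat.card V = 32) (h2 : ∀ v : V, v + v = 0) (A : AddMonoid.End V)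
    (h10 : A ^ 10 = 1) : A ^ 2 = 1 ∨ A ^ 5 = 1 := by
  have : Finite V := Nat.finite_of_card_ne_zero (by omega)
  have : Fact (Nat.Prime 5) := ⟨by decide⟩
  by_contra! hn
  have top : ∀ f : AddMonoid.End V, f ≠ 1 → ∃ k < 5, Nat.card (AddMonoidHom.ker (f - 1)) = 2 ^ k := fun f hf => by
    obtain ⟨k, hk, e⟩ := (Nat.dvd_prime_pow Nat.prime_two (m := 5)).1
      (hV ▸ AddSubgroup.card_addSubgroup_dvd_card (AddMonoidHom.ker (f - 1)))
    refine ⟨k, lt_of_le_of_ne hk ?_, e⟩
    rintro rfl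
    have := AddSubgroup.eq_top_of_card_eq _ (e.trans hV.symm)
    exact hf (AddMonoidHom.ext fun v => sub_eq_zero.1 (this.ge (AddSubgroup.mem_top v)))
  have inv : ∀ m n, ∀ w ∈ AddMonoidHom.ker (A ^ m - 1), (A ^ n) w ∈ AddMonoidHom.ker (A ^ m - 1) := fun m n w hw => by
    refine sub_eq_zero.2 ?_
    have e : (A ^ m) w = w := sub_eq_zero.1 hw
    show (A ^ m * A ^ n) w = (A ^ n) w
    rw [(Commute.pow_pow_self A m n).eq]
    exact congrArg (A ^ n) e
  obtain ⟨k, hk, ek⟩ := top _ hn.1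
  obtain ⟨l, hl, el⟩ := top _ hn.2
  have c1 := cnt33 (A ^ 2) (p := 5) (by rw [← pow_mul, h10]) (W := ⊤) fun _ _ => trivial
  have c2 := cnt33 (A ^ 2) (p := 5) (by rw [← pow_mul, h10]) (inv 5 2)
  have c3 := cnt33 (A ^ 5) (p := 2) (by rw [← pow_mul, h10]) (inv 2 5)
  rw [top_inf_eq, AddSubgroup.card_top, hV, ek] at c1
  obtain rfl : k = 1 := by interval_cases k <;> first | rfl | exact absurd c1 (by decide)
  have d := AddSubgroup.card_dvd_of_le (inf_le_left (a := AddMonoidHom.ker (A ^ 2 - 1))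
    (b := AddMonoidHom.ker (A ^ 5 - 1)))
  rw [inf_comm, el] at c2
  rw [ek] at c3 d
  have r : (AddMonoidHom.range (A ^ 5 - 1 : AddMonoid.End V)) ≤ AddMonoidHom.ker (A ^ 5 - 1) := by
    rintro _ ⟨v, rfl⟩
    show (A ^ 5) ((A ^ 5) v - v) - ((A ^ 5) v - v) = 0
    have e : (A ^ 5) ((A ^ 5) v) = v := by
      show (A ^ 5 * A ^ 5) v = v
      rw [← pow_add, h10]; rfl
    rw [map_sub, e, ← neg_sub v, sub_neg_eq_add, h2]
  have r1 := AddSubgroup.card_le_of_le r
  have r2 : 2 ^ l * Nat.card (AddMonoidHom.range (A ^ 5 - 1 : AddMonoid.End V)) = 32 := by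
    have : ∀ f : V →+ V, Nat.card f.ker * Nat.card f.range = 32 := fun f => by
      rw [← AddSubgroup.index_ker, AddSubgroup.card_mul_index, hV]
    rw [← el]
    exact this _
  rw [el] at r1
  generalize Nat.card (AddMonoidHom.ker (A ^ 2 - 1) ⊓ AddMonoidHom.ker (A ^ 5 - 1) : AddSubgroup V) = n at c2 c3 d
  obtain rfl : n = 2 := ((Nat.dvd_prime Nat.prime_two).1 d).resolve_left (by rintro rfl; exact absurd c3 (by decide))
  interval_cases l <;> first | omega | exact absurd c2 (by decide)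

theorem l5_no10 (y : Matrix.ProjectiveSpecialLinearGroup (Fin 5) (ZMod 2)) : orderOf y ≠ 10 := by
  intro ho
  obtain ⟨A, rfl⟩ := QuotientGroup.mk_surjective y
  have cen : ∀ B : Matrix.SpecialLinearGroup (Fin 5) (ZMod 2),
      (B : Matrix.ProjectiveSpecialLinearGroup (Fin 5) (ZMod 2)) = 1 → B = 1 := fun B hB => by
    obtain ⟨r, hr, e⟩ := Matrix.SpecialLinearGroup.mem_center_iff.1 ((QuotientGroup.eq_one_iff B).1 hB)
    obtain rfl : r = 1 := (by decide : ∀ r : ZMod 2, r ^ 5 = 1 → r = 1) r hr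
    exact Subtype.ext (e.symm.trans (map_one _))
  let φ : Matrix (Fin 5) (Fin 5) (ZMod 2) →* AddMonoid.End (Fin 5 → ZMod 2) :=
    { toFun := fun M => (Matrix.toLin' M).toAddMonoidHom
      map_one' := by rw [Matrix.toLin'_one]; rfl
      map_mul' := fun M N => by rw [Matrix.toLin'_mul]; rfl }
  have inj : ∀ n, φ A ^ n = 1 → orderOf (A : Matrix.ProjectiveSpecialLinearGroup (Fin 5) (ZMod 2)) ∣ n := fun n e => by
    have : A ^ n = 1 := Subtype.ext (Matrix.toLin'.injective (LinearMap.toAddMonoidHom_injective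
      ((map_pow φ _ n).trans (e.trans φ.map_one.symm))))
    rw [orderOf_dvd_iff_pow_eq_one, ← QuotientGroup.mk_pow, this, QuotientGroup.mk_one]
  have h10 : A ^ 10 = 1 := cen _ (by rw [QuotientGroup.mk_pow, ← ho, pow_orderOf_eq_one])
  rcases no10_33 (by simp) (fun v => funext fun i => CharTwo.add_self_eq_zero (v i)) (φ A)
    (by rw [← map_pow, ← Matrix.SpecialLinearGroup.coe_pow, h10]; exact φ.map_one) with e | e <;>
    exact absurd (ho ▸ inj _ e) (by decide)

omit [Finite G] in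
theorem index_dvd_out33 (nF : F.Normal) (cF : 𝒞(F) = ⊥) {H : Type*} [Group H] (e : F ≃* H) :
    F.index ∣ Nat.card (Out H) := by
  have h : (Inn F).map (MulAut.congr e).toMonoidHom = Inn H := by
    apply le_antisymm
    · rintro _ ⟨_, ⟨g, rfl⟩, rfl⟩
      exact ⟨e g, by ext x; simp [MulAut.congr]⟩
    · rintro _ ⟨g, rfl⟩
      exact ⟨MulAut.conj (e.symm g), ⟨_, rfl⟩, by ext x; simp [MulAut.congr]⟩
  rw [← Nat.card_congr (QuotientGroup.congr _ _ (MulAut.congr e) h).toEquiv]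
  have k : ((QuotientGroup.mk' (Inn F)).comp (MulAut.conjNormal (H := F))).ker = F := by
    ext g
    rw [MonoidHom.mem_ker, MonoidHom.comp_apply, QuotientGroup.mk'_apply, QuotientGroup.eq_one_iff]
    refine ⟨fun ⟨x, hx⟩ => ?_, fun hg => ⟨⟨g, hg⟩, by ext; simp⟩⟩
    have : (x : G)⁻¹ * g ∈ 𝒞(F) := fun y hy => by
      have := congrArg (fun φ : MulAut F => (φ ⟨y, hy⟩ : G)) hx
      simp only [MulAut.conj_apply, coe_mul, coe_inv, MulAut.conjNormal_apply] at this
      calc _ = (x : G)⁻¹ * (x * y * (x : G)⁻¹) * g := by group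
        _ = _ := by rw [this]; group
    rw [cF, mem_bot, inv_mul_eq_one] at this
    exact this ▸ x.2
  conv_lhs => rw [← k, index_ker]
  exact card_subgroup_dvd_card _

theorem e_m24 (h : GH F t) (e : Spor.IsoM24 F) : t ∈ F := by
  have := index_dvd_out33 h.nF h.cF e.some
  rw [S2064.result, Nat.dvd_one, index_eq_one] at this
  exact this ▸ mem_top t

theorem e_he (nF : F.Normal) (cF : 𝒞(F) = ⊥) (ht : t ∉ F) (e : Spor.IsoHe F) : F ⊔ zpowers t = ⊤ := by
  have := index_dvd_out33 nF cF e.some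
  rw [S2075.result, Nat.dvd_prime Nat.prime_two, index_eq_one] at this
  have h2 := this.resolve_left fun k => ht (k ▸ mem_top t)
  refine eq_top_iff.2 fun g _ => ?_
  by_cases hg : g ∈ F
  · exact mem_sup_left hg
  · have := (mul_mem_iff_of_index_two h2 (a := g) (b := t⁻¹)).2 (by simp [hg, ht])
    simpa using mul_mem (mem_sup_left this : _ ∈ F ⊔ zpowers t) (mem_sup_right (mem_zpowers t))

end Cfsg.Agent.DIH
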