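import Cfsg.Agent.DIH.Defs
import Cfsg.Agent.H58.HeP

set_option autoImplicit false
set_option maxRecDepth 100000
set_option exponentiation.threshold 400000

namespace Cfsg.Agent.DIH

open Subgroup H49
open H42 (SylIn)

namespace EHe

open Cfsg.Agent.H58 Cfsg.Agent.H58.HeP

/-- a Sylow subgroup of order 25 given by two commuting generators -/
theorem conj_pq {G : Type*} [Group G] [Finite G] {p q : G} (hc : Commute p q) (p5 : p ^ 5 = 1)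
    (q5 : q ^ 5 = 1) (p1 : p ≠ 1) (hq : q ∉ zpowers p) (hG : ¬ 125 ∣ Nat.card G) {y : G} {n : ℕ}
    (h5 : y ^ 5 ^ n = 1) : ∃ (g : G) (i j : ℕ), i < 5 ∧ j < 5 ∧ g * y * g⁻¹ = p ^ i * q ^ j := by
  have : Fact (Nat.Prime 5) := ⟨by norm_num⟩
  let P : Subgroup G :=
    { carrier := {x | ∃ i j : ℕ, x = p ^ i * q ^ j}
      one_mem' := ⟨0, 0, by simp⟩
      mul_mem' := by
        rintro _ _ ⟨i, j, rfl⟩ ⟨k, l, rfl⟩
        refine ⟨i + k, j + l, ?_⟩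
        rw [pow_add, pow_add, mul_assoc, mul_assoc, ← mul_assoc (q ^ j), ← (hc.pow_pow k j).eq, mul_assoc]
      inv_mem' := by
        rintro _ ⟨i, j, rfl⟩
        refine ⟨4 * i, 4 * j, inv_eq_of_mul_eq_one_right ?_⟩
        rw [mul_assoc, ← mul_assoc (q ^ j), ← (hc.pow_pow (4 * i) j).eq, mul_assoc, ← pow_add, ← mul_assoc,
          ← pow_add, show i + 4 * i = 5 * i by ring, show j + 4 * j = 5 * j by ring, pow_mul, pow_mul, p5, q5]
        simp }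
  have hP : IsPGroup 5 P := by
    rintro ⟨_, i, j, rfl⟩
    refine ⟨1, Subtype.ext ?_⟩
    change (p ^ i * q ^ j) ^ 5 ^ 1 = 1
    rw [pow_one, (hc.pow_pow i j).mul_pow, ← pow_mul, ← pow_mul, mul_comm i, mul_comm j, pow_mul, pow_mul, p5, q5]
    simp
  have hlt : zpowers p < P := by
    refine lt_of_le_of_ne (zpowers_le.2 ⟨1, 0, by simp⟩) fun e => hq ?_
    rw [e]
    exact ⟨0, 1, by simp⟩
  have c5 : Nat.card (zpowers p) = 5 := by rw [Nat.card_zpowers, orderOf_eq_prime p5 p1]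
  obtain ⟨S, hS⟩ := hP.exists_le_sylow
  have hy : IsPGroup 5 (zpowers y) := by
    rintro ⟨_, k, rfl⟩
    refine ⟨n, Subtype.ext ?_⟩
    change (y ^ k) ^ 5 ^ n = 1
    rw [← zpow_natCast, ← zpow_mul, mul_comm, zpow_mul, zpow_natCast, h5, one_zpow]
  obtain ⟨S', hS'⟩ := hy.exists_le_sylow
  obtain ⟨g, hg⟩ := MulAction.exists_smul_eq G S' S
  have hPS : P = S := by
    obtain ⟨a, ha⟩ := IsPGroup.iff_card.1 hP
    obtain ⟨b, hb⟩ := IsPGroup.iff_card.1 S.isPGroup'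
    have h1 : 5 < 5 ^ a := by
      rw [← ha, ← c5]
      exact Set.Finite.card_lt_card (Set.toFinite _) (SetLike.coe_ssubset_coe.2 hlt)
    have h2 : b ≤ 2 := by
      by_contra! h
      exact hG ((pow_dvd_pow 5 h).trans (hb ▸ card_subgroup_dvd_card _))
    have h3 : 2 ≤ a := by
      by_contra! h
      have := Nat.pow_le_pow_right (n := 5) (by norm_num) (Nat.lt_succ_iff.1 h)
      omega
    refine eq_of_le_of_card_ge hS ?_
    rw [ha, hb]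
    exact Nat.pow_le_pow_right (by norm_num) (h2.trans h3)
  have : g * y * g⁻¹ ∈ P := by
    rw [hPS, ← hg, Sylow.coe_subgroup_smul]
    exact smul_mem_pointwise_smul _ (MulAut.conj g) _ (hS' (mem_zpowers y))
  obtain ⟨i, j, h⟩ := this
  refine ⟨g, i % 5, j % 5, Nat.mod_lt _ (by norm_num), Nat.mod_lt _ (by norm_num), ?_⟩
  rw [h, ← pow_eq_pow_mod i p5, ← pow_eq_pow_mod j q5]

/-- every non-trivial element of the Sylow subgroup is a power of one of six elements -/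
theorem six {G : Type*} [Group G] {p q : G} (hc : Commute p q) (p5 : p ^ 5 = 1) {i j : ℕ} (hi : i < 5)
    (hj : j < 5) : j = 0 ∨ ∃ k < 5, p ^ i * q ^ j = (p ^ k * q) ^ j := by
  have h : ∀ i < 5, ∀ j < 5, j = 0 ∨ ∃ k < 5, (k * j) % 5 = i := by decide
  refine (h i hi j hj).imp id fun ⟨k, hk, e⟩ => ⟨k, hk, ?_⟩
  rw [(hc.pow_left k).mul_pow, ← pow_mul, pow_eq_pow_mod (k * j) p5, e]

def pw5 : List ℕ := [3, 4, 1]
def qw5 : List ℕ := [2, 3, 4, 5, 2, 3, 4, 5, 2, 3, 4, 5, 2, 3, 4, 5, 2, 3, 4, 5, 2, 3, 4, 5, 2, 3, 4, 5, 6, 4, 3, 4, 6, 3, 4, 3, 4, 6, 3]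
def sw0 : List ℕ := [5, 4, 6, 5, 2, 3, 4, 5, 2, 3, 4, 5, 2, 3, 4, 5, 2, 3, 4, 5, 2, 3, 4, 5, 2, 3, 4, 5, 2, 3, 4, 5, 3, 4, 6, 2, 3, 4, 5, 2, 3, 4, 5, 2, 3, 4, 5, 2, 3, 4, 5, 2, 3, 4, 5, 2, 3, 4, 5, 2, 3, 4, 5, 5, 4, 6, 3, 4, 5, 4, 1]
def sw1 : List ℕ := [5, 4, 6, 1, 2, 3, 4, 5, 2, 3, 4, 5, 2, 3, 4, 5, 2, 3, 4, 5, 2, 3, 4, 5, 2, 3, 4, 5, 2, 3, 4, 5, 3, 4, 6, 2, 3, 4, 5, 2, 3, 4, 5, 2, 3, 4, 5, 2, 3, 4, 5, 2, 3, 4, 5, 2, 3, 4, 5, 2, 3, 4, 5, 5, 4, 6, 3, 4, 5]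
def sw2 : List ℕ := [1, 2, 1, 2, 6, 2, 3, 4, 5, 2, 3, 4, 5, 2, 3, 4, 5, 2, 3, 4, 5, 2, 3, 4, 5, 2, 3, 4, 5, 2, 3, 4, 5, 3, 4, 6, 2, 3, 4, 5, 2, 3, 4, 5, 2, 3, 4, 5, 2, 3, 4, 5, 2, 3, 4, 5, 2, 3, 4, 5, 2, 3, 4, 5, 5, 4, 6, 5, 3]
def sw3 : List ℕ := [3]
def sw4 : List ℕ := [1, 2, 1, 2, 6, 2, 3, 4, 5, 2, 3, 4, 5, 2, 3, 4, 5, 2, 3, 4, 5, 2, 3, 4, 5, 2, 3, 4, 5, 2, 3, 4, 5, 5, 4, 6, 5, 2, 3, 4, 5, 2, 3, 4, 5, 2, 3, 4, 5, 2, 3, 4, 5, 2, 3, 4, 5, 2, 3, 4, 5, 2, 3, 4, 5, 4, 6, 5, 1]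

def prs : List (List ℕ × List ℕ) :=
  [(pw5 ++ pw5 ++ pw5 ++ pw5 ++ pw5, []), (qw5 ++ qw5 ++ qw5 ++ qw5 ++ qw5, []), (pw5 ++ qw5, qw5 ++ pw5),
   ([1] ++ [1], []), ([1] ++ pw5, pw5 ++ [1]),
   (sw0 ++ sw0, []), (sw0 ++ qw5, qw5 ++ sw0),
   (sw1 ++ sw1, []), (sw1 ++ (pw5 ++ qw5), pw5 ++ qw5 ++ sw1),
   (sw2 ++ sw2, []), (sw2 ++ (pw5 ++ pw5 ++ qw5), pw5 ++ pw5 ++ qw5 ++ sw2),
   (sw3 ++ sw3, []), (sw3 ++ (pw5 ++ pw5 ++ pw5 ++ qw5), pw5 ++ pw5 ++ pw5 ++ qw5 ++ sw3),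
   (sw4 ++ sw4, []), (sw4 ++ (pw5 ++ pw5 ++ pw5 ++ pw5 ++ qw5), pw5 ++ pw5 ++ pw5 ++ pw5 ++ qw5 ++ sw4)]

theorem e0 : eqsAt HeM.nets 2058 12 prs 0 = 0 := by decide +kernel
theorem e1 : eqsAt HeM.nets 2058 12 prs 1 = 0 := by decide +kernel
theorem e2 : eqsAt HeM.nets 2058 12 prs 2 = 0 := by decide +kernel
theorem e3 : eqsAt HeM.nets 2058 12 prs 3 = 0 := by decide +kernel
theorem e4 : eqsAt HeM.nets 2058 12 prs 4 = 0 := by decide +kernel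
theorem e5 : eqsAt HeM.nets 2058 12 prs 5 = 0 := by decide +kernel
theorem e6 : eqsAt HeM.nets 2058 12 prs 6 = 0 := by decide +kernel
theorem e7 : eqsAt HeM.nets 2058 12 prs 7 = 0 := by decide +kernel
theorem e8 : eqsAt HeM.nets 2058 12 prs 8 = 0 := by decide +kernel
theorem e9 : eqsAt HeM.nets 2058 12 prs 9 = 0 := by decide +kernel
theorem e10 : eqsAt HeM.nets 2058 12 prs 10 = 0 := by decide +kernel
theorem e11 : eqsAt HeM.nets 2058 12 prs 11 = 0 := by decide +kernel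

theorem ea : ∀ t < 12, eqsAt HeM.nets 2058 12 prs t = 0 :=
  blocks_cons (blocks_cons (blocks_cons (blocks_cons (blocks_cons (blocks_cons (blocks_cons (blocks_cons
    (blocks_cons (blocks_cons (blocks_cons (blocks_cons (blocks_nil _) e0) e1) e2) e3) e4) e5) e6) e7) e8) e9)
      e10) e11

/-- the element given by a word -/
noncomputable def W (w : List ℕ) : Spor.He := wv M.el w

theorem W_append (u v : List ℕ) : W (u ++ v) = W u * W v := by simp [W, wv]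

theorem W_nil : W [] = 1 := rfl

theorem eqs : ∀ p ∈ prs, W p.1 = W p.2 := M.wv_eq inj (by decide) ea

theorem mvW {w : List ℕ} {a b : ℕ} (h : appW HeM.nets w (2 ^ b) = 2 ^ a) : M.φ (W w) a = b := M.apply_wv' h

theorem ne1 {w : List ℕ} (a b : ℕ) (h : appW HeM.nets w (2 ^ b) = 2 ^ a) (hab : a ≠ b) : W w ≠ 1 := fun e => by
  have := mvW h
  rw [e, map_one] at this
  exact hab this

theorem main (y : Spor.He) {n : ℕ} (h5 : y ^ 5 ^ n = 1) :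
    ∃ s : Spor.He, s ≠ 1 ∧ s * s = 1 ∧ s * y = y * s := by
  have := HeP.finite
  have h := eqs
  simp only [prs, List.forall_mem_cons, W_append, W_nil] at h
  obtain ⟨p5, q5, pq, a2, ap, s0, c0, s1, c1, s2, c2, s3, c3, s4, c4, -⟩ := h
  generalize hp : W pw5 = p at *
  generalize hq : W qw5 = q at *
  have p5' : p ^ 5 = 1 := by rw [← p5]; simp only [pow_succ, pow_zero, one_mul]
  have q5' : q ^ 5 = 1 := by rw [← q5]; simp only [pow_succ, pow_zero, one_mul]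
  have p1 : p ≠ 1 := hp ▸ ne1 1 2 (by decide +kernel) (by decide)
  have hq' : q ∉ zpowers p := fun k => by
    have h1 : zpowers p ≤ M.St 44 := zpowers_le.2 (M.mem_St.2 (hp ▸ mvW (by decide +kernel)))
    have h2 : M.φ q 44 = 872 := hq ▸ mvW (by decide +kernel)
    have h3 := M.mem_St.1 (h1 k)
    omega
  obtain ⟨g, i, j, hi, hj, e⟩ := conj_pq pq p5' q5' p1 hq' (by rw [card_eq]; norm_num) h5
  have key : ∃ s : Spor.He, s ≠ 1 ∧ s * s = 1 ∧ Commute s (p ^ i * q ^ j) := by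
    rcases six (q := q) pq p5' hi hj with rfl | ⟨k, hk, e⟩
    · refine ⟨_, ne1 5 6 (by decide +kernel) (by decide), a2, ?_⟩
      rw [pow_zero, mul_one]
      exact Commute.pow_right ap i
    rw [e]
    interval_cases k
    · refine ⟨_, ne1 1 1054 (by decide +kernel) (by decide), s0, Commute.pow_right ?_ j⟩
      rw [pow_zero, one_mul]; exact c0
    · refine ⟨_, ne1 1 1054 (by decide +kernel) (by decide), s1, Commute.pow_right ?_ j⟩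
      rw [pow_one]; exact c1
    · refine ⟨_, ne1 1 1739 (by decide +kernel) (by decide), s2, Commute.pow_right ?_ j⟩
      simp only [pow_succ, pow_zero, one_mul]; exact c2
    · refine ⟨_, ne1 1 2 (by decide +kernel) (by decide), s3, Commute.pow_right ?_ j⟩
      simp only [pow_succ, pow_zero, one_mul]; exact c3
    · refine ⟨_, ne1 2 1975 (by decide +kernel) (by decide), s4, Commute.pow_right ?_ j⟩
      simp only [pow_succ, pow_zero, one_mul]; exact c4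
  obtain ⟨s, s1, s2, hs⟩ := key
  rw [← e] at hs
  refine ⟨g⁻¹ * s * g, fun k => s1 ?_, ?_, ?_⟩
  · rw [show s = g * (g⁻¹ * s * g) * g⁻¹ by group, k]; group
  · rw [show g⁻¹ * s * g * (g⁻¹ * s * g) = g⁻¹ * (s * s) * g by group, s2]; group
  · rw [show g⁻¹ * s * g * y = g⁻¹ * (s * (g * y * g⁻¹)) * g by group, hs.eq]; group

end EHe

variable {G : Type*} [Group G] [Finite G] {F O K T C0 P P1 P2 S : Subgroup G}
  {t z a a' a1 a2 f : G}

set_option linter.unusedVariables false in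
theorem he_five (y : Spor.He) (h1 : y ≠ 1) {n : ℕ} (h5 : y ^ 5 ^ n = 1) :
    ∃ s : Spor.He, s ≠ 1 ∧ s * s = 1 ∧ s * y = y * s := EHe.main y h5

end Cfsg.Agent.DIH
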