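import Cfsg.Agent.DIH.Defs
import Cfsg.Agent.H9.QuatHom
import Cfsg.Agent.H9.SLBasic
import Cfsg.Agent.H93.L2Ex
import Cfsg.Agent.H44.Components
import Cfsg.Agent.H22.Core

set_option autoImplicit false

namespace Cfsg.Agent.DIH

open Subgroup H49
open H42 (SylIn)

variable {G : Type*} [Group G] [Finite G] {F O K T C0 P P1 P2 S : Subgroup G}
  {t z a a' a1 a2 f : G}

omit [Finite G] in
theorem D8.red_card (h : D8 z a1 a2) : Nat.card (closure {a1, a2} : Subgroup G) = 8 := by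
  have sq : (a1 * a2) ^ 2 = z := by
    rw [pow_two, mul_assoc, ← mul_assoc a2, h.r, ← mul_assoc, ← mul_assoc, ← mul_assoc, h.s1, one_mul,
      ← h.c2, mul_assoc, h.s2, mul_one]
  have h4 : orderOf (a1 * a2) = 4 := orderOf_eq_prime_pow (p := 2) (n := 1)
    (by rw [pow_one, sq]; exact h.z1) (by rw [pow_succ, pow_one, pow_mul, sq, pow_two, h.z2])
  have i1 : a1⁻¹ = a1 := inv_eq_of_mul_eq_one_right h.s1
  have i2 : a2⁻¹ = a2 := inv_eq_of_mul_eq_one_right h.s2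
  have e : a1 * (a1 * a2) * a1⁻¹ = (a1 * a2)⁻¹ := by
    rw [← mul_assoc, h.s1, one_mul, mul_inv_rev, i1, i2]
  obtain ⟨D, h1, h2, h3, hc, -⟩ := H9.exists_subgroup_dihedral (n := 4) (by norm_num) (a1 * a2) a1 h4
    h.s1 e fun hm => by
      obtain ⟨k, hk⟩ := mem_zpowers_iff.1 hm
      have c : a1 * (a1 * a2) = a1 * a2 * a1 := by
        nth_rewrite 1 4 [← hk]; exact (Commute.zpow_self _ k).eq
      rw [c, mul_inv_cancel_right, eq_inv_iff_mul_eq_one, ← pow_two, sq] at e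
      exact h.z1 e
  have m1 : a1 ∈ closure {a1, a2} := subset_closure (by simp)
  have m2 : a2 ∈ closure {a1, a2} := subset_closure (by simp)
  rw [← le_antisymm (h3.trans ((closure_le _).2 ?_)) ((closure_le _).2 ?_), hc]
  · rintro _ (rfl | rfl)
    exacts [mul_mem m1 m2, m1]
  · rintro _ (rfl | rfl)
    exacts [h2, (mul_mem_cancel_left h2).1 h1]

omit [Finite G] in
theorem D8.red_map (h : D8 z a1 a2) {X : Type*} [Group X] {φ : G →* X} (hφ : Function.Injective φ) :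
    D8 (φ z) (φ a1) (φ a2) :=
  ⟨by rw [← map_mul, h.z2, map_one], fun e => h.z1 (hφ (e.trans (map_one φ).symm)),
    by rw [← map_mul, h.s1, map_one], by rw [← map_mul, h.s2, map_one],
    by rw [← map_mul, h.c1, map_mul], by rw [← map_mul, h.c2, map_mul],
    by rw [← map_mul, h.r, map_mul, map_mul]⟩

omit [Finite G] in
theorem D8.red_of_map {X : Type*} [Group X] {φ : G →* X} (hφ : Function.Injective φ)
    (h : D8 (φ z) (φ a1) (φ a2)) : D8 z a1 a2 :=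
  ⟨hφ (by rw [map_mul, h.z2, map_one]), fun e => h.z1 (by rw [e, map_one]),
    hφ (by rw [map_mul, h.s1, map_one]), hφ (by rw [map_mul, h.s2, map_one]),
    hφ (by rw [map_mul, h.c1, map_mul]), hφ (by rw [map_mul, h.c2, map_mul]),
    hφ (by rw [map_mul, h.r, map_mul, map_mul])⟩

theorem red_L {L : Type*} [Group L] (hL : (∃ (k : Type) (_ : Field k) (_ : Fintype k),
      (Fintype.card k % 16 = 7 ∨ Fintype.card k % 16 = 9) ∧
        Nonempty (L ≃* Matrix.ProjectiveSpecialLinearGroup (Fin 2) k)) ∨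
      Nonempty (L ≃* alternatingGroup (Fin 7))) :
    IsSimpleGroup L ∧ ¬ 16 ∣ Nat.card L ∧ ∃ z a1 a2 : L, D8 z a1 a2 := by
  rcases hL with ⟨k, _, _, hk, ⟨e⟩⟩ | ⟨⟨e⟩⟩
  · classical
    have hn : Nat.card k = Fintype.card k := Nat.card_eq_fintype_card
    have := Matrix.ProjectiveSpecialLinearGroup.rank_two_simple (F := k) (by omega)
    have h2 : (2 : k) ≠ 0 := fun h2 => by
      have := CharTwo.of_one_ne_zero_of_two_eq_zero (R := k) one_ne_zero h2
      have := (FiniteField.even_card_iff_char_two (F := k)).1 (ringChar.eq k 2)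
      omega
    refine ⟨e.isSimpleGroup, fun h16 => ?_, ?_⟩
    · have h1 := H9.gcd_mul_card_psl_two (F := k)
      rw [← Nat.card_congr e.toEquiv] at h1
      obtain ⟨m, hm⟩ := h16
      obtain ⟨r, hr⟩ : ∃ r, Fintype.card k = 16 * r + 7 ∨ Fintype.card k = 16 * r + 9 :=
        ⟨Fintype.card k / 16, by omega⟩
      rw [hm, Nat.gcd_eq_left (by omega)] at h1
      rcases hr with hr | hr <;> rw [hr] at h1
      · rw [show (16 * r + 7) ^ 2 - 1 = 16 * (2 * (8 * r ^ 2 + 7 * r + 1) + 1) from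
          Nat.sub_eq_of_eq_add (by ring), show (16 * r + 7) * (16 * (2 * (8 * r ^ 2 + 7 * r + 1) + 1)) =
            32 * ((16 * r + 7) * (8 * r ^ 2 + 7 * r + 1) + 8 * r + 3) + 16 by ring] at h1
        omega
      · rw [show (16 * r + 9) ^ 2 - 1 = 16 * (2 * (8 * r ^ 2 + 9 * r + 2) + 1) from
          Nat.sub_eq_of_eq_add (by ring), show (16 * r + 9) * (16 * (2 * (8 * r ^ 2 + 9 * r + 2) + 1)) =
            32 * ((16 * r + 9) * (8 * r ^ 2 + 9 * r + 2) + 8 * r + 4) + 16 by ring] at h1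
        omega
    · obtain ⟨φ, hφ, h3⟩ := H93.L2.exists_sym4 (F := k) h2
      obtain ⟨H, ⟨e'⟩⟩ := (H93.L2.exists_sub_iff (H28.pslInc_injective (F := k)) _).2 ⟨φ, hφ, by
        rw [H93.L2.range_pslInc, h3, H93.L2.isSquare_two_iff (Nat.odd_iff.2 (by omega))]; omega⟩
      have d : D8 (Equiv.swap 0 1 * Equiv.swap 2 3 : Equiv.Perm (Fin 4)) (Equiv.swap 0 1)
          (Equiv.swap 0 2 * Equiv.swap 1 3) := by constructor <;> decide
      exact ⟨_, _, _, ((d.red_map (φ := e'.symm.toMonoidHom) e'.symm.injective).red_map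
        H.subtype_injective).red_map (φ := e.symm.toMonoidHom) e.symm.injective⟩
  · have := alternatingGroup.isSimpleGroup (α := Fin 7) (by simp)
    refine ⟨e.isSimpleGroup, ?_, ?_⟩
    · rw [Nat.card_congr e.toEquiv, nat_card_alternatingGroup]; simp [Nat.factorial]
    · have d : D8 (G := alternatingGroup (Fin 7))
          ⟨Equiv.swap 0 1 * Equiv.swap 2 3, by rw [Equiv.Perm.mem_alternatingGroup]; decide⟩
          ⟨Equiv.swap 0 1 * Equiv.swap 4 5, by rw [Equiv.Perm.mem_alternatingGroup]; decide⟩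
          ⟨Equiv.swap 0 2 * Equiv.swap 1 3, by rw [Equiv.Perm.mem_alternatingGroup]; decide⟩ := by
        constructor <;> decide
      exact ⟨_, _, _, d.red_map (φ := e.symm.toMonoidHom) e.symm.injective⟩

theorem red_syl {L : Type*} [Group L] (π : K →* L) (hπ : Function.Surjective π)
    (ho : Odd (Nat.card π.ker)) (h16 : ¬ 16 ∣ Nat.card L) {z a1 a2 : L} (d : D8 z a1 a2) :
    ∃ z a1 a2 : G, D8 z a1 a2 ∧ SylIn 2 (closure {a1, a2}) K := by
  have : Finite L := Finite.of_surjective _ hπ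
  obtain ⟨S, hS⟩ := (IsPGroup.of_card (p := 2) (n := 3) d.red_card).exists_le_sylow
  obtain ⟨Q, rfl⟩ := Sylow.mapSurjective_surjective hπ 2 S
  have m1 : a1 ∈ closure {a1, a2} := subset_closure (by simp)
  have m2 : a2 ∈ closure {a1, a2} := subset_closure (by simp)
  obtain ⟨b1, h1, rfl⟩ := hS m1
  obtain ⟨b2, h2, rfl⟩ := hS m2
  obtain ⟨y, hy, rfl⟩ := hS (show z ∈ _ from (mul_mem_cancel_left (mul_mem m1 m2)).1
    (d.r ▸ mul_mem m2 m1))
  have inj : Function.Injective (π.comp (Q : Subgroup K).subtype) :=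
    (injective_iff_map_eq_one _).2 fun x hx => by
      obtain ⟨n, hn⟩ := IsPGroup.iff_orderOf.1 Q.isPGroup' x
      have h3 := Subgroup.orderOf_dvd_natCard π.ker (x := x) hx
      rw [orderOf_coe, hn] at h3
      rw [← orderOf_eq_one_iff, hn]
      exact ((Nat.coprime_two_left.2 ho).pow_left n).eq_one_of_dvd h3
  have d' := ((D8.red_of_map (z := ⟨y, hy⟩) (a1 := ⟨b1, h1⟩) (a2 := ⟨b2, h2⟩) inj d).red_map
    (Q : Subgroup K).subtype_injective).red_map K.subtype_injective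
  have le : closure {(b1 : G), (b2 : G)} ≤ K := (closure_le _).2 (by
    rintro _ (rfl | rfl)
    exacts [b1.2, b2.2])
  refine ⟨_, _, _, d', le, IsPGroup.of_card (n := 3) d'.red_card, fun hd => h16 ?_⟩
  have c1 := H42.card_mul_relIndex le
  have c2 := π.ker.card_mul_index
  rw [index_ker, MonoidHom.range_eq_top.2 hπ, card_top, ← c1] at c2
  have c3 : Nat.card (closure {(b1 : G), (b2 : G)}) = 8 := d'.red_card
  rw [c3] at c2
  exact ((Nat.coprime_two_left.2 ho).pow_left 4).dvd_of_dvd_mul_left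
    (c2 ▸ Nat.mul_dvd_mul_left 8 hd)

theorem red_aux {Q : Type*} [Group Q] (q : 𝒞[t] →* Q) (hq : Function.Surjective q)
    (ho : Odd (Nat.card q.ker)) (L : Subgroup Q) [hn : L.Normal] [IsSimpleGroup L]
    (h16 : ¬ 16 ∣ Nat.card L) {z a1 a2 : L} (d : D8 z a1 a2) (t2 : t * t = 1) (tc : 𝒞[t])
    (htc : (tc : G) = t) (hCL : 𝒞(L) = zpowers (q tc)) :
    ∃ (O K : Subgroup G) (z a1 a2 : G), HL O K t z a1 a2 ∧
      ∃ π : K →* L, Function.Surjective π ∧ π.ker = O.subgroupOf K := by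
  obtain ⟨O, oc, oO, mO⟩ : ∃ O : Subgroup G, O ≤ 𝒞[t] ∧ Odd (Nat.card O) ∧
      ∀ x : 𝒞[t], (x : G) ∈ O ↔ q x = 1 :=
    ⟨q.ker.map (𝒞[t]).subtype, map_subtype_le _, by rwa [card_subtype],
      fun x => mem_map_iff_mem (𝒞[t]).subtype_injective⟩
  obtain ⟨K, kc, mK⟩ : ∃ K : Subgroup G, K ≤ 𝒞[t] ∧ ∀ x : 𝒞[t], (x : G) ∈ K ↔ q x ∈ L :=
    ⟨(L.comap q).map (𝒞[t]).subtype, map_subtype_le _,
      fun x => mem_map_iff_mem (𝒞[t]).subtype_injective⟩
  obtain ⟨π, hπ⟩ : ∃ π : K →* L, ∀ k : K, (π k : Q) = q ⟨k, kc k.2⟩ :=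
    ⟨(q.comp (inclusion kc)).codRestrict L fun k => (mK _).1 k.2, fun _ => rfl⟩
  have sj : Function.Surjective π := fun l => by
    obtain ⟨x, hx⟩ := hq l
    exact ⟨⟨x, (mK x).2 (hx ▸ l.2)⟩, Subtype.ext ((hπ _).trans hx)⟩
  have OK : O ≤ K := fun x hx => (mK ⟨x, oc hx⟩).2 ((mO ⟨x, oc hx⟩).1 hx ▸ one_mem L)
  have hk : π.ker = O.subgroupOf K := by
    ext k
    rw [MonoidHom.mem_ker, Subtype.ext_iff, hπ, mem_subgroupOf]
    exact (mO ⟨k, kc k.2⟩).symm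
  obtain ⟨z, a1, a2, d', sy⟩ := red_syl π sj
    (by rwa [hk, Nat.card_congr (subgroupOfEquivOfLe OK).toEquiv]) h16 d
  refine ⟨O, K, z, a1, a2, ⟨d', OK, kc, le_norm_iff.2 fun c hc x hx => ?_,
    le_norm_iff.2 fun c hc x hx => ?_, oO, fun N h1 h2 h3 => ?_, fun c hc h => ?_, sy⟩, π, sj, hk⟩
  · refine (mO (⟨c, hc⟩ * ⟨x, oc hx⟩ * ⟨c, hc⟩⁻¹)).2 ?_
    rw [map_mul, map_mul, (mO ⟨x, oc hx⟩).1 hx, mul_one, map_inv, mul_inv_cancel]
  · refine (mK (⟨c, hc⟩ * ⟨x, kc hx⟩ * ⟨c, hc⟩⁻¹)).2 ?_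
    rw [map_mul, map_mul, map_inv]
    exact hn.conj_mem _ ((mK ⟨x, kc hx⟩).1 hx) _
  · have n := ((normal_subgroupOf_iff_le_normalizer h2).2 h3).map π sj
    refine n.eq_bot_or_eq_top.imp (fun e => le_antisymm (fun x hx => ?_) h1)
      fun e => le_antisymm h2 fun x hx => ?_
    · rw [Subgroup.map_eq_bot_iff, hk] at e
      exact e (show (⟨x, h2 hx⟩ : K) ∈ N.subgroupOf K from hx)
    · obtain ⟨y, hy, e'⟩ := e.ge (mem_top (π ⟨x, hx⟩))
      have : y⁻¹ * ⟨x, hx⟩ ∈ π.ker := by rw [MonoidHom.mem_ker, map_mul, map_inv, e', inv_mul_cancel]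
      rw [hk] at this
      exact (mul_mem_cancel_left (inv_mem hy)).1 (h1 this)
  · have h1 : q ⟨c, hc⟩ ∈ 𝒞(L) := fun l hl => by
      obtain ⟨x, rfl⟩ := hq l
      have := (mO (⟨c, hc⟩ * x * ⟨c, hc⟩⁻¹ * x⁻¹)).1 (h x ((mK x).2 hl))
      rw [map_mul, map_mul, map_mul, map_inv, map_inv, mul_inv_eq_one, mul_inv_eq_iff_eq_mul] at this
      exact this.symm
    have h2 : q tc ^ (2 : ℤ) = 1 := by
      rw [zpow_two, ← map_mul, show tc * tc = 1 from Subtype.ext (by rw [coe_mul, htc, t2]; rfl),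
        map_one]
    rw [hCL] at h1
    obtain ⟨n, e⟩ := mem_zpowers_iff.1 h1
    obtain ⟨m, rfl | rfl⟩ := Int.even_or_odd' n
    · rw [zpow_mul, h2, one_zpow] at e
      exact .inl ((mO ⟨c, hc⟩).2 e.symm)
    · rw [zpow_add_one, zpow_mul, h2, one_zpow, one_mul] at e
      refine .inr (htc ▸ (mO (⟨c, hc⟩ * tc)).2 ?_)
      rw [map_mul, ← e, ← zpow_two, h2]

theorem red (t : G) (ht : orderOf t = 2) (tc : 𝒞[t]) (htc : (tc : G) = t)
    (hL : (∃ (k : Type) (_ : Field k) (_ : Fintype k),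
      (Fintype.card k % 16 = 7 ∨ Fintype.card k % 16 = 9) ∧
        Nonempty (layer (𝒞[t] ⧸ oddCore 𝒞[t]) ≃* Matrix.ProjectiveSpecialLinearGroup (Fin 2) k)) ∨
      Nonempty (layer (𝒞[t] ⧸ oddCore 𝒞[t]) ≃* alternatingGroup (Fin 7)))
    (hCL : 𝒞(layer (𝒞[t] ⧸ oddCore 𝒞[t])) = zpowers (QuotientGroup.mk tc : 𝒞[t] ⧸ oddCore 𝒞[t])) :
    ∃ (O K : Subgroup G) (z a1 a2 : G), HL O K t z a1 a2 ∧
      ∃ π : K →* layer (𝒞[t] ⧸ oddCore 𝒞[t]), Function.Surjective π ∧ π.ker = O.subgroupOf K := by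
  obtain ⟨_, h16, z, a1, a2, d⟩ := red_L hL
  have := H44.layer_normal (G := 𝒞[t] ⧸ oddCore 𝒞[t])
  refine red_aux (QuotientGroup.mk' _) (QuotientGroup.mk'_surjective _) ?_ _ h16 d
    (by rw [← pow_two, ← ht, pow_orderOf_eq_one]) tc htc hCL
  rw [QuotientGroup.ker_mk']
  exact Nat.coprime_two_right.1 H22.coprime_card_pPrimeCore

end Cfsg.Agent.DIH
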