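import Cfsg.Agent.DIH.Defs
import Cfsg.Agent.H9.SLBasic
import Cfsg.Agent.S0243
import Cfsg.Agent.S0245
import Cfsg.Agent.S0280
import Cfsg.Agent.H58.HeP
import Cfsg.Agent.H55.ActLeech

set_option autoImplicit false

namespace Cfsg.Agent.DIH

open Subgroup H49
open H42 (SylIn)

variable {G : Type*} [Group G] [Finite G] {F O K T C0 P P1 P2 S : Subgroup G}
  {t z a a' a1 a2 f : G}

/-- the groups `L` of the hypothesis -/
def IsL (L : Type*) [Group L] : Prop :=
  (∃ (k : Type) (_ : Field k) (_ : Fintype k), (Fintype.card k % 16 = 7 ∨ Fintype.card k % 16 = 9) ∧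
    Nonempty (L ≃* Matrix.ProjectiveSpecialLinearGroup (Fin 2) k)) ∨
  Nonempty (L ≃* alternatingGroup (Fin 7))

/-- `L ≅ L₂(9)` -/
def IsL9 (L : Type*) [Group L] : Prop :=
  ∃ (k : Type) (_ : Field k) (_ : Fintype k), Fintype.card k = 9 ∧
    Nonempty (L ≃* Matrix.ProjectiveSpecialLinearGroup (Fin 2) k)

variable {L : Type*} [Group L]

theorem IsL9.card (h : IsL9 L) : Nat.card L = 360 := by
  obtain ⟨k, _, _, hk, ⟨e⟩⟩ := h
  have := H9.gcd_mul_card_psl_two (F := k)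
  rw [hk, ← Nat.card_congr e.toEquiv, show Nat.gcd 2 (9 - 1) = 2 by decide] at this
  omega

/-- all five orders divide this number -/
theorem IsL.cases (h : IsL L) (hd : Nat.card L ∣ 2 ^ 10 * 3 ^ 5 * 5 ^ 3 * 7 ^ 3 * 11 * 17 * 31) :
    IsL9 L ∨ Nat.card L = 168 ∨ (Nat.card L = 2520 ∧ Nonempty (L ≃* alternatingGroup (Fin 7))) := by
  obtain ⟨k, _, _, hk, ⟨e⟩⟩ | ⟨⟨e⟩⟩ := h
  · have c := H9.gcd_mul_card_psl_two (F := k)
    rw [← Nat.card_congr e.toEquiv, Nat.gcd_eq_left (by omega)] at c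
    have hd2 := Nat.mul_dvd_mul_left 2 hd
    rw [c] at hd2
    have hl : Fintype.card k < 50000 := by
      by_contra hl
      have h1 : 50000 ≤ Fintype.card k := not_lt.1 hl
      have h2 := Nat.pow_le_pow_left h1 2
      have := (Nat.mul_le_mul h1 (Nat.sub_le_sub_right h2 1)).trans (Nat.le_of_dvd (by norm_num) hd2)
      norm_num at this
    have key : ∀ i < 49, ∀ j < 64, ∀ r, r = 7 ∨ r = 9 → ∀ q, q = 1024 * i + 16 * j + r → q * (q ^ 2 - 1) ∣
        2 * (2 ^ 10 * 3 ^ 5 * 5 ^ 3 * 7 ^ 3 * 11 * 17 * 31) → q < 16 ∨ q = 55 := by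
      simp only [forall_eq_or_imp, forall_eq]
      decide +kernel
    have := key (Fintype.card k / 1024) (by omega) (Fintype.card k / 16 % 64) (by omega) _ hk (Fintype.card k) (by omega)
    obtain h0 | h0 := this hd2
    · obtain h7 | h9 : Fintype.card k = 7 ∨ Fintype.card k = 9 := by omega
      · rw [h7] at c
        exact .inr (.inl (by omega))
      · exact .inl ⟨k, _, _, h9, ⟨e⟩⟩
    · exact absurd (h0 ▸ FiniteField.isPrimePow_card k) (by decide +kernel)
  · refine .inr (.inr ⟨?_, ⟨e⟩⟩)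
    have := two_mul_nat_card_alternatingGroup (α := Fin 7)
    rw [Nat.card_perm, Nat.card_eq_fintype_card (α := Fin 7), Fintype.card_fin,
      show Nat.factorial 7 = 5040 by decide, ← Nat.card_congr e.toEquiv] at this
    omega

theorem card_dvd_of (hK : K ≤ F) (π : K →* L) (hπ : Function.Surjective π) :
    Nat.card L ∣ Nat.card F := by
  exact (card_dvd_of_surjective π hπ).trans (card_dvd_of_le hK)

theorem e_sp (h : IsL L) {X : Type*} [Group X] (hd : Nat.card L ∣ Nat.card X)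
    (hX : ∃ (k : Type) (_ : Field k) (_ : Fintype k), Fintype.card k = 4 ∧
      (Nonempty (X ≃* PSp 2 k) ∨ Nonempty (X ≃* PSU 5 k 2))) : IsL9 L := by
  have hc : Nat.card X ∣ 979200 ∨ Nat.card X = 13685760 := by
    obtain ⟨k, _, _, hk, ⟨⟨e⟩⟩ | ⟨⟨e⟩⟩⟩ := hX
    · have := S0245.result hk 2
      rw [show 4 ^ 2 ^ 2 * ∏ i ∈ Finset.range 2, (4 ^ (2 * (i + 1)) - 1) = 979200 by decide +kernel] at this
      exact .inl (Nat.card_congr e.toEquiv ▸ this ▸ card_quotient_dvd_card _)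
    · have := S0280.result (q := 2) hk 5 (by decide)
      rw [show 2 ^ (5 * (5 - 1) / 2) * ∏ i ∈ Finset.range 5,
        (if Even i then 2 ^ (i + 1) + 1 else 2 ^ (i + 1) - 1) = 41057280 by decide +kernel,
        show Nat.gcd 5 (2 + 1) = 1 by decide, ← Nat.card_congr e.toEquiv] at this
      omega
  obtain h9 | h7 | ⟨h7, -⟩ := h.cases (hd.trans (hc.elim (·.trans (by decide)) fun e => by rw [e]; decide))
  · exact h9
  all_goals
    rw [h7] at hd
    rcases hc with e | e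
    · exact absurd (hd.trans e) (by decide)
    · exact absurd (e ▸ hd) (by decide)

theorem e_dvd {X : Type*} [Group X]
    (hX : Nonempty (X ≃* Matrix.ProjectiveSpecialLinearGroup (Fin 5) (ZMod 2)) ∨ Spor.IsoHe X ∨
      Spor.IsoHS X) : Nat.card X ∣ 2 ^ 10 * 3 ^ 5 * 5 ^ 3 * 7 ^ 3 * 11 * 17 * 31 := by
  obtain ⟨⟨e⟩⟩ | ⟨⟨e⟩⟩ | ⟨⟨e⟩⟩ := hX <;> rw [Nat.card_congr e.toEquiv]
  · have := S0243.result (ZMod.card 2) 5 (by decide)
    rw [show ∏ i : Fin 5, (2 ^ 5 - 2 ^ (i : ℕ)) = 9999360 by decide +kernel,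
      show Nat.gcd 5 (2 - 1) = 1 by decide, one_mul, show 2 - 1 = 1 from rfl, one_mul] at this
    rw [this]; decide
  · rw [H58.HeP.card_eq]; decide
  · rw [H55.card_HS']; decide

end Cfsg.Agent.DIH
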