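/-
Project DIH: the set-up of `LocX` in case B.
-/
import Cfsg.Agent.DIH.LocX
import Cfsg.Agent.DIH.LocQ

set_option autoImplicit false

namespace Cfsg.Agent.DIH.LX

open Subgroup H49
open H42 (SylIn)

variable {G : Type*} [Group G] {F O K T C0 P P' Q : Subgroup G} {t z a a1 a2 f n : G} {φ : V → G}
  {m : V → V}

/-- the element with given coordinates -/
def ev (z a t f : G) (v : V) : G := z ^ v.1.val * a ^ v.2.1.val * t ^ v.2.2.1.val * f ^ v.2.2.2.val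

theorem ev_z : ev z a t f (1, 0, 0, 0) = z := by simp [ev, ZMod.val_one]

theorem ev_a : ev z a t f (0, 1, 0, 0) = a := by simp [ev, ZMod.val_one]

theorem ev_t : ev z a t f vt = t := by simp [ev, vt, ZMod.val_one]

theorem ev_f : ev z a t f (0, 0, 0, 1) = f := by simp [ev, ZMod.val_one]

theorem pow_val_add {x : G} (h : x * x = 1) (i j : ZMod 2) : x ^ (i + j).val = x ^ i.val * x ^ j.val := by
  rw [← pow_add, ZMod.val_add, ← pow_eq_pow_mod _ (by rw [pow_two, h])]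

theorem pow_val_pw (x : G) (i : ZMod 2) : x ^ i.val = pw (decide (i = 1)) x := by
  rcases (by decide : ∀ i : ZMod 2, i = 0 ∨ i = 1) i with rfl | rfl <;> simp [pw, ZMod.val_one]

theorem ev_pf (i : ZMod 2) : ev z a t f (0, 0, 0, i) = pw (decide (i = 1)) f := by
  simp [ev, pow_val_pw]

theorem ev_pt (i : ZMod 2) : ev z a t f (0, 0, i, 0) = pw (decide (i = 1)) t := by
  simp [ev, pow_val_pw]

theorem ev_pa (i : ZMod 2) : ev z a t f (0, i, 0, 0) = pw (decide (i = 1)) a := by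
  simp [ev, pow_val_pw]

theorem ac_one : Ac φ 1 id := fun v => by simp

theorem vind {p : V → Prop} (h : ∀ v w, p v → p w → p (v + w)) (h1 : p (1, 0, 0, 0)) (h2 : p (0, 1, 0, 0))
    (h3 : p vt) (h4 : p (0, 0, 0, 1)) (v : V) : p v := by
  have h0 : p 0 := h _ _ h3 h3
  have k : ∀ (i : ZMod 2) (e : V), p e → p (i • e) := fun i e he => by
    rcases (by decide : ∀ i : ZMod 2, i = 0 ∨ i = 1) i with rfl | rfl <;> simpa
  rw [(by decide : ∀ v : V, v = v.1 • (1, 0, 0, 0) + v.2.1 • (0, 1, 0, 0) + v.2.2.1 • vt +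
    v.2.2.2 • (0, 0, 0, 1)) v]
  exact h _ _ (h _ _ (h _ _ (k _ _ h1) (k _ _ h2)) (k _ _ h3)) (k _ _ h4)

theorem cjv (add : ∀ v w, φ (v + w) = φ v * φ w) (hm : ∀ v w, m (v + w) = m v + m w)
    (h1 : n * φ (1, 0, 0, 0) * n⁻¹ = φ (m (1, 0, 0, 0))) (h2 : n * φ (0, 1, 0, 0) * n⁻¹ = φ (m (0, 1, 0, 0)))
    (h3 : n * φ vt * n⁻¹ = φ (m vt)) (h4 : n * φ (0, 0, 0, 1) * n⁻¹ = φ (m (0, 0, 0, 1))) (v : V) :
    n * φ v * n⁻¹ = φ (m v) :=
  vind (p := fun v => n * φ v * n⁻¹ = φ (m v)) (fun v w hv hw => by rw [hm, add, add, ← hv, ← hw, conj_mul])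
    h1 h2 h3 h4 v

theorem Ac.cj {y : G} (h : Ac φ y m) {v w : V} (e : m v = w) : y * φ w * y⁻¹ = φ v := by
  rw [← e, ← h, mul_inv_cancel_right]

theorem Ac.cm {y : G} (h : Ac φ y m) {v : V} (e : m v = v) : y * φ v = φ v * y := by rw [h, e]

variable [Finite G]

theorem ev_add (h : CB F O K T C0 t z a1 a2 f) (v w : V) :
    ev z a1 t f (v + w) = ev z a1 t f v * ev z a1 t f w := by
  have ct : ∀ x ∈ T, Commute x t := fun x hx => mem_cent1.1 (h.sylT.le hx)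
  have za : Commute z a1 := h.c1
  have e : z = (a1 * a2)⁻¹ * (a2 * a1) := by rw [h.r, inv_mul_cancel_left]
  have zt : Commute z t := ct z (e ▸ mul_mem (inv_mem (mul_mem h.a1T h.a2T)) (mul_mem h.a2T h.a1T))
  have f1 : Commute f a1 := h.fa1
  have f2 : Commute f a2 := h.fa2
  have zf : Commute z f := e ▸ ((f1.mul_right f2).inv_right.mul_right (f2.mul_right f1)).symm
  simp only [ev, Prod.fst_add, Prod.snd_add, pow_val_add h.z2, pow_val_add h.s1, pow_val_add h.t2,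
    pow_val_add h.f2]
  rw [(za.pow_pow _ _).mul_mul_mul_comm, ((zt.pow_pow _ _).mul_left ((ct _ h.a1T).pow_pow _ _)).mul_mul_mul_comm,
    (((zf.pow_pow _ _).mul_left (f1.symm.pow_pow _ _)).mul_left
      ((ct _ h.fT).symm.pow_pow _ _)).mul_mul_mul_comm]

theorem mem_AA (h : CB F O K T C0 t z a1 a2 f) {g : G} : g ∈ AA t z a1 f ↔ ∃ v, g = ev z a1 t f v := by
  have z0 : ev z a1 t f 0 = 1 := by simp [ev]
  refine ⟨fun hg => ?_, ?_⟩
  · induction hg using closure_induction with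
    | mem x hx =>
      rcases hx with rfl | rfl | rfl | rfl
      exacts [⟨_, ev_z.symm⟩, ⟨_, ev_a.symm⟩, ⟨_, ev_t.symm⟩, ⟨_, ev_f.symm⟩]
    | one => exact ⟨0, z0.symm⟩
    | mul x y _ _ hx hy =>
      obtain ⟨v, rfl⟩ := hx
      obtain ⟨w, rfl⟩ := hy
      exact ⟨v + w, (ev_add h v w).symm⟩
    | inv x _ hx =>
      obtain ⟨v, rfl⟩ := hx
      exact ⟨v, inv_eq_of_mul_eq_one_right (by rw [← ev_add h, (by decide : ∀ v : V, v + v = 0), z0])⟩
  · rintro ⟨v, rfl⟩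
    refine mul_mem (mul_mem (mul_mem ?_ ?_) ?_) ?_ <;> exact pow_mem (subset_closure (by simp)) _

theorem mem_HH (h : CB F O K T C0 t z a1 a2 f) {g : G} (hg : g ∈ HH z a1 f) :
    ∃ v ∈ Finset.univ.filter fun v : V => v.2.2.1 = 0, g = ev z a1 t f v := by
  have z0 : ev z a1 t f 0 = 1 := by simp [ev]
  simp only [Finset.mem_filter, Finset.mem_univ, true_and]
  induction hg using closure_induction with
  | mem x hx =>
    rcases hx with rfl | rfl | rfl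
    exacts [⟨_, rfl, ev_z.symm⟩, ⟨_, rfl, ev_a.symm⟩, ⟨_, rfl, ev_f.symm⟩]
  | one => exact ⟨0, rfl, z0.symm⟩
  | mul x y _ _ hx hy =>
    obtain ⟨v, h1, rfl⟩ := hx
    obtain ⟨w, h2, rfl⟩ := hy
    exact ⟨v + w, by simp [h1, h2], (ev_add h v w).symm⟩
  | inv x _ hx =>
    obtain ⟨v, h1, rfl⟩ := hx
    exact ⟨v, h1, inv_eq_of_mul_eq_one_right (by rw [← ev_add h, (by decide : ∀ v : V, v + v = 0), z0])⟩

theorem setup (h : CB F O K T C0 t z a1 a2 f) (ty : TyC t z a1 f) (hP : SylIn 2 P 𝒩(AA t z a1 f))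
    (hT : TT t a1 a2 f ≤ P) : ∃ (Q : Subgroup G) (ρ : G), Sd t z a1 f ρ ∧ Q ≤ P ∧
      Cx Q (ev z a1 t f) (MulAut.conj ρ) (MulAut.conj a2) ∧
      ∀ (n : G) (m : V → V), (∀ v w, m (v + w) = m v + m w) → (∀ v, m (m v) = v) →
        (m (1, 0, 0, 0) = (1, 0, 0, 0) ∨ m (1, 0, 0, 0) = (1, 0, 0, 0) + (0, 0, 0, 1)) →
        m (0, 1, 0, 0) = (0, 1, 0, 0) → m (0, 0, 0, 1) = (0, 0, 0, 1) →
        Act n t z a1 f (ev z a1 t f (m vt)) (ev z a1 t f (m (1, 0, 0, 0))) a1 →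
        ∃ q ∈ Q, Ac (ev z a1 t f) q m := by
  obtain ⟨Q, ρ, sd, h1, h2, h3, -, h5, h6, h7, h8⟩ := h.locQ ty hP hT
  have add := ev_add h
  have a2i : a2⁻¹ = a2 := inv_eq_of_mul_eq_one_right h.s2
  have a2P : a2 ∈ P := hT (subset_closure (by simp))
  have cm : ∀ v w, ev z a1 t f v * ev z a1 t f w * (ev z a1 t f v)⁻¹ = ev z a1 t f w := fun v w => by
    rw [← add, add_comm, add, mul_inv_cancel_right]
  have e : z = (a1 * a2)⁻¹ * (a2 * a1) := by rw [h.r, inv_mul_cancel_left]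
  have AT : AA t z a1 f ≤ TT t a1 a2 f := by
    have k1 : a1 ∈ TT t a1 a2 f := subset_closure (by simp)
    have k2 : a2 ∈ TT t a1 a2 f := subset_closure (by simp)
    refine (closure_le _).2 ?_
    rintro x (rfl | rfl | rfl | rfl)
    exacts [e ▸ mul_mem (inv_mem (mul_mem k1 k2)) (mul_mem k2 k1), k1, subset_closure (by simp),
      subset_closure (by simp)]
  refine ⟨Q, ρ, sd, fun q hq => ((h3 q).1 hq).1, ⟨add, ?_, fun v => (h3 _).2 ⟨hT (AT ((mem_AA h).2 ⟨v, rfl⟩)),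
    .inl ?_, .inl ?_⟩, fun q hq e => (mem_AA h).1 (h6 q hq (by rwa [ev_t] at e)),
    fun q hq => (mem_normalizer_iff.1 h1 q).1 hq, fun q hq => (mem_normalizer_iff.1 (h2 a2P) q).1 hq,
    cjv add (by decide) ?_ ?_ ?_ ?_, cjv add (by decide) ?_ ?_ ?_ ?_, fun q => ?_, fun q hq => ?_,
    fun q hq => ?_⟩, fun n m m1 m2 m3 m4 m5 hn => ?_⟩
  · have : Function.Bijective fun v => (⟨ev z a1 t f v, (mem_AA h).2 ⟨v, rfl⟩⟩ : AA t z a1 f) :=
      (Nat.bijective_iff_surjective_and_card _).2 ⟨fun ⟨g, hg⟩ => by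
        obtain ⟨v, rfl⟩ := (mem_AA h).1 hg
        exact ⟨v, rfl⟩, by rw [sd.card]; simp⟩
    exact fun v w e => this.1 (Subtype.ext e)
  · simpa only [ev_z] using cm v (1, 0, 0, 0)
  · simpa only [ev_a] using cm v (0, 1, 0, 0)
  · rw [ev_z, sd.ρz]; exact ev_a.symm
  · rw [ev_a, sd.ρa, show mR (0, 1, 0, 0) = (0, 1, 0, 0) + (1, 0, 0, 0) by decide, add, ev_a, ev_z]
  · rw [ev_t, sd.ρt]; exact ev_t.symm
  · rw [ev_f, sd.ρf]; exact ev_f.symm
  · rw [ev_z, ← h.c2, mul_inv_cancel_right]; exact ev_z.symm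
  · rw [ev_a, show mS (0, 1, 0, 0) = (0, 1, 0, 0) + (1, 0, 0, 0) by decide, add, ev_a, ev_z, h.r, mul_assoc a1,
      ← h.c2, ← mul_assoc, mul_inv_cancel_right]
  · rw [ev_t, mem_cent1.1 (h.sylT.le h.a2T), mul_inv_cancel_right]; exact ev_t.symm
  · rw [ev_f, ← h.fa2, mul_inv_cancel_right]; exact ev_f.symm
  · rw [← MulAut.mul_apply, ← map_mul, h.s2, map_one, MulAut.one_apply]
  · rw [← MulAut.mul_apply, ← MulAut.mul_apply, ← map_mul, ← map_mul, MulAut.conj_apply, ← pow_three', h8 q hq,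
      mul_inv_cancel_right]
  · rw [← MulAut.mul_apply, ← MulAut.mul_apply, ← MulAut.mul_apply, ← map_mul, ← map_mul, ← map_mul,
      MulAut.conj_apply, h7 q hq, mul_inv_cancel_right]
  · have k := cjv (n := n) add m1 (by rw [ev_z, hn.2.1]) (by rw [m4, ev_a, hn.2.2.1]) (by rw [ev_t, hn.1])
      (by rw [m5, ev_f, hn.2.2.2])
    obtain ⟨q, hq, hc⟩ := h5 n (mem_normalizer_fintype fun g hg => by
      obtain ⟨v, rfl⟩ := (mem_AA h).1 hg
      exact (mem_AA h).2 ⟨_, k v⟩) (by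
        rw [hn.2.1]
        exact m3.imp (fun e => by rw [e, ev_z]) fun e => by rw [e, add, ev_z, ev_f]) (.inl hn.2.2.1)
    refine ⟨q, hq, fun v => ?_⟩
    have := hc _ ((mem_AA h).2 ⟨m v, rfl⟩)
    have e := k (m v)
    rw [m2] at e
    calc _ = q * (q⁻¹ * n * ev z a1 t f (m v)) * (q⁻¹ * n)⁻¹ := by rw [← e]; group
      _ = _ := by rw [← this]; group

theorem gen_card (h : CB F O K T C0 t z a1 a2 f) (hP : SylIn 2 P 𝒩(AA t z a1 f)) (hT : TT t a1 a2 f ≤ P)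
    (inj : Function.Injective (ev z a1 t f)) {s : Set G} (hs : Orb t (AA t z a1 f) s) (L : Finset V)
    (hL : ∀ y ∈ s, ∃ v ∈ L, y = ev z a1 t f v) (h1 : P' ≤ P) (h2 : TT t a1 a2 f ≤ P')
    (hw : ∀ v ∈ L, ∃ w ∈ P', ∃ m, Ac (ev z a1 t f) w m ∧ m (vt + v) = vt) :
    P = P' ∧ Nat.card P = L.card * 32 := by
  have hw' : ∀ v : L, ∃ w ∈ P', w * t * w⁻¹ = t * ev z a1 t f v := fun ⟨v, hv⟩ => by
    obtain ⟨w, k1, m, k2, k3⟩ := hw v hv
    exact ⟨w, k1, by simpa only [ev_add h, ev_t] using k2.cj k3⟩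
  choose w w1 w2 using hw'
  have C : 𝒞[t] ⊓ P = TT t a1 a2 f := h.sylN.eq_of_le (hP.isP.to_le inf_le_right)
    (inf_le_inf_left _ hP.le) (le_inf (h.sylN.le.trans inf_le_left) hT)
  have sj : ∀ p ∈ P, ∃ v : L, (w v)⁻¹ * p ∈ TT t a1 a2 f := fun p hp => by
    obtain ⟨v, hv, e⟩ := hL (t⁻¹ * (p * t * p⁻¹)) ((hs _).1 ⟨p, hP.le hp, by rw [mul_inv_cancel_left]⟩)
    refine ⟨⟨v, hv⟩, C.le (mem_inf.2 ⟨mem_cent1.2 ?_, mul_mem (inv_mem (h1 (w1 _))) hp⟩)⟩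
    have := w2 ⟨v, hv⟩
    rw [← e, mul_inv_cancel_left] at this
    calc _ = (w ⟨v, hv⟩)⁻¹ * (p * t * p⁻¹) * p := by group
      _ = _ := by rw [← this]; group
  refine ⟨le_antisymm (fun p hp => ?_) h1, ?_⟩
  · obtain ⟨v, hv⟩ := sj p hp
    exact (mul_mem_cancel_left (inv_mem (w1 v))).1 (h2 hv)
  · rw [← h.cardT0, ← Fintype.card_coe, ← Nat.card_eq_fintype_card, ← Nat.card_prod]
    refine (Nat.card_eq_of_bijective (fun x : L × TT t a1 a2 f => (⟨w x.1 * x.2, mul_mem (h1 (w1 _)) (hT x.2.2)⟩ : P))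
      ⟨fun ⟨v, k⟩ ⟨v', k'⟩ e => ?_, fun ⟨p, hp⟩ => ?_⟩).symm
    · have e : w v * k = w v' * k' := congrArg Subtype.val e
      have c : ∀ (v : L) (k : TT t a1 a2 f), w v * k * t * (w v * k)⁻¹ = t * ev z a1 t f v := fun v k => by
        rw [← w2, mul_assoc (w v), mem_cent1.1 (C.ge k.2).1]; group
      obtain rfl : v = v' := Subtype.ext (inj (mul_left_cancel (a := t) (by rw [← c v k, e, c])))
      exact Prod.ext rfl (Subtype.ext (mul_left_cancel e))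
    · obtain ⟨v, hv⟩ := sj p hp
      exact ⟨⟨v, _, hv⟩, Subtype.ext (mul_inv_cancel_left _ _)⟩

omit [Finite G] in
theorem gens (h : CB F O K T C0 t z a1 a2 f) (hT : TT t a1 a2 f ≤ P) :
    z ∈ P ∧ a1 ∈ P ∧ a2 ∈ P ∧ t ∈ P ∧ f ∈ P := by
  have k1 : a1 ∈ P := hT (subset_closure (by simp))
  have k2 : a2 ∈ P := hT (subset_closure (by simp))
  have e : z = (a1 * a2)⁻¹ * (a2 * a1) := by rw [h.r, inv_mul_cancel_left]
  exact ⟨e ▸ mul_mem (inv_mem (mul_mem k1 k2)) (mul_mem k2 k1), k1, k2, hT (subset_closure (by simp)),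
    hT (subset_closure (by simp))⟩

theorem ce (h : CB F O K T C0 t z a1 a2 f) {ρ u : G} {i k : ZMod 2} (ac : Ac (ev z a1 t f) u mU)
    (r : MulAut.conj ρ u = u) (h1 : u * u = ev z a1 t f (0, 0, 0, i))
    (h2 : MulAut.conj a2 u = u * ev z a1 t f (0, 0, 0, k)) :
    Ce t z a1 a2 f ρ u (decide (i = 1)) (decide (k = 1)) where
  ct := by
    have := ac.cj (v := vt + (0, 0, 0, 1)) (w := vt) (by decide)
    rwa [ev_add h, ev_t, ev_f] at this
  cz := by simpa only [ev_z] using ac.cm (v := (1, 0, 0, 0)) (by decide)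
  ca := by simpa only [ev_a] using ac.cm (v := (0, 1, 0, 0)) (by decide)
  cf := by simpa only [ev_f] using ac.cm (v := (0, 0, 0, 1)) (by decide)
  cρ := (mul_inv_eq_iff_eq_mul.1 r).symm
  cc := h1.trans (ev_pf i)
  ac := by rwa [ev_pf, MulAut.conj_apply, inv_eq_of_mul_eq_one_right h.s2] at h2

theorem actU (h : CB F O K T C0 t z a1 a2 f) {u : G} (hu : Act u t z a1 f (t * f) z a1) :
    Act u t z a1 f (ev z a1 t f (mU vt)) (ev z a1 t f (mU (1, 0, 0, 0))) a1 := by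
  rwa [show mU vt = vt + (0, 0, 0, 1) by decide, show mU (1, 0, 0, 0) = (1, 0, 0, 0) by decide, ev_add h, ev_t,
    ev_f, ev_z]

end Cfsg.Agent.DIH.LX
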