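/-
Project DIH: generators and relations of a Sylow 2-subgroup of `N(A)`, linear types.
-/
import Cfsg.Agent.DIH.Defs
import Cfsg.Agent.DIH.LocY

set_option autoImplicit false

namespace Cfsg.Agent.DIH

open Subgroup H49 LX
open H42 (SylIn)

variable {G : Type*} [Group G] [Finite G] {F O K T C0 P P1 P2 S : Subgroup G}
  {t z a a' a1 a2 f : G}

theorem CB.ll_lin (h : CB F O K T C0 t z a1 a2 f) (ty : TyC t z a1 f) {Q : Subgroup G} {ρ y : G}
    (sd : Sd t z a1 f ρ) (c : Cx Q (ev z a1 t f) (MulAut.conj ρ) (MulAut.conj a2)) (hy : y ∈ Q)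
    (ac : Ac (ev z a1 t f) y mX) : ∃ x ∈ Q, Ac (ev z a1 t f) x mX ∧ N (MulAut.conj ρ) x = 1 ∧ ∃ e l : ZMod 2,
      MulAut.conj ρ x = MulAut.conj a2 x * ev z a1 t f (0, 0, 0, e) ∧
      Lin t z a1 a2 f ρ x (decide (e = 1)) (decide (l = 1)) := by
  obtain ⟨x, hx, ac, n, e, l, h1, h2, h3, h4⟩ := c.lin hy ac
  refine ⟨x, hx, ac, n, e, l, h3, ?_⟩
  simp only [MulAut.conj_apply, inv_eq_of_mul_eq_one_right h.s2, ev_pf] at h2 h3 h4
  exact ⟨sd, ty,
    by have k := ac.cj (v := vt + (0, 1, 0, 0)) (w := vt) (by decide); rwa [c.add, ev_t, ev_a] at k,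
    by simpa only [ev_z] using ac.cm (v := (1, 0, 0, 0)) (by decide),
    by simpa only [ev_a] using ac.cm (v := (0, 1, 0, 0)) (by decide),
    by simpa only [ev_f] using ac.cm (v := (0, 0, 0, 1)) (by decide),
    by rw [h1, ← ev_pf (z := z) (a := a1) (t := t), ← ev_pa (z := z) (t := t) (f := f), ← c.add]; simp,
    h2, h3, h4⟩

theorem CB.ll_act (h : CB F O K T C0 t z a1 a2 f) {u : G} (hu : Act u t z a1 f (t * a1) z a1) :
    Act u t z a1 f (ev z a1 t f (mX vt)) (ev z a1 t f (mX (1, 0, 0, 0))) a1 := by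
  rwa [show mX vt = vt + (0, 1, 0, 0) by decide, show mX (1, 0, 0, 0) = (1, 0, 0, 0) by decide, ev_add h, ev_t,
    ev_a, ev_z]

theorem CB.l4 (h : CB F O K T C0 t z a1 a2 f) (ty : Ty4 t z a1 f) (hP : SylIn 2 P 𝒩(AA t z a1 f))
    (hT : TT t a1 a2 f ≤ P) : ∃ (ρ x : G) (ε l : Bool), L4 P t z a1 a2 f ρ x ε l := by
  obtain ⟨Q, ρ, sd, QP, c, hq⟩ := setup h ty.toTyC hP hT
  obtain ⟨x0, hx0⟩ := ty.exx
  obtain ⟨y, hy, ac⟩ := hq x0 mX (by decide) (by decide) (by decide) (by decide) (by decide) (h.ll_act hx0)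
  obtain ⟨x, hx, ac, -, e, l, -, L⟩ := h.ll_lin ty.toTyC sd c hy ac
  obtain ⟨g1, g2, g3, g4, g5⟩ := gens h hT
  have m1 : x ∈ closure {z, a1, a2, t, f, x} := subset_closure (by simp)
  have m2 : a2 ∈ closure {z, a1, a2, t, f, x} := subset_closure (by simp)
  have m3 := mul_mem (mul_mem m2 m1) (inv_mem m2)
  obtain ⟨k1, k2⟩ := gen_card (P' := closure {z, a1, a2, t, f, x}) h hP hT c.inj ty.orb
    {0, (1, 0, 0, 0), (0, 1, 0, 0), (0, 1, 0, 0) + (1, 0, 0, 0)} (by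
      rintro y (rfl | rfl | rfl | rfl)
      exacts [⟨_, by simp, c.zero.symm⟩, ⟨_, by simp, ev_z.symm⟩, ⟨_, by simp, ev_a.symm⟩,
        ⟨(0, 1, 0, 0) + (1, 0, 0, 0), by decide, by rw [c.add, ev_a, ev_z]⟩])
    ((closure_le _).2 (by simp [Set.insert_subset_iff, QP hx, *])) (closure_mono (by simp [Set.insert_subset_iff]))
    fun v hv => by
      simp only [Finset.mem_insert, Finset.mem_singleton] at hv
      rcases hv with rfl | rfl | rfl | rfl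
      exacts [⟨1, one_mem _, _, ac_one, by decide⟩, ⟨_, mul_mem m1 m3, _, ac.mul (c.acS ac), by decide⟩,
        ⟨_, m1, _, ac, by decide⟩, ⟨_, m3, _, c.acS ac, by decide⟩]
  exact ⟨ρ, x, _, _, L, ty, k1, hP, k2⟩

theorem CB.l6 (h : CB F O K T C0 t z a1 a2 f) (ty : Ty6 t z a1 f) (hP : SylIn 2 P 𝒩(AA t z a1 f))
    (hT : TT t a1 a2 f ≤ P) : ∃ (ρ x c : G) (ε l η κ : Bool), L6 P t z a1 a2 f ρ x c ε l η κ := by
  obtain ⟨Q, ρ, sd, QP, c, hq⟩ := setup h ty.toTyC hP hT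
  obtain ⟨x0, hx0⟩ := ty.exx
  obtain ⟨u0, hu0⟩ := ty.exu
  obtain ⟨y, hy, ac⟩ := hq x0 mX (by decide) (by decide) (by decide) (by decide) (by decide) (h.ll_act hx0)
  obtain ⟨y', hy', ac'⟩ := hq u0 mU (by decide) (by decide) (by decide) (by decide) (by decide) (actU h hu0)
  obtain ⟨x, hx, ac, n, e, l, r, L⟩ := h.ll_lin ty.toTyC sd c hy ac
  obtain ⟨u, hu, au, u1, u2, i, k, u3, u4⟩ := c.linU hx ac n r hy' ac'
  have E := ce h au u1 u3 u4
  obtain ⟨g1, g2, g3, g4, g5⟩ := gens h hT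
  have m0 : u ∈ closure {z, a1, a2, t, f, x, u} := subset_closure (by simp)
  have m1 : x ∈ closure {z, a1, a2, t, f, x, u} := subset_closure (by simp)
  have m2 : a2 ∈ closure {z, a1, a2, t, f, x, u} := subset_closure (by simp)
  have m3 := mul_mem (mul_mem m2 m1) (inv_mem m2)
  obtain ⟨k1, k2⟩ := gen_card (P' := closure {z, a1, a2, t, f, x, u}) h hP hT c.inj ty.orb _
    (fun y hy => mem_HH h hy) ((closure_le _).2 (by simp [Set.insert_subset_iff, QP hx, QP hu, *]))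
    (closure_mono (by simp [Set.insert_subset_iff])) fun v hv => by
      rcases (by decide : ∀ v ∈ Finset.univ.filter fun v : V => v.2.2.1 = 0, v = 0 ∨ v = (1, 0, 0, 0) ∨
        v = (0, 1, 0, 0) ∨ v = (1, 1, 0, 0) ∨ v = (0, 0, 0, 1) ∨ v = (1, 0, 0, 1) ∨ v = (0, 1, 0, 1) ∨
        v = (1, 1, 0, 1)) v hv with rfl | rfl | rfl | rfl | rfl | rfl | rfl | rfl
      exacts [⟨1, one_mem _, _, ac_one, by decide⟩, ⟨_, mul_mem m1 m3, _, ac.mul (c.acS ac), by decide⟩,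
        ⟨_, m1, _, ac, by decide⟩, ⟨_, m3, _, c.acS ac, by decide⟩, ⟨_, m0, _, au, by decide⟩,
        ⟨_, mul_mem (mul_mem m1 m3) m0, _, (ac.mul (c.acS ac)).mul au, by decide⟩,
        ⟨_, mul_mem m1 m0, _, ac.mul au, by decide⟩, ⟨_, mul_mem m3 m0, _, (c.acS ac).mul au, by decide⟩]
  exact ⟨ρ, x, u, _, _, _, _, L, E, u2, ty, k1, hP, k2⟩

end Cfsg.Agent.DIH
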