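/-
Project DIH: computable models of 2-groups given by consistent polycyclic presentations.
-/
import Cfsg.Agent.H80M.Pc
import Cfsg.Agent.H49.Basic

set_option autoImplicit false

noncomputable section

namespace Cfsg.Agent.DIH

open H14 (force force_eq allN allN_iff beq_iff ble_iff)
open H63 (nf map_nf nf_add nf_zero' pcS mem_pcS)
open H80M

/-- a polycyclic presentation: `tw i i` codes the square of the generator `i`, `tw i j` (`j < i`) codes
`(s i)⁻¹ * s j * s i`, `iv i` codes the inverse; bit `k` stands for `s k`, highest generator first -/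
structure PD where
  N : ℕ
  tw : ℕ → ℕ → ℕ
  iv : ℕ → ℕ
  rt : ℕ
  r0 : ℕ
  r1 : ℕ
  r2 : ℕ

/-- table look-up with `16` bits per entry -/
def lk (T : ℕ) (i : ℕ) : ℕ := Nat.mod (Nat.shiftRight T (Nat.mul (nat_lit 16) i)) (nat_lit 65536)

/-- a presentation from packed tables (entry `16 i + j` of `T` is `tw i j`, entry `2 ^ N * g + a` of `R` is
the product of `a` and the generator `g`, entry `2 ^ N * v + a` of `Rc` the product of `a` and `16 ^ c * v`) -/
def PD.ofNat (N T I R R0 R1 R2 : ℕ) : PD :=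
  ⟨N, fun i j => lk T (Nat.add (Nat.mul (nat_lit 16) i) j), lk I, R, R0, R1, R2⟩

namespace PD
variable (D : PD)

/-- product of codes, letter by letter -/
def mu0 (a b : ℕ) : ℕ := force b fun b => force a fun a =>
  Nat.mod (Nat.rec (motive := fun _ => ℕ → ℕ) (fun R => R)
    (fun i ih R => Bool.rec (force (lk D.rt (Nat.add (Nat.shiftLeft i D.N) R)) ih) (ih R)
      (Nat.beq (Nat.mod (Nat.shiftRight b i) (nat_lit 2)) (nat_lit 0))) D.N a) (Nat.pow (nat_lit 2) D.N)

/-- product of codes -/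
def mu (a b : ℕ) : ℕ := force b fun b =>
  Nat.mod (lk D.r0 (Nat.add (Nat.shiftLeft (Nat.mod b (nat_lit 16)) D.N)
    (lk D.r1 (Nat.add (Nat.shiftLeft (Nat.mod (Nat.shiftRight b (nat_lit 4)) (nat_lit 16)) D.N)
      (lk D.r2 (Nat.add (Nat.shiftLeft (Nat.shiftRight b (nat_lit 8)) D.N) a)))))) (Nat.pow (nat_lit 2) D.N)

/-- test of a product table -/
def okT (R c m : ℕ) : Bool := allN m fun v => Bool.rec true
  (allN (Nat.pow (nat_lit 2) D.N) fun a =>
    Nat.beq (lk R (Nat.add (Nat.shiftLeft v D.N) a)) (D.mu0 a (Nat.mul v c)))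
  (Nat.ble (Nat.succ (Nat.mul v c)) (Nat.pow (nat_lit 2) D.N))

/-- inverse of a code -/
def nv (a : ℕ) : ℕ := force a fun a => Nat.rec (motive := fun _ => ℕ) (nat_lit 0)
  (fun i R => force R fun R => Bool.rec (D.mu R (D.iv i)) R
    (Nat.beq (Nat.mod (Nat.shiftRight a i) (nat_lit 2)) (nat_lit 0))) D.N

/-- the consistency test -/
def ok : Bool := (Nat.ble D.N (nat_lit 12) && (D.okT D.r0 (nat_lit 1) (nat_lit 16) &&
  (D.okT D.r1 (nat_lit 16) (nat_lit 16) && D.okT D.r2 (nat_lit 256) (nat_lit 16)))) &&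
  ((allN D.N fun i => allN (Nat.succ i) fun j => Nat.ble (Nat.succ (D.tw i j)) (Nat.pow (nat_lit 2) i)) &&
  ((allN D.N fun g => lev D.N (Nat.pow (nat_lit 2) D.N) D.tw g) &&
  allN D.N fun i => Nat.ble (Nat.succ (D.iv i)) (Nat.pow (nat_lit 2) D.N) &&
    (Nat.beq (D.mu (Nat.pow (nat_lit 2) i) (D.iv i)) (nat_lit 0) &&
      allN (Nat.pow (nat_lit 2) D.N) fun a => Nat.beq (lk D.rt (Nat.add (Nat.shiftLeft i D.N) a))
        (Nat.mod (mulG D.N D.tw (fun _ _ => nat_lit 0) D.N a i) (Nat.pow (nat_lit 2) D.N)))))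

/-- the presentation is consistent -/
class OK : Prop where
  ok : D.ok = true

variable {D} {G : Type*} [Group G] {s : ℕ → G}

theorem ok_lt [h : D.OK] : ∀ i < D.N, ∀ j ≤ i, D.tw i j < 2 ^ i := fun i hi j hj => by
  have := h.ok
  simp only [ok, Bool.and_eq_true, allN_iff, ble_iff] at this
  exact this.2.1 i hi j (Nat.lt_succ_of_le hj)

theorem nf_mu0 [k : D.OK] (h : Rel D.N D.tw s D.N) {a b : ℕ} (ha : a < 2 ^ D.N) (hb : b < 2 ^ D.N) :
    nf 2 D.N s (D.mu0 a b) = nf 2 D.N s a * nf 2 D.N s b := by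
  have k := k.ok
  simp only [ok, Bool.and_eq_true, allN_iff, ble_iff, beq_iff] at k
  let F : ℕ → ℕ → ℕ := fun n => Nat.rec (motive := fun _ => ℕ → ℕ) (fun R => R)
    (fun i ih R => Bool.rec (force (lk D.rt (Nat.add (Nat.shiftLeft i D.N) R)) ih) (ih R)
      (Nat.beq (Nat.mod (Nat.shiftRight b i) (nat_lit 2)) (nat_lit 0))) n
  have e : D.mu0 a b = F D.N a % 2 ^ D.N := by unfold mu0; rw [force_eq, force_eq]; rfl
  suffices H : ∀ n ≤ D.N, ∀ R < 2 ^ D.N, F n R < 2 ^ D.N ∧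
      nf 2 D.N s (F n R) = nf 2 D.N s R * nf 2 D.N s (b % 2 ^ n) by
    have := H _ le_rfl a ha
    rw [e, Nat.mod_eq_of_lt this.1, this.2, Nat.mod_eq_of_lt hb]
  intro n hn
  induction n with
  | zero => exact fun R hR => ⟨hR, by rw [pow_zero, Nat.mod_one, nf_zero', mul_one]; rfl⟩
  | succ n ih =>
    intro R hR
    have e1 : F (n + 1) R = Bool.rec (force (lk D.rt (Nat.add (Nat.shiftLeft n D.N) R)) (F n)) (F n R)
      (Nat.beq (Nat.mod (Nat.shiftRight b n) (nat_lit 2)) (nat_lit 0)) := rfl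
    have e2 : Nat.mod (Nat.shiftRight b n) (nat_lit 2) = b / 2 ^ n % 2 :=
      congrArg (· % 2) (Nat.shiftRight_eq_div_pow _ _)
    rw [e1, e2, pow_succ, Nat.mod_mul, add_comm, mul_comm (2 ^ n),
      nf_add two_pos _ _ _ _ _ (Nat.mod_lt _ (Nat.pow_pos two_pos))]
    rcases Nat.mod_two_eq_zero_or_one (b / 2 ^ n) with q | q <;> rw [q]
    · rw [zero_mul, nf_zero', one_mul]; exact ih (by omega) R hR
    · have k1 := (k.2.2.2 n hn).2.2 R hR
      have k2 := (h.cx le_rfl ok_lt).mulG_spec D.N R n hn hn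
      rw [Cx.val_word _ hR] at k2
      have k3 : nf 2 D.N s (lk D.rt (Nat.add (Nat.shiftLeft n D.N) R)) = nf 2 D.N s R * s n := by
        rw [k1]; exact (mul_one _).symm.trans k2
      have := ih (by omega) (lk D.rt (Nat.add (Nat.shiftLeft n D.N) R))
        (by rw [k1]; exact Nat.mod_lt _ (Nat.pow_pos two_pos))
      rw [k3, mul_assoc, ← nf_two_pow (n := D.N) s (show n < D.N from hn), ← force_eq _ (F n)] at this
      rw [one_mul]
      exact this

theorem mu_lt (a b : ℕ) : D.mu a b < 2 ^ D.N := by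
  unfold mu; rw [force_eq]; exact Nat.mod_lt _ (Nat.pow_pos two_pos)

theorem okT_spec [D.OK] (h : Rel D.N D.tw s D.N) {R c m v a : ℕ} (k : D.okT R c m = true) (hv : v < m)
    (hc : v * c < 2 ^ D.N) (ha : a < 2 ^ D.N) : lk R (Nat.add (Nat.shiftLeft v D.N) a) < 2 ^ D.N ∧
      nf 2 D.N s (lk R (Nat.add (Nat.shiftLeft v D.N) a)) = nf 2 D.N s a * nf 2 D.N s (v * c) := by
  have k1 := allN_iff.1 k v hv
  rw [show Nat.ble (Nat.succ (Nat.mul v c)) (Nat.pow (nat_lit 2) D.N) = true from ble_iff.2 hc] at k1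
  rw [beq_iff.1 (allN_iff.1 k1 a ha)]
  refine ⟨?_, nf_mu0 h ha hc⟩
  unfold mu0; rw [force_eq, force_eq]; exact Nat.mod_lt _ (Nat.pow_pos two_pos)

theorem nf_mu [k : D.OK] (h : Rel D.N D.tw s D.N) {a b : ℕ} (ha : a < 2 ^ D.N) (hb : b < 2 ^ D.N) :
    nf 2 D.N s (D.mu a b) = nf 2 D.N s a * nf 2 D.N s b := by
  have k := k.ok
  simp only [ok, Bool.and_eq_true, ble_iff] at k
  obtain ⟨⟨k0, k1, k2, k3⟩, -⟩ := k
  have hN : 2 ^ D.N ≤ 2 ^ 12 := Nat.pow_le_pow_right two_pos k0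
  have e1 : Nat.shiftRight b (nat_lit 8) = b / 256 := Nat.shiftRight_eq_div_pow _ _
  have e2 : Nat.shiftRight b (nat_lit 4) = b / 16 := Nat.shiftRight_eq_div_pow _ _
  obtain ⟨p2, q2⟩ := okT_spec h k3 (v := b / 256) (by omega) (by omega) ha
  obtain ⟨p1, q1⟩ := okT_spec h k2 (v := b / 16 % 16) (by omega)
    (by omega) p2
  obtain ⟨p0, q0⟩ := okT_spec h k1 (v := b % 16) (by omega) (by omega) p1
  unfold mu
  rw [force_eq, e1, e2]
  refine (congrArg (nf 2 D.N s) (Nat.mod_eq_of_lt p0)).trans (q0.trans ?_)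
  rw [q1, q2, mul_assoc, mul_assoc]
  congr 1
  change nf 2 D.N s (b / 256 * 2 ^ 8) * (nf 2 D.N s (b / 16 % 16 * 2 ^ 4) * nf 2 D.N s (b % 16 * 1)) = _
  rw [← nf_add two_pos 4 _ _ _ _ (by omega), ← nf_add two_pos 8 _ _ _ _ (by omega)]
  congr 1; omega

theorem nf_nv [k : D.OK] (h : Rel D.N D.tw s D.N) {a : ℕ} (ha : a < 2 ^ D.N) :
    D.nv a < 2 ^ D.N ∧ nf 2 D.N s (D.nv a) * nf 2 D.N s a = 1 := by
  have k := k.ok
  simp only [ok, Bool.and_eq_true, allN_iff, ble_iff, beq_iff] at k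
  let F : ℕ → ℕ := fun n => Nat.rec (motive := fun _ => ℕ) (nat_lit 0)
    (fun i R => force R fun R => Bool.rec (D.mu R (D.iv i)) R
      (Nat.beq (Nat.mod (Nat.shiftRight a i) (nat_lit 2)) (nat_lit 0))) n
  have e : D.nv a = F D.N := by unfold nv; rw [force_eq]
  suffices H : ∀ n ≤ D.N, F n < 2 ^ D.N ∧ nf 2 D.N s (F n) * nf 2 D.N s (a % 2 ^ n) = 1 by
    have := H _ le_rfl
    rwa [Nat.mod_eq_of_lt ha, ← e] at this
  intro n hn
  induction n with
  | zero => exact ⟨Nat.pow_pos two_pos, by rw [pow_zero, Nat.mod_one]; simp [F, nf_zero']⟩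
  | succ n ih =>
    obtain ⟨i1, i2⟩ := ih (by omega)
    have e1 : F (n + 1) = Bool.rec (D.mu (F n) (D.iv n)) (F n)
      (Nat.beq (Nat.mod (Nat.shiftRight a n) (nat_lit 2)) (nat_lit 0)) := force_eq _ _
    have e2 : Nat.mod (Nat.shiftRight a n) (nat_lit 2) = a / 2 ^ n % 2 :=
      congrArg (· % 2) (Nat.shiftRight_eq_div_pow _ _)
    rw [e1, e2, pow_succ, Nat.mod_mul, add_comm, mul_comm (2 ^ n),
      nf_add two_pos _ _ _ _ _ (Nat.mod_lt _ (Nat.pow_pos two_pos))]
    rcases Nat.mod_two_eq_zero_or_one (a / 2 ^ n) with q | q <;> rw [q]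
    · rw [zero_mul, nf_zero', one_mul]; exact ⟨i1, i2⟩
    · obtain ⟨k1, k2, -⟩ := k.2.2.2 n hn
      have k3 := nf_mu h (Nat.pow_lt_pow_right one_lt_two (show n < D.N from hn)) k1
      rw [show D.mu (2 ^ n) (D.iv n) = 0 from k2, nf_zero'] at k3
      refine ⟨mu_lt _ _, ?_⟩
      change nf 2 D.N s (D.mu (F n) (D.iv n)) * _ = 1
      rw [nf_mu h i1 k1, one_mul, eq_inv_of_mul_eq_one_right k3.symm, mul_assoc, inv_mul_cancel_left, i2]

theorem nf_inj {N n : ℕ} (hn : n ≤ N) (hf : ∀ i < n, s i ∉ pcS s ⊥ i) {a b : ℕ} (ha : a < 2 ^ n)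
    (hb : b < 2 ^ n) (e : nf 2 N s a = nf 2 N s b) : a = b := by
  induction n generalizing a b with
  | zero => omega
  | succ n ih =>
    have p : 0 < 2 ^ n := Nat.pow_pos two_pos
    have d : ∀ c < 2 ^ (n + 1), c < 2 ^ n ∨ ∃ u < 2 ^ n, c = 1 * 2 ^ n + u ∧
        nf 2 N s c = s n * nf 2 N s u := fun c hc => by
      by_cases q : c < 2 ^ n
      · exact Or.inl q
      · refine Or.inr ⟨c - 2 ^ n, by omega, by omega, ?_⟩
        rw [← nf_two_pow (n := N) s (show n < N from hn), ← one_mul (2 ^ n),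
          ← nf_add two_pos n _ _ _ _ (by omega)]
        congr 1; omega
    have m : ∀ {u v}, u < 2 ^ n → v < 2 ^ n → s n * nf 2 N s u ≠ nf 2 N s v := fun hu hv q =>
      hf n n.lt_succ_self (by
        rw [eq_mul_inv_of_mul_eq q]; exact mul_mem (nf_mem_pcS hv) (inv_mem (nf_mem_pcS hu)))
    have ih := @ih (by omega) fun i hi => hf i (by omega)
    rcases d a ha with h1 | ⟨u, hu, rfl, e1⟩ <;> rcases d b hb with h2 | ⟨v, hv, rfl, e2⟩
    · exact ih h1 h2 e
    · exact (m hv h1 (e2.symm.trans e.symm)).elim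
    · exact (m hu h2 (e1.symm.trans e)).elim
    · rw [ih hu hv (mul_left_cancel (e1.symm.trans (e.trans e2)))]

end PD

/-- the group of the presentation -/
@[ext] structure PM (D : PD) where
  v : ℕ
  lt : v < 2 ^ D.N

namespace PM
variable {D : PD}

/-- the element with a given code -/
def el (D : PD) (n : ℕ) : PM D := ⟨Nat.mod n (Nat.pow (nat_lit 2) D.N), Nat.mod_lt _ (Nat.pow_pos two_pos)⟩

instance instDecEq : DecidableEq (PM D) := fun a b =>
  decidable_of_iff (Nat.beq a.v b.v = true) (beq_iff.trans PM.ext_iff.symm)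

instance instDecAll (p : PM D → Prop) [DecidablePred p] : Decidable (∀ a, p a) :=
  decidable_of_iff ((allN (Nat.pow (nat_lit 2) D.N) fun i => decide (p (el D i))) = true) (by
    simp only [allN_iff, decide_eq_true_iff]
    exact ⟨fun h a => (PM.ext (Nat.mod_eq_of_lt a.lt) : el D a.v = a) ▸ h a.v a.lt, fun h _ _ => h _⟩)

instance instDecEx (p : PM D → Prop) [DecidablePred p] : Decidable (∃ a, p a) :=
  decidable_of_iff (¬ ∀ a, ¬ p a) (by simp)

instance instMul : Mul (PM D) := ⟨fun a b => ⟨D.mu a.v b.v, PD.mu_lt _ _⟩⟩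
instance instOne : One (PM D) := ⟨el D (nat_lit 0)⟩
instance instInv : Inv (PM D) := ⟨fun a => el D (D.nv a.v)⟩

theorem exists_val [k : D.OK] : ∃ (H : Type) (_ : Group H) (f : PM D → H), Function.Injective f ∧
    f 1 = 1 ∧ (∀ a b, f (a * b) = f a * f b) ∧ ∀ a, f a⁻¹ * f a = 1 := by
  have k' := k.ok
  simp only [PD.ok, Bool.and_eq_true, allN_iff] at k'
  obtain ⟨H, _, _, s, h1, h2, -⟩ := exists_pc PD.ok_lt k'.2.2.1
  refine ⟨H, inferInstance, fun a => nf 2 D.N s a.v, fun a b e => PM.ext (PD.nf_inj le_rfl h2 a.lt b.lt e),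
    nf_zero' _ _ _, fun a b => PD.nf_mu h1 a.lt b.lt, fun a => ?_⟩
  obtain ⟨q1, q2⟩ := PD.nf_nv h1 a.lt
  exact (congrArg (fun x => nf 2 D.N s x * _) (Nat.mod_eq_of_lt q1)).trans q2

instance instGroup [D.OK] : Group (PM D) := Group.ofLeftAxioms
  (fun a b c => by
    obtain ⟨H, _, f, h, -, h2, -⟩ := exists_val (D := D)
    exact h (by simp only [h2, mul_assoc]))
  (fun a => by
    obtain ⟨H, _, f, h, h1, h2, -⟩ := exists_val (D := D)
    exact h (by rw [h2, h1, one_mul]))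
  (fun a => by
    obtain ⟨H, _, f, h, h1, h2, h3⟩ := exists_val (D := D)
    exact h (by rw [h2, h1, h3]))

theorem card_eq : Nat.card (PM D) = 2 ^ D.N :=
  (Nat.card_congr (⟨fun a => ⟨a.v, a.lt⟩, fun a => ⟨a.1, a.2⟩, fun _ => rfl, fun _ => rfl⟩ :
    PM D ≃ Fin (2 ^ D.N))).trans (Nat.card_fin _)

instance instFinite : Finite (PM D) :=
  Nat.finite_of_card_ne_zero (by rw [card_eq]; exact (Nat.pow_pos two_pos).ne')

theorem isPGroup [D.OK] : IsPGroup 2 (PM D) := IsPGroup.of_card card_eq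

variable [D.OK] {G : Type*} [Group G] {s : ℕ → G}

/-- the homomorphism given by elements satisfying the relations -/
def hom (h : Rel D.N D.tw s D.N) : PM D →* G :=
  MonoidHom.mk' (fun a => nf 2 D.N s a.v) fun a b => PD.nf_mu h a.lt b.lt

theorem hom_apply (h : Rel D.N D.tw s D.N) (a : PM D) : hom h a = nf 2 D.N s a.v := rfl

theorem hom_gen (h : Rel D.N D.tw s D.N) {i : ℕ} (hi : i < D.N) : hom h (el D (2 ^ i)) = s i :=
  (congrArg (nf 2 D.N s) (Nat.mod_eq_of_lt (Nat.pow_lt_pow_right one_lt_two hi))).trans (nf_two_pow s hi)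

theorem hom_range (h : Rel D.N D.tw s D.N) : (hom h).range = pcS s ⊥ D.N :=
  le_antisymm (by rintro _ ⟨a, rfl⟩; exact nf_mem_pcS a.lt)
    (pcS_le (fun j hj => ⟨_, hom_gen h hj⟩) bot_le)

/-- the generators of the model satisfy the relations -/
theorem rel_self : Rel D.N D.tw (fun i => el D (2 ^ i)) D.N ∧
    ∀ a : PM D, nf 2 D.N (fun i => el D (2 ^ i)) a.v = a := by
  have k' := (inferInstance : D.OK).ok
  simp only [PD.ok, Bool.and_eq_true, allN_iff] at k'
  obtain ⟨H, _, _, s, h1, h2, h3⟩ := exists_pc PD.ok_lt k'.2.2.1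
  have b : Function.Injective (hom h1) := fun a b e => PM.ext (PD.nf_inj le_rfl h2 a.lt b.lt e)
  have q : ∀ W < 2 ^ D.N, hom h1 (nf 2 D.N (fun i => el D (2 ^ i)) W) = nf 2 D.N s W := fun W hW => by
    rw [map_nf]; exact nf_lt _ hW fun l hl => hom_gen h1 hl
  refine ⟨fun i hi j hj => b ?_, fun a => b (q _ a.lt)⟩
  rw [q _ ((PD.ok_lt i hi j hj).trans (Nat.pow_lt_pow_right one_lt_two hi)), ← h1 i hi j hj, map_lhs, lhs, lhs,
    hom_gen h1 hi, hom_gen h1 (hj.trans_lt hi)]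

theorem map_eq_nf (f : PM D →* G) (a : PM D) : f a = nf 2 D.N (fun i => f (el D (2 ^ i))) a.v := by
  rw [← map_nf, rel_self.2]

theorem ext_gen {f g : PM D →* G} (e : ∀ i < D.N, f (el D (2 ^ i)) = g (el D (2 ^ i))) : f = g :=
  MonoidHom.ext fun a => by rw [map_eq_nf f, map_eq_nf g]; exact nf_lt _ a.lt e

theorem range_le {f : PM D →* G} {K : Subgroup G} (e : ∀ i < D.N, f (el D (2 ^ i)) ∈ K) : f.range ≤ K := by
  rintro _ ⟨a, rfl⟩
  rw [map_eq_nf]
  exact H63.nf_induction (· ∈ K) (one_mem _) (fun _ _ => mul_mem) D.N _ _ e _ a.lt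

theorem nf_mono {n N W : ℕ} (h : n ≤ N) (hW : W < 2 ^ n) : nf 2 N s W = nf 2 n s W := by
  induction n generalizing N W s with
  | zero => rw [show W = 0 by omega, nf_zero', nf_zero']
  | succ n ih =>
    obtain ⟨N, rfl⟩ : ∃ M, N = M + 1 := ⟨N - 1, by omega⟩
    rw [H63.nf_succ, H63.nf_succ, ih (by omega) (by omega)]

/-- adjoin one generator -/
theorem extend {D' : PD} [D'.OK] (f : PM D →* G) (hN : D'.N = D.N + 1)
    (htw : ∀ i < D.N, ∀ j ≤ i, D'.tw i j = D.tw i j) (w : G)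
    (hc : ∀ j < D.N, w⁻¹ * f (el D (2 ^ j)) * w = f (el D (D'.tw D.N j)))
    (hs : w * w = f (el D (D'.tw D.N D.N))) : ∃ g : PM D' →* G,
      (∀ a < 2 ^ D.N, g (el D' a) = f (el D a)) ∧ g (el D' (2 ^ D.N)) = w := by
  let u : ℕ → G := fun i => if i = D.N then w else f (el D (2 ^ i))
  have e1 : ∀ j < D.N, u j = f (el D (2 ^ j)) := fun j hj => if_neg hj.ne
  have e2 : u D.N = w := if_pos rfl
  have e3 : ∀ a < 2 ^ D.N, nf 2 D'.N u a = f (el D a) := fun a ha => by
    rw [map_eq_nf, show (el D a).v = a from Nat.mod_eq_of_lt ha, nf_mono (by omega) ha]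
    exact nf_lt _ ha e1
  have h : Rel D'.N D'.tw u D'.N := fun i hi j hj => by
    rcases Nat.lt_succ_iff_lt_or_eq.1 (hN ▸ hi) with h1 | rfl
    · have q := (PD.ok_lt i h1 j hj).trans (Nat.pow_lt_pow_right one_lt_two h1)
      rw [htw i h1 j hj, e3 _ q, map_eq_nf, show (el D (D.tw i j)).v = _ from Nat.mod_eq_of_lt q,
        ← rel_self.1.map f i h1 j hj, lhs, lhs, e1 i h1, e1 j (hj.trans_lt h1)]
    · rw [e3 _ (PD.ok_lt _ hi j hj), lhs, e2]
      split_ifs with h2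
      · rw [h2, hs]
      · rw [e1 j (by omega), hc j (by omega)]
  refine ⟨hom h, fun a ha => ?_, (hom_gen h (by omega)).trans e2⟩
  rw [hom_apply, show (el D' a).v = a from Nat.mod_eq_of_lt
    (ha.trans (Nat.pow_lt_pow_right one_lt_two (by omega))), e3 a ha]

theorem inj_of_card (f : PM D →* G) (h : Nat.card f.range = 2 ^ D.N) : Function.Injective f := by
  have := (Nat.bijective_iff_surjective_and_card f.rangeRestrict).2
    ⟨f.rangeRestrict_surjective, card_eq.trans h.symm⟩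
  exact fun a b e => this.1 (Subtype.ext e)

theorem card_range {f : PM D →* G} (h : Function.Injective f) : Nat.card f.range = 2 ^ D.N :=
  (Nat.card_congr (MonoidHom.ofInjective h).toEquiv).symm.trans card_eq

/-- a homomorphism that is faithful on the central involutions is injective -/
theorem inj_of_center (f : PM D →* G)
    (h : ∀ a : PM D, a * a = 1 → (∀ i < D.N, a * el D (2 ^ i) = el D (2 ^ i) * a) → f a = 1 → a = 1) :
    Function.Injective f := by
  have : Fact (Nat.Prime 2) := ⟨Nat.prime_two⟩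
  rw [← MonoidHom.ker_eq_bot_iff]
  by_contra n
  have : Nontrivial f.ker := (Subgroup.nontrivial_iff_ne_bot _).2 n
  obtain ⟨⟨b, hb⟩, h1, h2⟩ : ∃ b : f.ker, b ≠ 1 ∧ ∀ g : PM D, g * b * g⁻¹ = b := by
    have hp : IsPGroup 2 (ConjAct (PM D)) := isPGroup
    obtain ⟨k, hk0, hk⟩ := (isPGroup.to_subgroup f.ker).nontrivial_iff_card.1 this
    obtain ⟨b, hb, e⟩ := hp.exists_fixed_point_of_prime_dvd_card_of_fixed_point f.ker
      (hk ▸ dvd_pow_self 2 hk0.ne') (a := 1) (fun g => smul_one g)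
    exact ⟨b, e.symm, fun g => congrArg Subtype.val (hb (ConjAct.toConjAct g))⟩
  obtain ⟨k, hk⟩ := isPGroup (D := D) b
  induction k generalizing b with
  | zero => exact h1 (Subtype.ext (by simpa using hk))
  | succ k ih =>
    by_cases q : b * b = 1
    · exact h1 (Subtype.ext (h b q (fun i _ => (mul_inv_eq_iff_eq_mul.1 (h2 _)).symm) hb))
    · exact ih (b * b) (mul_mem hb hb) (fun e => q (congrArg Subtype.val e))
        (fun g => by rw [← conj_mul]; exact congrArg₂ _ (h2 g) (h2 g))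
        (by rw [← pow_two, ← pow_mul, ← pow_succ', hk])

end PM

end Cfsg.Agent.DIH
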