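/-
Project DIH: counting and automorphisms in the models.
-/
import Cfsg.Agent.DIH.Pc

set_option autoImplicit false

noncomputable section

namespace Cfsg.Agent.DIH

open H14 (force force_eq)
open Subgroup H49

namespace PM
variable {D : PD}

/-- the number of elements with a property -/
def cnt (p : PM D → Prop) [DecidablePred p] : ℕ :=
  Nat.rec (motive := fun _ => ℕ → ℕ) (fun r => r)
    (fun i ih r => Bool.rec (ih r) (force (Nat.succ r) ih) (decide (p (el D i))))
    (Nat.pow (nat_lit 2) D.N) (nat_lit 0)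

theorem cnt_eq (p : PM D → Prop) [DecidablePred p] : Nat.card {a // p a} = cnt p := by
  have h : ∀ n r : ℕ, Nat.rec (motive := fun _ => ℕ → ℕ) (fun r => r)
      (fun i ih r => Bool.rec (ih r) (force (Nat.succ r) ih) (decide (p (el D i)))) n r =
      r + Nat.count (fun i => p (el D i)) n := fun n => by
    induction n with
    | zero => simp
    | succ n ih =>
      intro r
      rw [Nat.count_succ]
      by_cases q : p (el D n)
      · simp only [q, decide_true, if_true]; rw [force_eq, ih]; omega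
      · simp only [q, decide_false, ih, if_false]; omega
  rw [cnt, h, show nat_lit 0 = 0 from rfl, zero_add, Nat.count_eq_card_fintype,
    ← @Nat.card_eq_fintype_card _ (_)]
  have e : ∀ a : PM D, el D a.v = a := fun a => PM.ext (Nat.mod_eq_of_lt a.lt)
  exact Nat.card_congr ⟨fun a => ⟨a.1.v, a.1.lt, (e a.1).symm ▸ a.2⟩, fun i => ⟨el D i.1, i.2.2⟩,
    fun a => Subtype.ext (e a.1), fun i => Subtype.ext (Nat.mod_eq_of_lt i.2.1)⟩

theorem cnt_congr {D' : PD} (e : PM D ≃ PM D') {p : PM D → Prop} {q : PM D' → Prop} [DecidablePred p]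
    [DecidablePred q] (h : ∀ a, p a ↔ q (e a)) : cnt p = cnt q := by
  rw [← cnt_eq, ← cnt_eq]; exact Nat.card_congr (e.subtypeEquiv h)

theorem cnt_le {D' : PD} {f : PM D → PM D'} {p : PM D → Prop} {q : PM D' → Prop} [DecidablePred p]
    [DecidablePred q] (h : ∀ a, p a → q (f a)) (i : ∀ a b, p a → p b → f a = f b → a = b) :
    cnt p ≤ cnt q := by
  rw [← cnt_eq, ← cnt_eq]
  exact Nat.card_le_card_of_injective (fun a => ⟨f a.1, h a.1 a.2⟩)
    fun a b e => Subtype.ext (i _ _ a.2 b.2 (congrArg Subtype.val e))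

variable [D.OK] {G : Type*} [Group G] {f : PM D →* G}

theorem card_sub (K : Subgroup (PM D)) [DecidablePred (· ∈ K)] : Nat.card K = cnt (· ∈ K) := cnt_eq _

theorem card_cent (hf : Function.Injective f) (a : PM D) :
    Nat.card (f.range ⊓ 𝒞[f a] : Subgroup G) = cnt fun g => g * a = a * g := by
  rw [← cnt_eq]
  refine (Nat.card_congr (Equiv.ofBijective (fun g : {g : PM D // g * a = a * g} =>
    (⟨f g.1, ⟨g.1, rfl⟩, mem_cent1.2 (by rw [← map_mul, g.2, map_mul])⟩ :
      (f.range ⊓ 𝒞[f a] : Subgroup G))) ⟨fun x y e => Subtype.ext (hf (congrArg Subtype.val e)), ?_⟩)).symm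
  rintro ⟨_, ⟨g, rfl⟩, h⟩
  exact ⟨⟨g, hf (by rw [map_mul, map_mul]; exact mem_cent1.1 h)⟩, rfl⟩

/-- an element conjugating the image of a subgroup into the range -/
theorem exists_map (hf : Function.Injective f) {x : G} {K : Subgroup (PM D)}
    (h : ∀ a ∈ K, x * f a * x⁻¹ ∈ f.range) :
    ∃ α : K →* PM D, Function.Injective α ∧ ∀ a, f (α a) = x * f a * x⁻¹ := by
  let β : K →* f.range := (((MulAut.conj x).toMonoidHom.comp f).comp K.subtype).codRestrict _
    fun a => h a a.2
  have e : ∀ a, f ((MonoidHom.ofInjective hf).symm (β a)) = x * f a * x⁻¹ := fun a =>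
    MonoidHom.apply_ofInjective_symm hf (β a)
  refine ⟨(MonoidHom.ofInjective hf).symm.toMonoidHom.comp β, fun a b q => ?_, e⟩
  have := (e a).symm.trans ((congrArg f q).trans (e b))
  exact Subtype.ext (hf (mul_left_cancel (mul_right_cancel this)))

/-- an element normalizing the range induces an automorphism of the model -/
theorem exists_aut (hf : Function.Injective f) {x : G} (h : x ∈ 𝒩(f.range)) :
    ∃ α : PM D ≃* PM D, ∀ a, f (α a) = x * f a * x⁻¹ := by
  obtain ⟨α, h1, h2⟩ := exists_map hf (K := ⊤) fun a _ => conj_mem_of_norm le_rfl h ⟨a, rfl⟩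
  let β : PM D →* PM D := α.comp topEquiv.symm.toMonoidHom
  have hb : Function.Injective β := h1.comp topEquiv.symm.injective
  exact ⟨MulEquiv.ofBijective β ⟨hb, Finite.injective_iff_surjective.1 hb⟩, fun a => h2 _⟩

/-- a subgroup of the model given by a decidable predicate -/
def sub (p : PM D → Prop) (h1 : p 1) (gs : List (PM D)) (h2 : ∀ g ∈ gs, ∀ a, p a → p (a * g))
    (h3 : ∀ a, p a → a ∈ closure {g | g ∈ gs}) : Subgroup (PM D) :=
  (closure {g | g ∈ gs}).copy {a | p a} (Set.ext fun a => ⟨h3 a, fun ha => by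
    have : a ∈ Submonoid.closure {g | g ∈ gs} := by
      rw [← closure_toSubmonoid_of_finite]; exact ha
    exact Submonoid.closure_induction_right (motive := fun a _ => p a) h1 (fun x _ y hy hx => h2 y hy x hx) this⟩)

/-- the same with a quadratic test -/
def subQ (p : PM D → Prop) (h1 : p 1) (h2 : ∀ a, p a → ∀ b, p b → p (a * b)) : Subgroup (PM D) where
  carrier := {a | p a}
  one_mem' := h1
  mul_mem' := fun ha hb => h2 _ ha _ hb
  inv_mem' := fun {a} ha => by
    have k : ∀ n : ℕ, p (a ^ n) := fun n => by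
      induction n with
      | zero => rwa [pow_zero]
      | succ n ih => rw [pow_succ]; exact h2 _ ih _ ha
    have := k (orderOf a - 1)
    rwa [eq_inv_of_mul_eq_one_left (show a ^ (orderOf a - 1) * a = 1 by
      rw [← pow_succ, Nat.sub_add_cancel (orderOf_pos a), pow_orderOf_eq_one])] at this

theorem induction_right {p : PM D → Prop} (h1 : p 1) (h2 : ∀ i < D.N, ∀ a, p a → p (a * el D (2 ^ i)))
    (a : PM D) : p a := by
  have : a ∈ Submonoid.closure {g | ∃ i < D.N, g = el D (2 ^ i)} := by
    rw [← closure_toSubmonoid_of_finite]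
    exact range_le (f := MonoidHom.id _) (fun i hi => Subgroup.subset_closure (by exact ⟨i, hi, rfl⟩)) ⟨a, rfl⟩
  exact Submonoid.closure_induction_right (motive := fun a _ => p a) h1
    (fun x _ y hy hx => by obtain ⟨i, hi, rfl⟩ := hy; exact h2 i hi x hx) this

/-- a function that is multiplicative on the generators -/
def homOf (χ : PM D → G) (h1 : χ 1 = 1)
    (h2 : ∀ i < D.N, ∀ a, χ (a * el D (2 ^ i)) = χ a * χ (el D (2 ^ i))) : PM D →* G :=
  MonoidHom.mk' χ fun a b => induction_right (p := fun b => χ (a * b) = χ a * χ b) (by simp [h1])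
    (fun i hi b hb => by rw [← mul_assoc, h2 i hi, h2 i hi, hb, mul_assoc]) b

end PM

end Cfsg.Agent.DIH
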